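import Cfsg.Agent.Lib.JankoFour.AutM22

/-!
# An automorphism of M22 fixing one element of order three and inverting a commuting one
-/

set_option autoImplicit false
set_option maxRecDepth 100000
set_option linter.style.haveILetI false

namespace Cfsg.Lib.JankoFourOrder

open Cfsg Cfsg.Lib.Concrete Cfsg.Lib.JankoFour Cfsg.Lib.JankoFour.AutM22 Cfsg.Lib.JankoFour.M22Cert
open Cfsg.Lib.FusionSys.MathieuCert (toPerm toPerm_eq)

/-- The check on one pair of packed permutations. -/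
def witB (k r : ℕ × ℕ) : Bool :=
  moves transThree0.x.1 transThree0.x.1 k.1 && !(sameP r.1 pId) && !(sameP r.1 transThree0.x.1) &&
    threeSylow.any fun r' => prodCheck r.1 r'.1 pId && moves r.1 r'.1 k.1 &&
      !(sameP r'.1 transThree0.x.1)

theorem wit_ok : (transThree0.elems.any fun k => threeSylow.any fun r => witB k r) = true := by decide +kernel

/-- The elements. -/
theorem aut_witness : ∃ x y u : A22, x ^ 3 = 1 ∧ y ^ 3 = 1 ∧ x ≠ 1 ∧ y ≠ 1 ∧ y ≠ x ∧ y ≠ x⁻¹ ∧ Commute x y ∧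
    u * x * u⁻¹ = x ∧ u * y * u⁻¹ = y⁻¹ := by
  obtain ⟨k, hk, h⟩ := List.any_eq_true.1 wit_ok
  obtain ⟨r, hr, h⟩ := List.any_eq_true.1 h
  simp only [witB, Bool.and_eq_true, Bool.not_eq_true', List.any_eq_true] at h
  obtain ⟨⟨⟨hkx, hr1⟩, hrx⟩, r', hr', ⟨hinv, hkr⟩, hrx'⟩ := h
  have hc := List.all_eq_true.1 transThrees_check transThree0 (by simp [transThrees])
  simp only [TransCert.check, Bool.and_eq_true, List.all_eq_true] at hc
  have hk' := hc.1.1.2 k hk
  have hL : threeSylow.all elemOk = true := by decide +kernel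
  obtain ⟨-, hxr, -, -⟩ := elem_spec threeRep_ok
  obtain ⟨-, hkrep, -, -⟩ := elem_spec hk'.1.1
  obtain ⟨-, hrr, -, -⟩ := elem_spec (List.all_eq_true.1 hL r hr)
  obtain ⟨-, hrr', -, -⟩ := elem_spec (List.all_eq_true.1 hL r' hr')
  have hpair : toPerm k.1 ∈ Pair := elemOk_mem_Pair (by rw [Bool.and_eq_true]; exact hk'.1)
  have hx3 : a0 ∈ threeR := ⟨transThree0.x.1, by decide +kernel, hxr⟩
  have hy3 : toPerm r.1 ∈ threeR := ⟨r.1, List.mem_map.2 ⟨r, hr, rfl⟩, hrr⟩
  obtain ⟨x, hx⟩ := exists_perm (sporM22_le_Pair a0_mem)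
  obtain ⟨y, hy⟩ := exists_perm (sporM22_le_Pair (threeR_le hy3))
  obtain ⟨u, hu⟩ := exists_perm hpair
  have hri : toPerm r'.1 = (toPerm r.1)⁻¹ := eq_inv_of_mul_eq_one_right
    (((hrr.mul hrr') hinv).ext rep_one)
  have ne_of : ∀ {g h : Equiv.Perm GolayPt} {p q : ℕ}, Rep g p → Rep h q → sameP p q = false → g ≠ h :=
    fun hg hh hs e => by rw [(sameP_iff hg hh).2 e] at hs; exact Bool.noConfusion hs
  refine ⟨x, y, u, ?_, ?_, ?_, ?_, ?_, ?_, ?_, ?_, ?_⟩
  · exact perm_injective (by rw [map_pow, hx, map_one]; exact threeR_cube hx3)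
  · exact perm_injective (by rw [map_pow, hy, map_one]; exact threeR_cube hy3)
  · exact fun e => absurd ((sameP_iff hxr rep_one).2 (show a0 = 1 by rw [← hx, e, map_one])) (by decide +kernel)
  · exact fun e => ne_of hrr rep_one hr1 (by rw [← hy, e, map_one])
  · exact fun e => ne_of hrr hxr hrx (by rw [← hy, e, hx]; rfl)
  · intro e
    refine ne_of hrr' hxr hrx' ?_
    rw [hri, ← hy, e, map_inv, inv_inv, hx]
    rfl
  · refine perm_injective ?_
    rw [map_mul, map_mul, hx, hy]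
    exact (threeR_comm hx3 hy3).eq
  · refine perm_injective ?_
    rw [map_mul, map_mul, map_inv, hx, hu]
    exact mul_inv_eq_iff_eq_mul.2 ((moves_iff hxr hxr hkrep).1 hkx)
  · refine perm_injective ?_
    rw [map_mul, map_mul, map_inv, map_inv, hy, hu, ← hri]
    exact mul_inv_eq_iff_eq_mul.2 ((moves_iff hrr hrr' hkrep).1 hkr)

end Cfsg.Lib.JankoFourOrder
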