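import Cfsg.Agent.Lib.JankoFour.AutM22
import Cfsg.Agent.Lib.Core.Cores

/-!
# A group over `Aut M₂₂` with a normal 2-subgroup and a factor of order three between them
-/

set_option autoImplicit false
set_option maxRecDepth 20000
set_option linter.style.haveILetI false
set_option linter.unusedSectionVars false

namespace Cfsg.Lib.JankoFourOrder

open Cfsg Cfsg.Lib.JankoFour.AutM22

/-- The inner automorphisms of `M₂₂`. -/
local notation "inner22" => Cfsg.Lib.JankoFour.AutM22.inner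

/-- A group over the automorphism group of `M₂₂`, the factor of order three centralized by the preimage of the
inner22 automorphisms and lying in its derived group. -/
structure Shape (H : Type*) [Group H] where
  /-- The 2-group. -/
  Q : Subgroup H
  /-- The kernel. -/
  N : Subgroup H
  /-- The map. -/
  θ : H →* A22
  normalQ : Q.Normal
  le : Q ≤ N
  isTwo : IsPGroup 2 ↥Q
  ker : θ.ker = N
  surj : Function.Surjective θ
  card_N : Nat.card ↥N = 3 * Nat.card ↥Q
  comm : ∀ m, θ m ∈ inner22 → ∀ n ∈ N, m * n * m⁻¹ * n⁻¹ ∈ Q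
  perf : (inner22).comap θ ≤ ⁅(inner22).comap θ, (inner22).comap θ⁆ ⊔ Q

namespace Shape

variable {H : Type*} [Group H] [Finite H] (σ : Shape H)

theorem normalN : σ.N.Normal := σ.ker ▸ σ.θ.normal_ker

theorem mem_N {h : H} : h ∈ σ.N ↔ σ.θ h = 1 := by rw [← σ.ker, MonoidHom.mem_ker]

theorem card_Q : ∃ k, Nat.card ↥σ.Q = 2 ^ k := by
  haveI : Fact (Nat.Prime 2) := ⟨Nat.prime_two⟩
  exact IsPGroup.iff_card.1 σ.isTwo

theorem exists_p : ∃ p ∈ σ.N, orderOf p = 3 := by
  haveI : Fact (Nat.Prime 3) := ⟨Nat.prime_three⟩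
  obtain ⟨x, hx⟩ := exists_prime_orderOf_dvd_card' (G := ↥σ.N) 3 (by rw [σ.card_N]; exact dvd_mul_right _ _)
  exact ⟨x, x.2, by rw [Subgroup.orderOf_coe, hx]⟩

/-- A member of the 2-group of order dividing a power of three is trivial. -/
theorem eq_one_of_three {q : H} (hq : q ∈ σ.Q) {n : ℕ} (h : q ^ (3 ^ n) = 1) : q = 1 := by
  obtain ⟨k, hk⟩ := σ.card_Q
  refine orderOf_eq_one_iff.1 (Nat.eq_one_of_dvd_coprimes (a := 2 ^ k) (b := 3 ^ n)
    (Nat.Coprime.pow _ _ (by norm_num)) (hk ▸ ?_) (orderOf_dvd_of_pow_eq_one h))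
  rw [← Subgroup.orderOf_mk q hq]
  exact orderOf_dvd_natCard _

variable {p : H} (hpN : p ∈ σ.N) (hp : orderOf p = 3)

include hp in
theorem p_cube : p ^ 3 = 1 := hp ▸ pow_orderOf_eq_one p

include hp in
theorem p_not_mem : p ∉ σ.Q := fun h => by
  have h1 := σ.eq_one_of_three h (n := 1) (by rw [pow_one]; exact p_cube hp)
  rw [h1, orderOf_one] at hp
  omega

include hpN hp in
/-- The kernel is the 2-group times the group of order three. -/
theorem split {n : H} (hn : n ∈ σ.N) : ∃ q ∈ σ.Q, ∃ i : ℕ, n = q * p ^ i := by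
  haveI := σ.normalQ
  have hle : σ.Q ⊔ Subgroup.zpowers p ≤ σ.N := sup_le σ.le (Subgroup.zpowers_le.2 hpN)
  have heq : σ.Q ⊔ Subgroup.zpowers p = σ.N := by
    refine Subgroup.eq_of_le_of_card_ge hle (le_of_eq ?_)
    obtain ⟨k, hk⟩ := σ.card_Q
    have h1 := Subgroup.card_dvd_of_le (le_sup_left : σ.Q ≤ σ.Q ⊔ Subgroup.zpowers p)
    have h2 := Subgroup.card_dvd_of_le (le_sup_right : Subgroup.zpowers p ≤ σ.Q ⊔ Subgroup.zpowers p)
    rw [Nat.card_zpowers, hp] at h2
    rw [hk] at h1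
    refine (Nat.dvd_antisymm (Subgroup.card_dvd_of_le hle) ?_).symm
    rw [σ.card_N, hk]
    exact Nat.Coprime.mul_dvd_of_dvd_of_dvd (Nat.Coprime.pow_right _ (by norm_num)) h2 h1
  rw [← heq, Subgroup.mem_sup_of_normal_left] at hn
  obtain ⟨q, hq, y, hy, rfl⟩ := hn
  obtain ⟨i, hi⟩ := (Submonoid.mem_powers_iff _ _).1 (mem_powers_iff_mem_zpowers.2 hy)
  exact ⟨q, hq, i, by rw [hi]⟩

include hpN hp in
/-- Every coset of the 2-group meets the normalizer of the group of order three. -/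
theorem frattini (h : H) : ∃ q ∈ σ.Q, (q * h) * p * (q * h)⁻¹ = p ∨ (q * h) * p * (q * h)⁻¹ = p⁻¹ := by
  haveI : Fact (Nat.Prime 3) := ⟨Nat.prime_three⟩
  haveI := σ.normalN
  haveI := σ.normalQ
  have hP : Nat.card ↥((Subgroup.zpowers p).subgroupOf σ.N) = 3 ^ (Nat.card ↥σ.N).factorization 3 := by
    obtain ⟨k, hk⟩ := σ.card_Q
    rw [Nat.card_congr (Subgroup.subgroupOfEquivOfLe (Subgroup.zpowers_le.2 hpN)).toEquiv, Nat.card_zpowers, hp,
      σ.card_N, hk, Nat.factorization_mul (by norm_num) (by positivity), Finsupp.add_apply,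
      Nat.Prime.factorization_self Nat.prime_three, Nat.factorization_eq_zero_of_not_dvd fun h3 =>
        absurd ((Nat.prime_dvd_prime_iff_eq Nat.prime_three Nat.prime_two).1 (Nat.prime_three.dvd_of_dvd_pow h3))
          (by norm_num)]
    norm_num
  have hs := Sylow.normalizer_sup_eq_top (Sylow.ofCard _ hP)
  have hmap : (((Sylow.ofCard _ hP : Sylow 3 ↥σ.N) : Subgroup ↥σ.N).map σ.N.subtype) = Subgroup.zpowers p := by
    show ((Subgroup.zpowers p).subgroupOf σ.N).map σ.N.subtype = _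
    rw [Subgroup.subgroupOf_map_subtype, inf_eq_left.2 (Subgroup.zpowers_le.2 hpN)]
  rw [hmap] at hs
  have hm : h ∈ σ.N ⊔ Subgroup.normalizer (Subgroup.zpowers p : Set H) := by
    rw [sup_comm, hs]; exact Subgroup.mem_top h
  rw [Subgroup.mem_sup_of_normal_left] at hm
  obtain ⟨n, hn, k, hk, rfl⟩ := hm
  obtain ⟨q, hq, i, rfl⟩ := σ.split hpN hp hn
  refine ⟨q⁻¹, inv_mem hq, ?_⟩
  rw [show q⁻¹ * (q * p ^ i * k) = p ^ i * k by group]
  have hm' : p ^ i * k ∈ Subgroup.normalizer (Subgroup.zpowers p : Set H) :=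
    mul_mem (Subgroup.le_normalizer (pow_mem (Subgroup.mem_zpowers p) i)) hk
  have hc : p ^ i * k * p * (p ^ i * k)⁻¹ ∈ Subgroup.zpowers p :=
    (Subgroup.mem_normalizer_iff.1 hm' p).1 (Subgroup.mem_zpowers p)
  obtain ⟨j, hj⟩ := (Submonoid.mem_powers_iff _ _).1 (mem_powers_iff_mem_zpowers.2 hc)
  rw [← hj, ← pow_mod_orderOf, hp]
  have h3 : j % 3 = 0 ∨ j % 3 = 1 ∨ j % 3 = 2 := by omega
  rcases h3 with e | e | e <;> rw [e]
  · exfalso
    rw [← pow_mod_orderOf, hp, e, pow_zero] at hj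
    rw [conj_eq_one_iff.1 hj.symm, orderOf_one] at hp
    omega
  · exact Or.inl (pow_one p)
  · exact Or.inr (eq_inv_of_mul_eq_one_left (by rw [← pow_succ]; exact p_cube hp))

include hpN hp in
/-- The centralizer of `p` covers the inner22 automorphisms modulo the 2-group. -/
theorem cover {m : H} (hm : σ.θ m ∈ inner22) : ∃ q ∈ σ.Q, Commute (q * m) p := by
  obtain ⟨q, hq, h | h⟩ := σ.frattini hpN hp m
  · exact ⟨q, hq, mul_inv_eq_iff_eq_mul.1 h⟩
  · exfalso
    have hθ : σ.θ (q * m) ∈ inner22 := by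
      rw [map_mul, σ.mem_N.1 (σ.le hq), one_mul]; exact hm
    have hmem := σ.comm _ hθ p hpN
    rw [h, show p⁻¹ * p⁻¹ = p by
      rw [← mul_inv_rev]; exact inv_eq_of_mul_eq_one_right (by rw [mul_assoc, ← pow_three]; exact p_cube hp)] at hmem
    exact σ.p_not_mem hp hmem

/-- The part of the centralizer of `p` over the inner22 automorphisms. -/
def L0 (p : H) : Subgroup H := Subgroup.centralizer ({p} : Set H) ⊓ (inner22).comap σ.θ

theorem mem_L0 {p l : H} : l ∈ σ.L0 p ↔ Commute l p ∧ σ.θ l ∈ inner22 := by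
  rw [L0, Subgroup.mem_inf, Subgroup.mem_centralizer_singleton_iff]
  rfl

include hpN in
theorem p_mem_L0 : p ∈ σ.L0 p := σ.mem_L0.2 ⟨Commute.refl p, by rw [σ.mem_N.1 hpN]; exact one_mem _⟩

include hpN hp in
theorem lift {a : A22} (ha : a ∈ inner22) : ∃ l ∈ σ.L0 p, σ.θ l = a := by
  obtain ⟨m, rfl⟩ := σ.surj a
  obtain ⟨q, hq, hc⟩ := σ.cover hpN hp ha
  have e : σ.θ (q * m) = σ.θ m := by rw [map_mul, σ.mem_N.1 (σ.le hq), one_mul]
  exact ⟨q * m, σ.mem_L0.2 ⟨hc, e ▸ ha⟩, e⟩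

include hpN hp in
/-- The element of order three lies in the derived group of its centralizer. -/
theorem p_mem_derived : p ∈ ⁅σ.L0 p, σ.L0 p⁆ := by
  haveI := σ.normalQ
  set M := (inner22).comap σ.θ
  have hmap : M.map (QuotientGroup.mk' σ.Q) ≤ (σ.L0 p).map (QuotientGroup.mk' σ.Q) := by
    rintro _ ⟨m, hm, rfl⟩
    obtain ⟨q, hq, hc⟩ := σ.cover hpN hp hm
    refine ⟨q * m, σ.mem_L0.2 ⟨hc, ?_⟩, ?_⟩
    · rw [map_mul, σ.mem_N.1 (σ.le hq), one_mul]; exact hm
    · rw [map_mul, show QuotientGroup.mk' σ.Q q = 1 from (QuotientGroup.eq_one_iff q).2 hq, one_mul]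
  have hle : ⁅M, M⁆ ≤ ⁅σ.L0 p, σ.L0 p⁆ ⊔ σ.Q := by
    have h : ⁅M, M⁆.map (QuotientGroup.mk' σ.Q) ≤ ⁅σ.L0 p, σ.L0 p⁆.map (QuotientGroup.mk' σ.Q) := by
      rw [Subgroup.map_commutator, Subgroup.map_commutator]
      exact Subgroup.commutator_mono hmap hmap
    rw [Subgroup.map_le_iff_le_comap, Subgroup.comap_map_eq, QuotientGroup.ker_mk'] at h
    exact h
  have hpM : p ∈ M := (σ.mem_L0.1 (σ.p_mem_L0 hpN)).2
  have hp' := (sup_le hle le_sup_right) (σ.perf hpM)
  rw [Subgroup.mem_sup_of_normal_right] at hp'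
  obtain ⟨d, hd, q, hq, e⟩ := hp'
  obtain ⟨k, hk⟩ := σ.card_Q
  have hdc : Commute d p :=
    (σ.mem_L0.1 (Subgroup.commutator_le.2 (fun a ha b hb =>
      mul_mem (mul_mem (mul_mem ha hb) (inv_mem ha)) (inv_mem hb)) hd : d ∈ σ.L0 p)).1
  have hqc : Commute q p := by
    have : q = d⁻¹ * p := by rw [← e]; group
    rw [this]
    exact hdc.inv_left.mul_left (Commute.refl p)
  have hd' : d = p * q⁻¹ := by rw [← e]; group
  have hpow : d ^ 2 ^ k = p ^ 2 ^ k := by
    rw [hd', (hqc.inv_left.symm).mul_pow, inv_pow, show q ^ 2 ^ k = 1 by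
      rw [← hk]
      exact congrArg Subtype.val (pow_card_eq_one' (x := (⟨q, hq⟩ : ↥σ.Q))), inv_one, mul_one]
  have hco : Nat.Coprime (2 ^ k) (orderOf p) := by rw [hp]; exact Nat.Coprime.pow_left _ (by norm_num)
  obtain ⟨m, hm⟩ := exists_pow_eq_self_of_coprime hco
  have e' := pow_mem (pow_mem hd (2 ^ k)) m
  rw [hpow, hm] at e'
  exact e'

include hpN hp in
/-- The members of the kernel commuting with `p`. -/
theorem ker_L0 {n : H} (hn : n ∈ σ.N) (hc : Commute n p) :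
    ∃ q ∈ σ.Q, Commute q p ∧ ∃ i : ℕ, n = q * p ^ i := by
  obtain ⟨q, hq, i, rfl⟩ := σ.split hpN hp hn
  refine ⟨q, hq, ?_, i, rfl⟩
  have h := hc.mul_left ((Commute.refl p).pow_left i).inv_left
  rwa [mul_inv_cancel_right] at h

include hpN hp in
theorem mem_zpowers_of_three {r : H} (hn : r ∈ σ.N) (hc : Commute r p) {m : ℕ} (h : r ^ 3 ^ m = 1) :
    r ∈ Subgroup.zpowers p := by
  obtain ⟨q, hq, hqc, i, rfl⟩ := σ.ker_L0 hpN hp hn hc
  rw [(hqc.pow_right i).mul_pow] at h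
  have h3 : (p ^ i) ^ 3 ^ (m + 1) = 1 := by
    rw [← pow_mul, mul_comm, pow_mul, pow_succ', pow_mul, p_cube hp, one_pow, one_pow]
  have hq1 : q ^ 3 ^ (m + 1) = 1 := by
    have := congrArg (· ^ 3) h
    simp only [one_pow] at this
    rwa [((hqc.pow_right i).pow_pow _ _).mul_pow, ← pow_mul, ← pow_mul (p ^ i), ← pow_succ, h3, mul_one] at this
  rw [σ.eq_one_of_three hq hq1, one_mul]
  exact pow_mem (Subgroup.mem_zpowers p) i

include hpN hp in
/-- A Sylow 3-subgroup of the centralizer of `p` over the inner22 automorphisms is nonabelian of exponent dividing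
nine: there are `a` of order three and `b` with `b` moving `a` by a power of `p`. -/
theorem exists_three : ∃ a b c : H, Commute a p ∧ Commute b p ∧ σ.θ a ∈ inner22 ∧ σ.θ b ∈ inner22 ∧ a ^ 3 = 1 ∧
    (c = p ∨ c = p⁻¹) ∧ b * a * b⁻¹ = a * c := by
  classical
  haveI : Fact (Nat.Prime 3) := ⟨Nat.prime_three⟩
  set L := σ.L0 p with hL
  obtain ⟨R⟩ := (inferInstance : Nonempty (Sylow 3 ↥L))
  set p0 : ↥L := ⟨p, σ.p_mem_L0 hpN⟩ with hp0
  have hp03 : orderOf p0 = 3 := by rw [hp0, Subgroup.orderOf_mk, hp]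
  have hcen : ∀ l : ↥L, Commute l p0 := fun l => Subtype.ext (σ.mem_L0.1 l.2).1.eq
  have hpR : p0 ∈ R := by
    have hle : Subgroup.zpowers p0 ≤ Subgroup.normalizer ((R : Subgroup ↥L) : Set ↥L) :=
      Subgroup.zpowers_le.2 (Subgroup.mem_normalizer_iff.2 fun x => by rw [(hcen x).symm.eq, mul_inv_cancel_right])
    have hP : IsPGroup 3 ↥(Subgroup.zpowers p0) := IsPGroup.of_card (n := 1) (by rw [Nat.card_zpowers, hp03, pow_one])
    show p0 ∈ (R : Subgroup ↥L)
    rw [← R.3 (hP.to_sup_of_normal_right' R.isPGroup' hle) le_sup_right]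
    exact Subgroup.mem_sup_left (Subgroup.mem_zpowers p0)
  let θ' : ↥L →* ↥inner22 := (σ.θ.comp L.subtype).codRestrict inner22 fun l => (σ.mem_L0.1 l.2).2
  have hsurj : Function.Surjective θ' := fun a => by
    obtain ⟨l, hl, e⟩ := σ.lift hpN hp a.2
    exact ⟨⟨l, hl⟩, Subtype.ext e⟩
  have hnc : ∃ x ∈ R, ∃ y ∈ R, ¬ Commute x y := by
    by_contra hcon
    push Not at hcon
    letI : CommGroup ↥(R : Subgroup ↥L) :=
      { (inferInstance : Group ↥(R : Subgroup ↥L)) with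
        mul_comm := fun a b => Subtype.ext (hcon a a.2 b b.2).eq }
    let φ : ↥(R : Subgroup ↥L) →* ↥(R : Subgroup ↥L) := MonoidHom.id _
    have hmem : p0 ∈ commutator ↥L := by
      have h := σ.p_mem_derived hpN hp
      rw [← Subgroup.map_subtype_commutator] at h
      obtain ⟨x, hx, e⟩ := h
      rwa [show p0 = x from Subtype.ext e.symm]
    have hker : MonoidHom.transfer φ p0 = 1 :=
      MonoidHom.mem_ker.1 (Abelianization.commutator_subset_ker (MonoidHom.transfer φ) hmem)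
    rw [MonoidHom.transfer_eq_pow φ p0 fun k g₀ _ => by
      rw [mul_assoc, ← ((hcen g₀).pow_right k).eq, inv_mul_cancel_left]] at hker
    have h1 : p0 ^ (R : Subgroup ↥L).index = 1 := congrArg Subtype.val hker
    have h2 := orderOf_dvd_of_pow_eq_one h1
    rw [hp03] at h2
    exact R.not_dvd_index h2
  let T : Sylow 3 ↥inner22 := R.mapSurjective hsurj
  have hT9 : Nat.card ↥(T : Subgroup ↥inner22) = 9 := by
    rw [T.card_eq_multiplicity, card_inner, show (443520 : ℕ) = 3 ^ 2 * 49280 by norm_num,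
      Nat.factorization_mul (by norm_num) (by norm_num), Finsupp.add_apply,
      Nat.Prime.factorization_pow Nat.prime_three, Finsupp.single_eq_same,
      Nat.factorization_eq_zero_of_not_dvd (by norm_num : ¬ 3 ∣ 49280)]
    norm_num
  obtain ⟨hTab, hT3, -⟩ := facts.sylow_three ((T : Subgroup ↥inner22).map (inner22).subtype)
    (by rw [Subgroup.card_map_of_injective (inner22).subtype_injective, hT9])
  have himg : ∀ x ∈ R, σ.θ (x : ↥L) ∈ (T : Subgroup ↥inner22).map (inner22).subtype := fun x hx =>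
    ⟨θ' x, ⟨x, hx, rfl⟩, rfl⟩
  have hord : ∀ x ∈ R, ∃ m : ℕ, x ^ 3 ^ m = 1 := fun x hx => by
    obtain ⟨m, hm⟩ := R.isPGroup' ⟨x, hx⟩
    exact ⟨m, congrArg Subtype.val hm⟩
  have hP : ∀ x ∈ R, σ.θ (x : ↥L) = 1 → x ∈ Subgroup.zpowers p0 := fun x hx h1 => by
    obtain ⟨m, hm⟩ := hord x hx
    obtain ⟨j, hj⟩ := σ.mem_zpowers_of_three hpN hp (σ.mem_N.2 h1) (σ.mem_L0.1 x.2).1
      (by rw [← Subgroup.coe_pow, hm, Subgroup.coe_one])
    exact ⟨j, Subtype.ext (by rw [Subgroup.coe_zpow]; exact hj)⟩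
  have hzc : ∀ {c : ↥L}, c ∈ Subgroup.zpowers p0 → (∀ x, Commute x c) ∧ c ^ 3 = 1 := by
    rintro _ ⟨j, rfl⟩
    refine ⟨fun x => (hcen x).zpow_right j, ?_⟩
    rw [← zpow_natCast, ← zpow_mul, mul_comm, zpow_mul, zpow_natCast, show p0 ^ 3 = 1 from hp03 ▸ pow_orderOf_eq_one p0,
      one_zpow]
  have hcom : ∀ x ∈ R, ∀ y ∈ R, x⁻¹ * y * x * y⁻¹ ∈ Subgroup.zpowers p0 := fun x hx y hy =>
    hP _ (mul_mem (mul_mem (mul_mem (inv_mem hx) hy) hx) (inv_mem hy)) (by
      rw [Subgroup.coe_mul, Subgroup.coe_mul, Subgroup.coe_mul, Subgroup.coe_inv, Subgroup.coe_inv, map_mul, map_mul,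
        map_mul, map_inv, map_inv, mul_assoc (σ.θ (x : ↥L))⁻¹, (hTab _ (himg y hy) _ (himg x hx)).eq, ← mul_assoc,
        inv_mul_cancel, one_mul, mul_inv_cancel])
  let cube : ↥(R : Subgroup ↥L) →* ↥L := MonoidHom.mk' (fun x => (x : ↥L) ^ 3) fun x y => by
    set u := (x : ↥L)
    set v := (y : ↥L)
    obtain ⟨hc, hc3⟩ := hzc (hcom u x.2 v y.2)
    set c := u⁻¹ * v * u * v⁻¹
    have hvu : v * u = u * v * c := by
      rw [mul_assoc, (hc v).eq]
      show v * u = u * (u⁻¹ * v * u * v⁻¹ * v)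
      group
    show (u * v) ^ 3 = u ^ 3 * v ^ 3
    calc (u * v) ^ 3 = u * (v * u) * (v * u) * v := by rw [pow_three]; group
      _ = u * (u * v * c) * (u * v * c) * v := by rw [hvu]
      _ = u * u * v * (c * (u * v)) * (c * v) := by group
      _ = u * u * v * (u * v * c) * (v * c) := by rw [(hc (u * v)).eq, (hc v).eq]
      _ = u * u * (v * u) * v * (c * v) * c := by group
      _ = u * u * (u * v * c) * v * (v * c) * c := by rw [hvu, (hc v).eq]
      _ = u * u * u * v * (c * v) * v * c * c := by group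
      _ = u * u * u * v * (v * c) * v * c * c := by rw [(hc v).eq]
      _ = u * u * u * v * v * (c * v) * c * c := by group
      _ = u * u * u * v * v * (v * c) * c * c := by rw [(hc v).eq]
      _ = u * u * u * (v * v * v) * (c * c * c) := by group
      _ = u ^ 3 * v ^ 3 := by
        rw [show c * c * c = c ^ 3 by rw [pow_three, mul_assoc], hc3, mul_one, pow_three, pow_three]
        group
  obtain ⟨a, haR, ha3, haP⟩ : ∃ a ∈ R, a ^ 3 = 1 ∧ a ∉ Subgroup.zpowers p0 := by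
    by_contra hcon
    push Not at hcon
    have hk : Nat.card ↥cube.ker ≤ 3 := by
      refine le_of_le_of_eq ?_ ((Nat.card_zpowers p0).trans hp03)
      exact Nat.card_le_card_of_injective (fun x => (⟨x.1.1, hcon _ x.1.2 x.2⟩ : ↥(Subgroup.zpowers p0)))
        fun x y h => Subtype.ext (Subtype.ext (congrArg Subtype.val h :))
    have hr : Nat.card ↥cube.range ≤ 3 := by
      refine le_of_le_of_eq ?_ ((Nat.card_zpowers p0).trans hp03)
      refine Subgroup.card_le_of_le ?_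
      rintro _ ⟨x, rfl⟩
      exact hP _ (pow_mem x.2 3) (by
        show σ.θ (((x : ↥L) ^ 3 : ↥L) : H) = 1
        rw [Subgroup.coe_pow, map_pow]
        exact hT3 _ (himg _ x.2))
    have h9 : 9 * 3 ≤ Nat.card ↥(R : Subgroup ↥L) := by
      set ρ := θ'.comp (R : Subgroup ↥L).subtype
      have e : Nat.card ↥(T : Subgroup ↥inner22) = Nat.card ↥ρ.range := by
        rw [MonoidHom.range_comp, Subgroup.range_subtype]
        rfl
      rw [← ρ.ker.card_mul_index, Subgroup.index_ker, ← e, hT9, mul_comm]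
      refine Nat.mul_le_mul_right 9 ?_
      refine le_of_eq_of_le ((Nat.card_zpowers p0).trans hp03).symm ?_
      exact Nat.card_le_card_of_injective (fun x => (⟨⟨x.1, Subgroup.zpowers_le.2 hpR x.2⟩, Subtype.ext (by
          show σ.θ (x.1 : ↥L) = 1
          obtain ⟨j, hj⟩ := x.2
          rw [← hj, Subgroup.coe_zpow, map_zpow, σ.mem_N.1 hpN, one_zpow])⟩ : ↥ρ.ker))
        fun x y h => Subtype.ext (congrArg (fun w : ↥ρ.ker => w.1.1) h)
    rw [← cube.ker.card_mul_index, Subgroup.index_ker] at h9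
    have := Nat.mul_le_mul hk hr
    omega
  obtain ⟨b, hbR, hab⟩ : ∃ b ∈ R, ¬ Commute a b := by
    by_contra hcon
    push Not at hcon
    obtain ⟨x, hx, y, hy, hxy⟩ := hnc
    have hcomm : ∀ {u : ↥L}, u ∈ R → (∃ k : ℤ, σ.θ (u : H) = σ.θ (a : H) ^ k) → ∀ v ∈ R, Commute u v := by
      rintro u hu ⟨k, hk⟩ v hv
      have hd : (a ^ k)⁻¹ * u ∈ Subgroup.zpowers p0 := hP _ (mul_mem (inv_mem (zpow_mem haR k)) hu) (by
        rw [Subgroup.coe_mul, map_mul, Subgroup.coe_inv, map_inv, Subgroup.coe_zpow, map_zpow, hk, inv_mul_cancel])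
      rw [show u = a ^ k * ((a ^ k)⁻¹ * u) by group]
      exact ((hcon v hv).zpow_left k).mul_left ((hzc hd).1 v).symm
    set θL := σ.θ.comp L.subtype
    set Z := Subgroup.centralizer ({x} : Set ↥L) ⊓ (R : Subgroup ↥L)
    set T' := (T : Subgroup ↥inner22).map (inner22).subtype
    have hle : Z.map θL ≤ T' := by
      rintro _ ⟨u, hu, rfl⟩
      exact himg u (Subgroup.mem_inf.1 hu).2
    have ha1 : θL a ≠ 1 := fun e => haP (hP a haR e)
    have hax : θL a ∈ Z.map θL :=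
      ⟨a, Subgroup.mem_inf.2 ⟨Subgroup.mem_centralizer_singleton_iff.2 (hcon x hx).eq, haR⟩, rfl⟩
    have hxx : θL x ∈ Z.map θL :=
      ⟨x, Subgroup.mem_inf.2 ⟨Subgroup.mem_centralizer_singleton_iff.2 rfl, hx⟩, rfl⟩
    have hT'9 : Nat.card ↥T' = 9 := by rw [Subgroup.card_map_of_injective (inner22).subtype_injective, hT9]
    have hdvd := Subgroup.card_dvd_of_le hle
    rw [hT'9] at hdvd
    have hlt : 3 < Nat.card ↥(Z.map θL) := by
      by_contra hle3
      have hord : orderOf (θL a) = 3 := orderOf_eq_prime (by rw [← map_pow, ha3, map_one]) ha1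
      have e : Subgroup.zpowers (θL a) = Z.map θL :=
        Subgroup.eq_of_le_of_card_ge (Subgroup.zpowers_le.2 hax) (by rw [Nat.card_zpowers, hord]; omega)
      rw [← e] at hxx
      obtain ⟨k, hk⟩ := hxx
      exact hxy (hcomm hx ⟨k, hk.symm⟩ y hy)
    have hfull : Z.map θL = T' := Subgroup.eq_of_le_of_card_ge hle (by
      rw [hT'9]
      obtain ⟨j, hj, he⟩ := (Nat.dvd_prime_pow Nat.prime_three).1 (show Nat.card ↥(Z.map θL) ∣ 3 ^ 2 from hdvd)
      interval_cases j <;> omega)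
    obtain ⟨u, hu, hue⟩ : θL y ∈ Z.map θL := hfull ▸ himg y hy
    obtain ⟨hux, huR⟩ := Subgroup.mem_inf.1 hu
    have hd : u⁻¹ * y ∈ Subgroup.zpowers p0 := hP _ (mul_mem (inv_mem huR) hy) (by
      show θL (u⁻¹ * y) = 1
      rw [map_mul, map_inv, hue, inv_mul_cancel])
    refine hxy ?_
    rw [show y = u * (u⁻¹ * y) by group]
    exact (show Commute x u from (Subgroup.mem_centralizer_singleton_iff.1 hux).symm).mul_right ((hzc hd).1 x)
  have hk := hcom _ (inv_mem haR) b hbR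
  rw [inv_inv] at hk
  obtain ⟨j, hj⟩ := (Submonoid.mem_powers_iff _ _).1 (mem_powers_iff_mem_zpowers.2 hk)
  have hc : b * a * b⁻¹ = a * (p0 ^ j)⁻¹ := by
    rw [hj, show b * a * b⁻¹ = a * (a⁻¹ * b * a * b⁻¹) by group]
    have e : a * b * a⁻¹ * b⁻¹ = p0 ^ j := hj.symm
    calc a * (a⁻¹ * b * a * b⁻¹) = a * (a⁻¹ * (a * b * a⁻¹ * b⁻¹)⁻¹ * a) := by group
      _ = a * (a * b * a⁻¹ * b⁻¹)⁻¹ := by
        rw [e, (((hcen a).pow_right j).inv_right.inv_left).eq]; group
  rw [← pow_mod_orderOf, hp03] at hc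
  have h3 : j % 3 = 0 ∨ j % 3 = 1 ∨ j % 3 = 2 := by omega
  have hae : (a : H) ^ 3 = 1 := congrArg Subtype.val ha3
  rcases h3 with e | e | e <;> rw [e] at hc
  · rw [pow_zero, inv_one, mul_one, mul_inv_eq_iff_eq_mul] at hc
    exact absurd (show Commute a b from hc.symm) hab
  · exact ⟨a, b, p⁻¹, (σ.mem_L0.1 a.2).1, (σ.mem_L0.1 b.2).1, (σ.mem_L0.1 a.2).2, (σ.mem_L0.1 b.2).2, hae,
      Or.inr rfl, by simpa using congrArg Subtype.val hc⟩
  · refine ⟨a, b, p, (σ.mem_L0.1 a.2).1, (σ.mem_L0.1 b.2).1, (σ.mem_L0.1 a.2).2, (σ.mem_L0.1 b.2).2, hae,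
      Or.inl rfl, ?_⟩
    rw [show (p0 ^ 2)⁻¹ = p0 from inv_eq_of_mul_eq_one_right (by rw [← pow_succ, show 2 + 1 = orderOf p0 by rw [hp03], pow_orderOf_eq_one])] at hc
    simpa using congrArg Subtype.val hc

include hpN hp in
/-- An element of order eleven centralizing `p`. -/
theorem exists_eleven : ∃ x ∈ σ.L0 p, orderOf x = 11 ∧ σ.θ x ≠ 1 := by
  haveI : Fact (Nat.Prime 11) := ⟨by norm_num⟩
  obtain ⟨a, ha⟩ := exists_prime_orderOf_dvd_card' (G := ↥inner22) 11 (by rw [card_inner]; norm_num)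
  obtain ⟨l, hl, e⟩ := σ.lift hpN hp a.2
  have h11 : 11 ∣ orderOf l := by
    rw [← ha, ← Subgroup.orderOf_coe, ← e]
    exact orderOf_map_dvd _ _
  refine ⟨l ^ (orderOf l / 11), pow_mem hl _, ?_, fun h1 => ?_⟩
  · rw [orderOf_pow_of_dvd (by
      have := orderOf_pos l; omega) (Nat.div_dvd_of_dvd h11), Nat.div_div_self h11 (orderOf_pos l).ne']
  · have hN := σ.mem_N.2 h1
    have hd : 11 ∣ Nat.card ↥σ.N := by
      rw [← show orderOf (l ^ (orderOf l / 11)) = 11 by
        rw [orderOf_pow_of_dvd (by have := orderOf_pos l; omega) (Nat.div_dvd_of_dvd h11),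
          Nat.div_div_self h11 (orderOf_pos l).ne'], ← Subgroup.orderOf_mk _ hN]
      exact orderOf_dvd_natCard _
    obtain ⟨k, hk⟩ := σ.card_Q
    rw [σ.card_N, hk] at hd
    rcases (Nat.Prime.dvd_mul (by norm_num)).1 hd with h | h
    · norm_num at h
    · have := Nat.Prime.dvd_of_dvd_pow (by norm_num : Nat.Prime 11) h
      norm_num at this

end Shape

end Cfsg.Lib.JankoFourOrder
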