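import Cfsg.Agent.Lib.JankoFour.Quot
import Cfsg.Agent.Lib.Extra.LargeTwoCore
import Cfsg.Agent.Lib.JankoFourOrder.AutWitness
import Cfsg.Agent.Lib.JankoFourOrder.ShapeGroup
import Cfsg.Prelude.Def_JankoFourType

/-!
# The conditions of Janko-four type from the shape of the centralizer
-/

set_option autoImplicit false
set_option maxRecDepth 20000
set_option linter.style.haveILetI false
set_option linter.unusedSectionVars false

namespace Cfsg.Lib.JankoFourOrder

open Cfsg Cfsg.Lib.Extra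

/-- The inner automorphisms of `M₂₂`. -/
local notation "inner22" => Cfsg.Lib.JankoFour.AutM22.inner

/-- Being extraspecial is invariant under isomorphism. -/
theorem isExtraspecial_congr {P P' : Type*} [Group P] [Group P'] {p : ℕ} (e : P ≃* P')
    (h : Cfsg.IsExtraspecial p P) : Cfsg.IsExtraspecial p P' := by
  obtain ⟨⟨hp, hf, hc⟩, hcard⟩ := h
  have hcen : (Subgroup.center P).map e.toMonoidHom = Subgroup.center P' := by
    ext x
    rw [Subgroup.mem_map_equiv, Subgroup.mem_center_iff, Subgroup.mem_center_iff]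
    refine ⟨fun h g => ?_, fun h g => ?_⟩
    · simpa using congrArg e (h (e.symm g))
    · exact e.injective (by simpa using h (e g))
  have hcom : (commutator P).map e.toMonoidHom = commutator P' := by
    rw [commutator_def, commutator_def, Subgroup.map_commutator,
      Subgroup.map_top_of_surjective _ e.surjective]
  have hfr : (frattini P).map e.toMonoidHom = frattini P' := e.mapSubgroup.map_radical
  refine ⟨⟨hp.of_equiv e, ?_, ?_⟩, ?_⟩
  · rw [← hfr, hf, hcen]
  · rw [← hcom, hc, hcen]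
  · rw [← hcen, Subgroup.card_map_of_injective e.injective, hcard]

section Fixed

variable {G : Type*} [Group G] [Finite G] {z : G} {E : Subgroup G} (ctx : Ctx E z)

open Cfsg.Lib.JankoFour

/-- The map `v ↦ p v + v`. -/
noncomputable def dlt (p : G) : Bar ctx →+ Bar ctx :=
  (act ctx p).toAddMonoidHom + AddMonoidHom.id _

theorem dlt_apply (p : G) (v : Bar ctx) : dlt ctx p v = act ctx p v + v := rfl

theorem mem_dlt_range {p c : G} (hp : Commute p z) (hc : Commute c z) (hcp : Commute c p) {v : Bar ctx}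
    (hv : v ∈ (dlt ctx p).range) : act ctx c v ∈ (dlt ctx p).range := by
  obtain ⟨w, rfl⟩ := hv
  refine ⟨act ctx c w, ?_⟩
  rw [dlt_apply, dlt_apply, map_add, ← act_mul ctx hp hc, ← act_mul ctx hc hp, hcp.eq]

theorem act_cube {p : G} (hp : Commute p z) (hp3 : p ^ 3 = 1) (v : Bar ctx) :
    act ctx p (act ctx p (act ctx p v)) = v := by
  rw [← act_mul ctx hp hp, ← act_mul ctx (hp.mul_left hp) hp, mul_assoc, ← pow_three, hp3, act_one]

/-- The sum of the translates of a member of the range vanishes. -/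
theorem dlt_trace {p : G} (hp : Commute p z) (hp3 : p ^ 3 = 1) {w : Bar ctx} (hw : w ∈ (dlt ctx p).range) :
    w + act ctx p w + act ctx p (act ctx p w) = 0 := by
  obtain ⟨v, rfl⟩ := hw
  rw [dlt_apply, map_add, map_add, act_cube ctx hp hp3]
  have h := bar_self ctx v
  have h1 := bar_self ctx (act ctx p v)
  have h2 := bar_self ctx (act ctx p (act ctx p v))
  calc act ctx p v + v + (act ctx p (act ctx p v) + act ctx p v) + (v + act ctx p (act ctx p v))
      = (v + v) + (act ctx p v + act ctx p v) + (act ctx p (act ctx p v) + act ctx p (act ctx p v)) := by abel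
    _ = 0 := by rw [h, h1, h2, add_zero, add_zero]

/-- An element of order eleven acts trivially on an invariant subgroup of order less than `2¹⁰`. -/
theorem trivial_of_eleven {x : G} (hx : Commute x z) (hx11 : x ^ 11 = 1) (U : AddSubgroup (Bar ctx))
    (hU : ∀ v ∈ U, act ctx x v ∈ U) {j : ℕ} (hj : Nat.card ↥U = 2 ^ j) (hlt : j < 10) :
    ∀ v ∈ U, act ctx x v = v := by
  classical
  haveI : Fact (Nat.Prime 11) := ⟨by norm_num⟩
  haveI : Fact (Nat.Prime 2) := ⟨Nat.prime_two⟩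
  haveI : Fintype ↥U := Fintype.ofFinite _
  let f : ↥U → ↥U := fun v => ⟨act ctx x v, hU v v.2⟩
  have hinj : Function.Injective f := fun a b h =>
    Subtype.ext (act_injective ctx hx (congrArg Subtype.val h))
  let π : Equiv.Perm ↥U := Equiv.ofBijective f (Finite.injective_iff_bijective.1 hinj)
  have hpow : ∀ (n : ℕ) (v : ↥U), (((π ^ n) v : ↥U) : Bar ctx) = act ctx (x ^ n) v := by
    intro n
    induction n with
    | zero => intro v; rw [pow_zero, pow_zero, Equiv.Perm.one_apply, act_one]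
    | succ n ih =>
      intro v
      rw [pow_succ', pow_succ', Equiv.Perm.mul_apply, act_mul ctx hx (hx.pow_left n), ← ih]
      rfl
  have hπ : π ^ 11 ^ 1 = 1 := Equiv.ext fun v => Subtype.ext (by
    rw [pow_one, hpow, hx11, act_one]
    rfl)
  have hm := Equiv.Perm.card_compl_support_modEq hπ
  let Fx : AddSubgroup ↥U :=
    { carrier := {v | act ctx x (v : Bar ctx) = v}
      zero_mem' := map_zero _
      add_mem' := fun {a b} ha hb => by
        show act ctx x ((a : Bar ctx) + b) = _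
        rw [map_add, ha, hb]
        rfl
      neg_mem' := fun {a} ha => by
        show act ctx x (-(a : Bar ctx)) = -(a : Bar ctx)
        rw [Cfsg.Lib.JankoFour.neg_eq_self]
        exact ha }
  have hFx : Nat.card ↥Fx = π.supportᶜ.card := by
    rw [Nat.card_eq_fintype_card, Fintype.card_of_subtype]
    intro v
    rw [Finset.mem_compl, Equiv.Perm.notMem_support]
    exact ⟨fun h => congrArg Subtype.val h, fun h => Subtype.ext h⟩
  obtain ⟨i, hi, hie⟩ := (Nat.dvd_prime_pow Nat.prime_two).1 (hj ▸ Fx.card_addSubgroup_dvd_card)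
  have hij : i = j := by
    rw [Nat.ModEq, ← hFx, hie, ← Nat.card_eq_fintype_card, hj] at hm
    have key : ∀ a < 10, ∀ b < 10, 2 ^ a % 11 = 2 ^ b % 11 → a = b := by decide
    exact key i (by omega) j hlt hm
  have htop : Fx = ⊤ := AddSubgroup.eq_top_of_card_eq Fx (by rw [hie, hij, hj])
  intro v hv
  exact (show (⟨v, hv⟩ : ↥U) ∈ Fx from htop ▸ AddSubgroup.mem_top _)

/-- The fixed members of the range. -/
noncomputable def fixR (p g : G) : AddSubgroup (Bar ctx) where
  carrier := {w | w ∈ (dlt ctx p).range ∧ act ctx g w = w}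
  zero_mem' := ⟨zero_mem _, map_zero _⟩
  add_mem' := fun {a b} ha hb => ⟨add_mem ha.1 hb.1, by rw [map_add, ha.2, hb.2]⟩
  neg_mem' := fun {a} ha => by rw [Set.mem_setOf_eq, Cfsg.Lib.JankoFour.neg_eq_self]; exact ha

theorem mem_fixR {p g : G} {w : Bar ctx} :
    w ∈ fixR ctx p g ↔ w ∈ (dlt ctx p).range ∧ act ctx g w = w := Iff.rfl

/-- Three elements permuted cyclically, differing by powers of `p`, cut the range into three equal parts. -/
theorem card_range_cube {p a b c : G} (hp : Commute p z) (hp3 : p ^ 3 = 1) (ha : Commute a z) (hb : Commute b z)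
    (hap : Commute a p) (hbp : Commute b p) (ha3 : a ^ 3 = 1) (hc : c = p ∨ c = p⁻¹)
    (hab : b * a * b⁻¹ = a * c) : ∃ m, Nat.card ↥(dlt ctx p).range = m ^ 3 := by
  classical
  have hcz : Commute c z := by rcases hc with rfl | rfl; exacts [hp, hp.inv_left]
  have hcp : Commute c p := by rcases hc with rfl | rfl; exacts [Commute.refl _, (Commute.refl p).inv_left]
  have hc3 : c ^ 3 = 1 := by
    rcases hc with rfl | rfl
    · exact hp3
    · rw [inv_pow, hp3, inv_one]
  have hac : Commute a c := by rcases hc with rfl | rfl; exacts [hap, hap.inv_right]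
  have hbc : Commute b c := by rcases hc with rfl | rfl; exacts [hbp, hbp.inv_right]
  set W := (dlt ctx p).range
  have htrace : ∀ w ∈ W, w + act ctx c w + act ctx c (act ctx c w) = 0 := by
    intro w hw
    have h := dlt_trace ctx hp hp3 hw
    rcases hc with rfl | rfl
    · exact h
    · have e : act ctx p⁻¹ w = act ctx p (act ctx p w) := by
        rw [← act_mul ctx hp hp, inv_eq_of_mul_eq_one_right (a := p) (b := p * p) (by rw [← pow_three, hp3])]
      have e' : act ctx p⁻¹ (act ctx p⁻¹ w) = act ctx p w := by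
        rw [← act_mul ctx hp.inv_left hp.inv_left, show p⁻¹ * p⁻¹ = p by
          rw [← mul_inv_rev]
          exact inv_eq_of_mul_eq_one_right (by rw [mul_assoc, ← pow_three, hp3])]
      rw [e', e, ← h]
      abel
  have hgz : ∀ i : ℕ, Commute (a * c ^ i) z := fun i => ha.mul_left (hcz.pow_left i)
  have hgp : ∀ i : ℕ, Commute (a * c ^ i) p := fun i => hap.mul_left (hcp.pow_left i)
  have hg3 : ∀ i : ℕ, (a * c ^ i) ^ 3 = 1 := fun i => by
    rw [(hac.pow_right i).mul_pow, ha3, one_mul, ← pow_mul, mul_comm, pow_mul, hc3, one_pow]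
  -- the projection
  let π : ℕ → Bar ctx → Bar ctx := fun i w =>
    w + act ctx (a * c ^ i) w + act ctx (a * c ^ i) (act ctx (a * c ^ i) w)
  have hπm : ∀ i, ∀ w ∈ W, π i w ∈ fixR ctx p (a * c ^ i) := fun i w hw => by
    have h1 := mem_dlt_range ctx hp (hgz i) (hgp i) hw
    refine (mem_fixR ctx).2 ⟨add_mem (add_mem hw h1) (mem_dlt_range ctx hp (hgz i) (hgp i) h1), ?_⟩
    simp only [π, map_add, act_cube ctx (hgz i) (hg3 i)]
    abel
  have hmove : ∀ i j : ℕ, ∀ w, act ctx (a * c ^ i) w = w →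
      act ctx (a * c ^ (i + j)) w = act ctx (c ^ j) w := fun i j w hw => by
    rw [show a * c ^ (i + j) = c ^ j * (a * c ^ i) by
      rw [pow_add, ← mul_assoc]
      exact (((hac.pow_right j).symm).mul_right ((Commute.refl c).pow_pow j i)).eq.symm,
      act_mul ctx (hcz.pow_left j) (hgz i), hw]
  have hπfix : ∀ i, ∀ w, act ctx (a * c ^ i) w = w → π i w = w := fun i w hw => by
    simp only [π, hw, bar_self, zero_add]
  have hπkill : ∀ i j : ℕ, j % 3 ≠ 0 → ∀ w ∈ W, act ctx (a * c ^ i) w = w → π (i + j) w = 0 := by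
    intro i j hj w hw hfix
    have e1 : act ctx (a * c ^ (i + j)) w = act ctx (c ^ j) w := hmove i j w hfix
    have e2 : act ctx (a * c ^ (i + j)) (act ctx (c ^ j) w) = act ctx (c ^ (2 * j)) w := by
      rw [← act_mul ctx (hgz _) (hcz.pow_left j),
        ((hac.pow_right j).mul_left ((Commute.refl c).pow_pow (i + j) j)).eq,
        act_mul ctx (hcz.pow_left j) (hgz _), e1, ← act_mul ctx (hcz.pow_left j) (hcz.pow_left j), ← pow_add,
        two_mul]
    simp only [π, e1, e2]
    have hmod : ∀ n, c ^ n = c ^ (n % 3) := fun n => by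
      conv_lhs => rw [← Nat.div_add_mod n 3, pow_add, pow_mul, hc3, one_pow, one_mul]
    have h2 : act ctx (c ^ 2) w = act ctx c (act ctx c w) := by rw [pow_two, act_mul ctx hcz hcz]
    rw [hmod j, hmod (2 * j)]
    have hj' : j % 3 = 1 ∨ j % 3 = 2 := by omega
    rcases hj' with e | e
    · rw [e, show 2 * j % 3 = 2 by omega, pow_one, h2]
      exact htrace w hw
    · rw [e, show 2 * j % 3 = 1 by omega, pow_one, h2, add_right_comm]
      exact htrace w hw
  have hsum : ∀ w ∈ W, π 0 w + π 1 w + π 2 w = w := by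
    intro w hw
    have e : ∀ g, Commute g z → Commute g c → act ctx g w + act ctx (g * c) w + act ctx (g * c ^ 2) w = 0 := by
      intro g hg _
      rw [act_mul ctx hg hcz, act_mul ctx hg (hcz.pow_left 2), pow_two, act_mul ctx hcz hcz, ← map_add, ← map_add,
        htrace w hw, map_zero]
    have hsq : ∀ i : ℕ, a * c ^ i * (a * c ^ i) = a * a * c ^ (2 * i) := fun i => by
      rw [two_mul, pow_add, mul_assoc a, ← mul_assoc (c ^ i) a, ((hac.pow_right i).symm).eq]
      group
    simp only [π, ← act_mul ctx (hgz _) (hgz _), hsq, pow_zero, mul_one, pow_one, mul_zero]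
    have e1 := e a ha hac
    have e2 := e (a * a) (ha.mul_left ha) (hac.mul_left hac)
    have hc4 : c ^ (2 * 2) = c := by rw [show 2 * 2 = 3 + 1 by norm_num, pow_add, hc3, one_mul, pow_one]
    rw [hc4]
    calc w + act ctx a w + act ctx (a * a) w + (w + act ctx (a * c) w + act ctx (a * a * c ^ 2) w) +
          (w + act ctx (a * c ^ 2) w + act ctx (a * a * c) w)
        = (w + w) + w + (act ctx a w + act ctx (a * c) w + act ctx (a * c ^ 2) w) +
          (act ctx (a * a) w + act ctx (a * a * c) w + act ctx (a * a * c ^ 2) w) := by abel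
      _ = w := by rw [bar_self, e1, e2, zero_add, add_zero, add_zero]
  let Φ : ↥W → ↥(fixR ctx p (a * c ^ 0)) × ↥(fixR ctx p (a * c ^ 1)) × ↥(fixR ctx p (a * c ^ 2)) := fun w =>
    (⟨π 0 w, hπm 0 w w.2⟩, ⟨π 1 w, hπm 1 w w.2⟩, ⟨π 2 w, hπm 2 w w.2⟩)
  have hΦ : Function.Bijective Φ := by
    constructor
    · intro v w h
      simp only [Φ, Prod.mk.injEq, Subtype.mk.injEq] at h
      exact Subtype.ext (by rw [← hsum v v.2, ← hsum w w.2, h.1, h.2.1, h.2.2])
    · rintro ⟨⟨w0, h0⟩, ⟨w1, h1⟩, ⟨w2, h2⟩⟩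
      refine ⟨⟨w0 + w1 + w2, add_mem (add_mem h0.1 h1.1) h2.1⟩, ?_⟩
      have hadd : ∀ i u v, π i (u + v) = π i u + π i v := fun i u v => by
        simp only [π, map_add]; abel
      have hper : ∀ i, a * c ^ (i + 3) = a * c ^ i := fun i => by rw [pow_add, hc3, mul_one]
      have hπper : ∀ i w, π (i + 3) w = π i w := fun i w => by simp only [π, hper]
      simp only [Φ, Prod.mk.injEq, Subtype.mk.injEq, hadd]
      refine ⟨?_, ?_, ?_⟩
      · rw [hπfix 0 w0 h0.2, ← hπper 0 w1, ← hπper 0 w2, hπkill 1 2 (by norm_num) w1 h1.1 h1.2,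
          hπkill 2 1 (by norm_num) w2 h2.1 h2.2, add_zero, add_zero]
      · rw [hπfix 1 w1 h1.2, hπkill 0 1 (by norm_num) w0 h0.1 h0.2, ← hπper 1 w2,
          hπkill 2 2 (by norm_num) w2 h2.1 h2.2, zero_add, add_zero]
      · rw [hπfix 2 w2 h2.2, hπkill 0 2 (by norm_num) w0 h0.1 h0.2, hπkill 1 1 (by norm_num) w1 h1.1 h1.2,
          zero_add, zero_add]
  have hle : ∀ i : ℕ, Nat.card ↥(fixR ctx p (a * c ^ i)) ≤ Nat.card ↥(fixR ctx p (a * c ^ (i + 1))) := by
    intro i
    refine Nat.card_le_card_of_injective (fun w => (⟨act ctx b w, mem_dlt_range ctx hp hb hbp w.2.1, ?_⟩ :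
      ↥(fixR ctx p (a * c ^ (i + 1))))) fun v w h => Subtype.ext (act_injective ctx hb (congrArg Subtype.val h))
    rw [show a * c ^ (i + 1) = b * (a * c ^ i) * b⁻¹ by
      rw [show b * (a * c ^ i) * b⁻¹ = b * a * b⁻¹ * (b * c ^ i * b⁻¹) by group, (hbc.pow_right i).eq,
        mul_inv_cancel_right, hab, mul_assoc, ← pow_succ'],
      ← act_mul ctx ((hb.mul_left (hgz i)).mul_left hb.inv_left) hb, inv_mul_cancel_right,
      act_mul ctx hb (hgz i), w.2.2]
  refine ⟨Nat.card ↥(fixR ctx p (a * c ^ 0)), ?_⟩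
  have h3 : Nat.card ↥(fixR ctx p (a * c ^ (2 + 1))) = Nat.card ↥(fixR ctx p (a * c ^ 0)) := by
    rw [hc3, pow_zero]
  have l0 := hle 0
  have l1 := hle 1
  have l2 := hle 2
  rw [h3] at l2
  rw [show (1 : ℕ) + 1 = 2 from rfl] at l1
  rw [Nat.card_eq_of_bijective Φ hΦ, Nat.card_prod, Nat.card_prod, pow_three]
  simp only [zero_add] at l0
  rw [show Nat.card ↥(fixR ctx p (a * c ^ 1)) = Nat.card ↥(fixR ctx p (a * c ^ 0)) by omega,
    show Nat.card ↥(fixR ctx p (a * c ^ 2)) = Nat.card ↥(fixR ctx p (a * c ^ 0)) by omega]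

end Fixed

open Cfsg.Lib.JankoFour (Bar cls act act_cls act_mul act_one act_eq_one_iff cls_eq_zero card_bar)

variable {G : Type*} [Group G] [Finite G] {z : G}
  (σ : Shape ↥(Subgroup.centralizer ({z} : Set G))) {p : ↥(Subgroup.centralizer ({z} : Set G))}

/-- Only `1` and `z` in the 2-group commute with the element of order three. -/
theorem fixed_of_shape (hpN : p ∈ σ.N) (hp : orderOf p = 3) {E : Subgroup G} (ctx : Ctx E z)
    (hE : E = σ.Q.map (Subgroup.centralizer ({z} : Set G)).subtype) (hcard : Nat.card ↥σ.Q = 2 ^ 13)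
    (hcen : Nat.card ↥(Subgroup.center ↥E) = 2) :
    ∀ e ∈ E, Commute e (p : G) → e = 1 ∨ e = z := by
  classical
  let H := Subgroup.centralizer ({z} : Set G)
  have hz : ∀ h : ↥H, Commute (h : G) z := fun h => Subgroup.mem_centralizer_singleton_iff.1 h.2
  have hp3 : (p : G) ^ 3 = 1 := congrArg Subtype.val (Shape.p_cube hp)
  have hV : Nat.card (Bar ctx) = 2 ^ 12 := by
    have h := card_bar ctx hcen
    rw [show Nat.card ↥E = Nat.card ↥σ.Q by rw [hE, Subgroup.card_map_of_injective H.subtype_injective], hcard] at h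
    omega
  set δ := dlt ctx (p : G)
  have hcnt : Nat.card ↥δ.ker * Nat.card ↥δ.range = 2 ^ 12 := by
    rw [← hV, ← AddSubgroup.index_ker, AddSubgroup.card_mul_index]
  obtain ⟨j, hj, hje⟩ := (Nat.dvd_prime_pow Nat.prime_two).1 (Dvd.intro_left _ hcnt)
  obtain ⟨a, b, c, hap, hbp, -, -, ha3, hc, hab⟩ := σ.exists_three hpN hp
  obtain ⟨m, hm⟩ := card_range_cube ctx (hz p) hp3 (hz a) (hz b) (hap.map H.subtype) (hbp.map H.subtype)
    (congrArg Subtype.val ha3) (c := (c : G)) (by rcases hc with rfl | rfl <;> simp)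
    (by simpa using congrArg Subtype.val hab)
  obtain ⟨x, hx, hx11, hx1⟩ := σ.exists_eleven hpN hp
  have hxG : (x : G) ^ 11 = 1 := by
    rw [← Subgroup.coe_pow, ← hx11, pow_orderOf_eq_one, Subgroup.coe_one]
  have h10 : 10 ≤ j := by
    by_contra hlt
    have htriv := trivial_of_eleven ctx (hz x) hxG δ.range
      (fun v hv => mem_dlt_range ctx (hz p) (hz x) ((σ.mem_L0.1 hx).1.map H.subtype) hv) hje (by omega)
    set L := σ.L0 p
    let K : Subgroup ↥L :=
      { carrier := {l | ∀ w ∈ δ.range, act ctx ((l : ↥H) : G) w = w}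
        one_mem' := fun w _ => act_one ctx w
        mul_mem' := fun {u v} hu hv w hw => by
          rw [Subgroup.coe_mul, Subgroup.coe_mul, act_mul ctx (hz _) (hz _), hv w hw, hu w hw]
        inv_mem' := fun {u} hu w hw => by
          conv_lhs => rw [← hu w hw, ← act_mul ctx (hz _) (hz _), ← Subgroup.coe_mul, ← Subgroup.coe_mul,
            inv_mul_cancel]
          exact act_one ctx w }
    haveI hKn : K.Normal := ⟨fun k hk l w hw => by
      have hl : act ctx (((l⁻¹ : ↥L) : ↥H) : G) w ∈ δ.range :=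
        mem_dlt_range ctx (hz p) (hz _) ((σ.mem_L0.1 (l⁻¹).2).1.map H.subtype) hw
      rw [Subgroup.coe_mul, Subgroup.coe_mul, act_mul ctx (hz _) (hz _), Subgroup.coe_mul, Subgroup.coe_mul,
        act_mul ctx (hz _) (hz _), hk _ hl, ← act_mul ctx (hz _) (hz _), ← Subgroup.coe_mul, ← Subgroup.coe_mul,
        mul_inv_cancel]
      exact act_one ctx w⟩
    let θ' : ↥L →* ↥(inner22) := (σ.θ.comp L.subtype).codRestrict inner22 fun l => (σ.mem_L0.1 l.2).2
    have hsurj : Function.Surjective θ' := fun q => by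
      obtain ⟨l, hl, e⟩ := σ.lift hpN hp q.2
      exact ⟨⟨l, hl⟩, Subtype.ext e⟩
    haveI : IsSimpleGroup ↥(inner22) := Cfsg.Lib.JankoFour.AutM22.inner_simple
    have htop : K.map θ' = ⊤ :=
      (IsSimpleGroup.eq_bot_or_eq_top_of_normal _ (hKn.map θ' hsurj)).resolve_left fun hb => hx1 (by
        have hmem : θ' ⟨x, hx⟩ ∈ K.map θ' := ⟨⟨x, hx⟩, htriv, rfl⟩
        rw [hb, Subgroup.mem_bot] at hmem
        exact congrArg Subtype.val hmem)
    have hpow : ∀ l : ↥L, ∃ i : ℕ, ∀ w ∈ δ.range, act ctx ((l : ↥H) : G) w = act ctx ((p : G) ^ i) w := by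
      intro l
      obtain ⟨k, hk, hke⟩ : θ' l ∈ K.map θ' := htop ▸ Subgroup.mem_top _
      have hn : ((k⁻¹ * l : ↥L) : ↥H) ∈ σ.N :=
        σ.mem_N.2 (congrArg Subtype.val (show θ' (k⁻¹ * l) = 1 by rw [map_mul, map_inv, hke, inv_mul_cancel]))
      obtain ⟨q, hq, i, e⟩ := σ.split hpN hp hn
      refine ⟨i, fun w hw => ?_⟩
      have hq' : (q : G) ∈ E := hE ▸ Subgroup.mem_map_of_mem H.subtype hq
      have hl : ((l : ↥H) : G) = ((k : ↥H) : G) * ((q : G) * (p : G) ^ i) := by
        rw [← Subgroup.coe_pow, ← Subgroup.coe_mul, ← e, ← Subgroup.coe_mul, ← Subgroup.coe_mul, mul_inv_cancel_left]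
      have hpi : act ctx ((p : G) ^ i) w ∈ δ.range :=
        mem_dlt_range ctx (hz p) ((hz p).pow_left i) ((Commute.refl _).pow_left i) hw
      rw [hl, act_mul ctx (hz _) ((hz q).mul_left ((hz p).pow_left i)), act_mul ctx (hz q) ((hz p).pow_left i),
        Cfsg.Lib.JankoFour.act_of_mem ctx hq', hk _ hpi]
    have hcomm : commutator ↥L ≤ K := by
      rw [commutator_def, Subgroup.commutator_le]
      intro u _ v _ w hw
      have e : ∀ w ∈ δ.range, act ctx ((u : ↥H) : G) (act ctx ((v : ↥H) : G) w) =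
          act ctx ((v : ↥H) : G) (act ctx ((u : ↥H) : G) w) := by
        intro w hw
        obtain ⟨i, hi⟩ := hpow u
        obtain ⟨k, hk⟩ := hpow v
        have hpk : ∀ n : ℕ, act ctx ((p : G) ^ n) w ∈ δ.range := fun n =>
          mem_dlt_range ctx (hz p) ((hz p).pow_left n) ((Commute.refl _).pow_left n) hw
        rw [hk w hw, hi w hw, hi _ (hpk k), hk _ (hpk i), ← act_mul ctx ((hz p).pow_left i) ((hz p).pow_left k),
          ← act_mul ctx ((hz p).pow_left k) ((hz p).pow_left i), ← pow_add, ← pow_add, add_comm]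
      have hmem : ∀ (g : ↥L) (w : Bar ctx), w ∈ δ.range → act ctx ((g : ↥H) : G) w ∈ δ.range := fun g w hw =>
        mem_dlt_range ctx (hz p) (hz _) ((σ.mem_L0.1 g.2).1.map H.subtype) hw
      have h1 := e _ (hmem u⁻¹ _ (hmem v⁻¹ _ hw))
      simp only [commutatorElement_def, Subgroup.coe_mul]
      rw [act_mul ctx ((((hz _).mul_left (hz _)).mul_left (hz _))) (hz _),
        act_mul ctx ((hz _).mul_left (hz _)) (hz _), act_mul ctx (hz _) (hz _), h1,
        ← act_mul ctx (hz (u : ↥H)) (hz _), ← Subgroup.coe_mul, ← Subgroup.coe_mul, mul_inv_cancel,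
        Subgroup.coe_one, Subgroup.coe_one, act_one, ← act_mul ctx (hz _) (hz _), ← Subgroup.coe_mul,
        ← Subgroup.coe_mul, mul_inv_cancel]
      exact act_one ctx w
    have hpK : ∀ w ∈ δ.range, act ctx (p : G) w = w := by
      have h := σ.p_mem_derived hpN hp
      rw [← Subgroup.map_subtype_commutator] at h
      obtain ⟨p', hp', e⟩ := h
      have := hcomm hp'
      intro w hw
      rw [← show ((p' : ↥H) : G) = p from congrArg Subtype.val e]
      exact this w hw
    have hall : ∀ v, act ctx (p : G) v = v := by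
      intro v
      have h1 : act ctx (p : G) (act ctx (p : G) v + v) = act ctx (p : G) v + v := hpK _ ⟨v, rfl⟩
      rw [map_add, add_comm _ v, add_comm (act ctx (p : G) (act ctx (p : G) v))] at h1
      have h2 := add_left_cancel (h1.trans (add_comm _ _))
      calc act ctx (p : G) v = act ctx (p : G) (act ctx (p : G) (act ctx (p : G) v)) := by rw [h2]
        _ = v := act_cube ctx (hz p) hp3 v
    have hmem : (p : G) ∈ E := (act_eq_one_iff ctx (hz p)).1 hall
    rw [hE] at hmem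
    obtain ⟨q, hq, e⟩ := hmem
    exact σ.p_not_mem hp (Subtype.ext e ▸ hq)
  have h12 : j = 12 := by
    obtain ⟨i, hi, hie⟩ := (Nat.dvd_prime_pow Nat.prime_two).1
      (show m ∣ 2 ^ j from hje ▸ hm ▸ dvd_pow_self m (by norm_num))
    have h3 : i * 3 = j := Nat.pow_right_injective (le_refl 2) (by
      show 2 ^ (i * 3) = 2 ^ j
      rw [pow_mul, ← hie, ← hm, hje])
    omega
  have hker : δ.ker = ⊥ := by
    refine AddSubgroup.eq_bot_of_card_eq _ ?_
    rw [hje, h12] at hcnt
    exact Nat.eq_of_mul_eq_mul_right (by norm_num : 0 < 2 ^ 12) (hcnt.trans (one_mul _).symm)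
  intro e he hc
  refine (cls_eq_zero ctx he).1 ?_
  have : cls ctx e ∈ δ.ker := by
    rw [AddMonoidHom.mem_ker, dlt_apply, act_cls ctx (hz p) he, hc.symm.eq, mul_inv_cancel_right]
    exact Cfsg.Lib.JankoFour.bar_self ctx _
  rwa [hker, AddSubgroup.mem_bot] at this

/-- An element commuting with `p` cannot fix one and invert another of two commuting lifts. -/
theorem no_commuting (hpN : p ∈ σ.N) (hp : orderOf p = 3)
    (hfix : ∀ e ∈ σ.Q.map (Subgroup.centralizer ({z} : Set G)).subtype, Commute e (p : G) → e = 1 ∨ e = z)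
    {X Y c : ↥(Subgroup.centralizer ({z} : Set G))} (hX : X ∈ σ.L0 p) (hY : Y ∈ σ.L0 p) (hc : Commute c p)
    {x y : Cfsg.Lib.JankoFour.AutM22.A22} (hXx : σ.θ X = x) (hYy : σ.θ Y = y) (hx3 : x ^ 3 = 1) (hy3 : y ^ 3 = 1)
    (hx1 : x ≠ 1) (hy1 : y ≠ 1) (hyx : y ≠ x) (hyxi : y ≠ x⁻¹) (hxy : Commute x y)
    (hux : σ.θ c * x * (σ.θ c)⁻¹ = x) (huy : σ.θ c * y * (σ.θ c)⁻¹ = y⁻¹) : False := by
  classical
  let H := Subgroup.centralizer ({z} : Set G)
  have hzH : z ∈ H := Subgroup.mem_centralizer_singleton_iff.2 rfl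
  set zh : ↥H := ⟨z, hzH⟩
  have hzc : ∀ h : ↥H, Commute h zh := fun h => Subtype.ext (Subgroup.mem_centralizer_singleton_iff.1 h.2)
  -- the members of the kernel commuting with `p`
  have hker : ∀ n, n ∈ σ.N → Commute n p → ∃ i : ℕ, n = p ^ i ∨ n = zh * p ^ i := by
    intro n hn hnp
    obtain ⟨q, hq, hqp, i, rfl⟩ := σ.ker_L0 hpN hp hn hnp
    refine ⟨i, ?_⟩
    rcases hfix q ⟨q, hq, rfl⟩ (hqp.map H.subtype) with e | e
    · exact Or.inl (by rw [show q = 1 from Subtype.ext e, one_mul])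
    · exact Or.inr (by rw [show q = zh from Subtype.ext e])
  have hXp := (σ.mem_L0.1 hX).1
  have hYp := (σ.mem_L0.1 hY).1
  have hcenN : ∀ n, n ∈ σ.N → Commute n p → ∀ g, Commute g p → Commute g n := by
    intro n hn hnp g hg
    obtain ⟨i, rfl | rfl⟩ := hker n hn hnp
    · exact hg.pow_right i
    · exact (hzc g).mul_right (hg.pow_right i)
  set k := X * Y * X⁻¹ * Y⁻¹ with hk
  have hkN : k ∈ σ.N := σ.mem_N.2 (by
    rw [hk, map_mul, map_mul, map_mul, map_inv, map_inv, hXx, hYy, hxy.eq, mul_inv_cancel_right, mul_inv_cancel])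
  have hkp : Commute k p := ((hXp.mul_left hYp).mul_left hXp.inv_left).mul_left hYp.inv_left
  have hkc := hcenN k hkN hkp
  have hk2 : k * k = 1 := by
    set a := X⁻¹ * (c * X * c⁻¹)
    set b := Y * (c * Y * c⁻¹)
    have ha : a ∈ σ.N ∧ Commute a p := ⟨σ.mem_N.2 (by
      show σ.θ (X⁻¹ * (c * X * c⁻¹)) = 1
      rw [map_mul, map_inv, map_mul, map_mul, map_inv, hXx, hux, inv_mul_cancel]),
      hXp.inv_left.mul_left ((hc.mul_left hXp).mul_left hc.inv_left)⟩
    have hb : b ∈ σ.N ∧ Commute b p := ⟨σ.mem_N.2 (by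
      show σ.θ (Y * (c * Y * c⁻¹)) = 1
      rw [map_mul, map_mul, map_mul, map_inv, hYy, huy, mul_inv_cancel]),
      hYp.mul_left ((hc.mul_left hYp).mul_left hc.inv_left)⟩
    have ca := hcenN a ha.1 ha.2
    have cb := hcenN b hb.1 hb.2
    have e : c * k * c⁻¹ = k := by rw [(hkc c hc).eq, mul_inv_cancel_right]
    have e2 : c * k * c⁻¹ = X * a * (Y⁻¹ * b) * (X * a)⁻¹ * (Y⁻¹ * b)⁻¹ := by
      simp only [k, a, b]; group
    have e3 : X * a * (Y⁻¹ * b) * (X * a)⁻¹ * (Y⁻¹ * b)⁻¹ = X * Y⁻¹ * X⁻¹ * Y := by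
      calc X * a * (Y⁻¹ * b) * (X * a)⁻¹ * (Y⁻¹ * b)⁻¹
          = X * (a * (Y⁻¹ * b)) * a⁻¹ * X⁻¹ * (b⁻¹ * Y) := by group
        _ = X * (Y⁻¹ * b * a) * a⁻¹ * X⁻¹ * (b⁻¹ * Y) := by rw [(ca (Y⁻¹ * b) (hYp.inv_left.mul_left hb.2)).eq]
        _ = X * Y⁻¹ * (b * X⁻¹) * (b⁻¹ * Y) := by group
        _ = X * Y⁻¹ * (X⁻¹ * b) * (b⁻¹ * Y) := by rw [(cb X⁻¹ hXp.inv_left).eq]
        _ = X * Y⁻¹ * X⁻¹ * Y := by group
    have e4 : X * Y⁻¹ * X⁻¹ * Y = k⁻¹ := by
      have h := hkc Y hYp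
      calc X * Y⁻¹ * X⁻¹ * Y = Y⁻¹ * (Y * X * Y⁻¹ * X⁻¹) * Y := by group
        _ = Y⁻¹ * k⁻¹ * Y := by rw [show Y * X * Y⁻¹ * X⁻¹ = k⁻¹ by rw [hk]; group]
        _ = k⁻¹ := by rw [mul_assoc, ← h.inv_right.eq, inv_mul_cancel_left]
    rw [e2, e3, e4] at e
    nth_rewrite 1 [← e]
    exact inv_mul_cancel k
  -- commuting lifts
  set X' := X ^ 4
  have hX' : X' ∈ σ.L0 p := pow_mem hX 4
  have hXY : Commute X' Y := by
    have h1 : X * Y = k * (Y * X) := by rw [hk]; group
    have h2 : X * X * Y = Y * (X * X) := by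
      calc X * X * Y = X * (X * Y) := mul_assoc _ _ _
        _ = X * (k * (Y * X)) := by rw [h1]
        _ = X * k * Y * X := by group
        _ = k * (X * Y) * X := by rw [(hkc X hXp).eq]; group
        _ = k * k * (Y * (X * X)) := by rw [h1]; group
        _ = _ := by rw [hk2, one_mul]
    have h : Commute (X * X) Y := h2
    rw [show X' = (X * X) * (X * X) by simp only [X', pow_succ, pow_zero, one_mul, mul_assoc]]
    exact h.mul_left h
  have hX'x : σ.θ X' = x := by
    rw [map_pow, hXx, show 4 = 3 + 1 from rfl, pow_succ, hx3, one_mul]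
  set L := σ.L0 p
  set X0 : ↥L := ⟨X', hX'⟩
  set Y0 : ↥L := ⟨Y, hY⟩
  set p0 : ↥L := ⟨p, σ.p_mem_L0 hpN⟩
  have hp0 : ∀ l : ↥L, Commute l p0 := fun l => Subtype.ext (σ.mem_L0.1 l.2).1.eq
  set A : Subgroup ↥L := Subgroup.closure {X0, Y0, p0}
  have hAc : ∀ u ∈ ({X0, Y0, p0} : Set ↥L), ∀ v ∈ ({X0, Y0, p0} : Set ↥L), u * v = v * u := by
    have h : X0 * Y0 = Y0 * X0 := Subtype.ext hXY.eq
    intro u hu v hv
    simp only [Set.mem_insert_iff, Set.mem_singleton_iff] at hu hv
    rcases hu with rfl | rfl | rfl <;> rcases hv with rfl | rfl | rfl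
    all_goals first | rfl | exact h | exact h.symm | exact (hp0 _).eq | exact (hp0 _).eq.symm
  letI : CommGroup ↥A := Subgroup.closureCommGroupOfComm hAc
  haveI : Fact (Nat.Prime 3) := ⟨Nat.prime_three⟩
  let θ' : ↥L →* ↥(inner22) := (σ.θ.comp L.subtype).codRestrict inner22 fun l => (σ.mem_L0.1 l.2).2
  have hsurj : Function.Surjective θ' := fun q => by
    obtain ⟨l, hl, e⟩ := σ.lift hpN hp q.2
    exact ⟨⟨l, hl⟩, Subtype.ext e⟩
  have hk6 : Nat.card ↥θ'.ker ≤ 6 := by
    have hf : ∀ n : ↥θ'.ker, ∃ i : Bool × Fin 3, ((n : ↥L) : ↥H) = (if i.1 then zh else 1) * p ^ (i.2 : ℕ) := by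
      intro n
      have h1 : σ.θ ((n : ↥L) : ↥H) = 1 := congrArg Subtype.val n.2
      obtain ⟨i, e⟩ := hker _ (σ.mem_N.2 h1) (σ.mem_L0.1 (n : ↥L).2).1
      have hm : p ^ i = p ^ (i % 3) := by rw [← hp, pow_mod_orderOf]
      rcases e with e | e
      · exact ⟨(false, ⟨i % 3, Nat.mod_lt _ (by norm_num)⟩), by simpa [hm] using e⟩
      · exact ⟨(true, ⟨i % 3, Nat.mod_lt _ (by norm_num)⟩), by simpa [hm] using e⟩
    choose f hf using hf
    refine (Nat.card_le_card_of_injective f fun u v h => ?_).trans (by simp [Nat.card_eq_fintype_card])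
    exact Subtype.ext (Subtype.ext (by rw [hf u, hf v, h]))
  have h27 : 27 ∣ Nat.card ↥A := by
    let ρ : ↥A →* Cfsg.Lib.JankoFour.AutM22.A22 := (σ.θ.comp L.subtype).comp A.subtype
    have hX0 : X0 ∈ A := Subgroup.subset_closure (by simp)
    have hY0 : Y0 ∈ A := Subgroup.subset_closure (by simp)
    have hpA : p0 ∈ A := Subgroup.subset_closure (by simp)
    have h3 : 3 ∣ Nat.card ↥ρ.ker := by
      have e : orderOf (⟨⟨p0, hpA⟩, σ.mem_N.1 hpN⟩ : ↥ρ.ker) = 3 := by
        rw [← Subgroup.orderOf_coe, ← Subgroup.orderOf_coe, ← Subgroup.orderOf_coe]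
        exact hp
      exact e ▸ orderOf_dvd_natCard _
    have hxr : x ∈ ρ.range := ⟨⟨X0, hX0⟩, hX'x⟩
    have hyr : y ∈ ρ.range := ⟨⟨Y0, hY0⟩, hYy⟩
    have h9 : 9 ∣ Nat.card ↥ρ.range := by
      have hord : orderOf x = 3 ∧ orderOf y = 3 := ⟨orderOf_eq_prime hx3 hx1, orderOf_eq_prime hy3 hy1⟩
      have hyz : y ∉ Subgroup.zpowers x := by
        intro hm
        obtain ⟨i, hi⟩ := (Submonoid.mem_powers_iff _ _).1 (mem_powers_iff_mem_zpowers.2 hm)
        rw [← pow_mod_orderOf, hord.1] at hi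
        have h3 : i % 3 = 0 ∨ i % 3 = 1 ∨ i % 3 = 2 := by omega
        rcases h3 with e | e | e <;> rw [e] at hi
        · exact hy1 hi.symm
        · exact hyx (by rw [← hi, pow_one])
        · exact hyxi (by rw [← hi]; exact eq_inv_of_mul_eq_one_left (by rw [← pow_succ]; exact hx3))
      have hdis : Disjoint (Subgroup.zpowers x) (Subgroup.zpowers y) := by
        rw [disjoint_iff]
        by_contra hne
        have hd := Subgroup.card_dvd_of_le (inf_le_right : Subgroup.zpowers x ⊓ Subgroup.zpowers y ≤ _)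
        rw [Nat.card_zpowers, hord.2] at hd
        rcases (Nat.dvd_prime Nat.prime_three).1 hd with e | e
        · exact hne (Subgroup.eq_bot_of_card_eq _ e)
        · have h' : Subgroup.zpowers x ⊓ Subgroup.zpowers y = Subgroup.zpowers y :=
            Subgroup.eq_of_le_of_card_ge inf_le_right (by rw [e, Nat.card_zpowers, hord.2])
          exact hyz (inf_eq_right.1 h' (Subgroup.mem_zpowers y))
      let g : ↥(Subgroup.zpowers x) × ↥(Subgroup.zpowers y) →* Cfsg.Lib.JankoFour.AutM22.A22 :=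
        MonoidHom.noncommCoprod (Subgroup.zpowers x).subtype (Subgroup.zpowers y).subtype fun u v => by
          obtain ⟨m, hm⟩ := u.2
          obtain ⟨n, hn⟩ := v.2
          rw [Subgroup.subtype_apply, Subgroup.subtype_apply, ← hm, ← hn]
          exact hxy.zpow_zpow m n
      have hinj : Function.Injective g := fun q q' h => Subgroup.mul_injective_of_disjoint hdis h
      have hle : g.range ≤ ρ.range := by
        rintro _ ⟨q, rfl⟩
        exact mul_mem (Subgroup.zpowers_le.2 hxr q.1.2) (Subgroup.zpowers_le.2 hyr q.2.2)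
      refine dvd_trans (dvd_of_eq ?_) (Subgroup.card_dvd_of_le hle)
      rw [← Nat.card_congr (MonoidHom.ofInjective hinj).toEquiv, Nat.card_prod, Nat.card_zpowers, Nat.card_zpowers,
        hord.1, hord.2]
    rw [← ρ.ker.card_mul_index, Subgroup.index_ker, show (27 : ℕ) = 3 * 9 from rfl]
    exact Nat.mul_dvd_mul h3 h9
  have hidx : ¬ 3 ∣ A.index := by
    intro h3
    have h := A.card_mul_index
    have hL : Nat.card ↥L = Nat.card ↥θ'.ker * 443520 := by
      rw [← θ'.ker.card_mul_index, Subgroup.index_ker, MonoidHom.range_eq_top_of_surjective θ' hsurj,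
        Subgroup.card_top, Cfsg.Lib.JankoFour.AutM22.card_inner]
    rw [hL] at h
    have h81 : 81 ∣ Nat.card ↥θ'.ker * 443520 := h ▸ Nat.mul_dvd_mul h27 h3
    have hm : 0 < Nat.card ↥θ'.ker := Nat.card_pos
    obtain ⟨u, hu⟩ := h81
    omega
  have hmem : p0 ∈ commutator ↥L := by
    have h := σ.p_mem_derived hpN hp
    rw [← Subgroup.map_subtype_commutator] at h
    obtain ⟨w, hw, e⟩ := h
    rwa [show p0 = w from Subtype.ext e.symm]
  let φ : ↥A →* ↥A := MonoidHom.id _
  have hker' : MonoidHom.transfer φ p0 = 1 :=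
    MonoidHom.mem_ker.1 (Abelianization.commutator_subset_ker (MonoidHom.transfer φ) hmem)
  rw [MonoidHom.transfer_eq_pow φ p0 fun k g₀ _ => by
    rw [mul_assoc, ← ((hp0 g₀).pow_right k).eq, inv_mul_cancel_left]] at hker'
  have h1 : p0 ^ A.index = 1 := congrArg Subtype.val hker'
  have h2 := orderOf_dvd_of_pow_eq_one h1
  rw [Subgroup.orderOf_mk, hp] at h2
  exact hidx h2

/-- The conditions of Janko-four type. -/
theorem type_of_shape (hz : orderOf z = 2) (hext : Cfsg.IsExtraspecial 2 ↥σ.Q) (hcard : Nat.card ↥σ.Q = 2 ^ 13)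
    (hcQ : Subgroup.centralizer (σ.Q : Set ↥(Subgroup.centralizer ({z} : Set G))) ≤ σ.Q) :
    Cfsg.IsOfJankoFourTypeAt z := by
  classical
  haveI : Fact (Nat.Prime 2) := ⟨Nat.prime_two⟩
  haveI := σ.normalQ
  haveI := σ.normalN
  let H := Subgroup.centralizer ({z} : Set G)
  have hcore : Cfsg.pCore 2 ↥H = σ.Q := by
    refine le_antisymm ?_ (Cfsg.Lib.Core.le_pCore σ.isTwo)
    set O := Cfsg.pCore 2 ↥H
    have hO : IsPGroup 2 ↥O := Cfsg.Lib.Core.pCore_isPGroup 2 ↥H
    haveI hn : (O.map σ.θ).Normal := (inferInstance : O.Normal).map σ.θ σ.surj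
    haveI : IsSimpleGroup ↥(inner22) := Cfsg.Lib.JankoFour.AutM22.inner_simple
    have hbot : (O.map σ.θ).subgroupOf inner22 = ⊥ := by
      refine (IsSimpleGroup.eq_bot_or_eq_top_of_normal _ (hn.subgroupOf _)).resolve_right fun htop => ?_
      rw [Subgroup.subgroupOf_eq_top] at htop
      obtain ⟨k, hk⟩ := IsPGroup.iff_card.1 ((hO.map σ.θ).to_le htop)
      rw [Cfsg.Lib.JankoFour.AutM22.card_inner] at hk
      have h11 : 11 ∣ 2 ^ k := hk ▸ (by norm_num : 11 ∣ 443520)
      exact absurd (Nat.Prime.dvd_of_dvd_pow (by norm_num) h11) (by norm_num)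
    rw [Subgroup.subgroupOf_eq_bot, disjoint_iff] at hbot
    intro o ho
    have h1 : σ.θ o = 1 := by
      have hc : σ.θ o ∈ Subgroup.centralizer (inner22 : Set Cfsg.Lib.JankoFour.AutM22.A22) := by
        refine Subgroup.mem_centralizer_iff.2 fun a ha => ?_
        have hmem : a * σ.θ o * a⁻¹ * (σ.θ o)⁻¹ ∈ O.map σ.θ ⊓ inner22 := by
          refine Subgroup.mem_inf.2 ⟨mul_mem (hn.conj_mem _ (Subgroup.mem_map_of_mem _ ho) a)
            (Subgroup.inv_mem _ (Subgroup.mem_map_of_mem _ ho)), ?_⟩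
          rw [show a * σ.θ o * a⁻¹ * (σ.θ o)⁻¹ = a * (σ.θ o * a⁻¹ * (σ.θ o)⁻¹) by group]
          exact mul_mem ha (Cfsg.Lib.JankoFour.AutM22.inner_normal.conj_mem _ (inv_mem ha) _)
        rw [hbot, Subgroup.mem_bot] at hmem
        exact mul_inv_eq_iff_eq_mul.1 (mul_inv_eq_one.1 hmem)
      rwa [Cfsg.Lib.JankoFour.AutM22.centralizer_inner, Subgroup.mem_bot] at hc
    obtain ⟨p, hpN, hp⟩ := σ.exists_p
    obtain ⟨q, hq, i, rfl⟩ := σ.split hpN hp (σ.mem_N.2 h1)
    have hpi : p ^ i ∈ O := by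
      have := mul_mem (inv_mem (Cfsg.Lib.Core.le_pCore σ.isTwo hq)) ho
      rwa [inv_mul_cancel_left] at this
    obtain ⟨k, hk⟩ := hO ⟨_, hpi⟩
    have h3 : (p ^ i) ^ 3 = 1 := by rw [← pow_mul, mul_comm, pow_mul, Shape.p_cube hp, one_pow]
    have h2k : (p ^ i) ^ 2 ^ k = 1 := congrArg Subtype.val hk
    rw [show p ^ i = 1 from orderOf_eq_one_iff.1 (Nat.eq_one_of_dvd_coprimes (a := 3) (b := 2 ^ k)
      (Nat.Coprime.pow_right _ (by norm_num)) (orderOf_dvd_of_pow_eq_one h3) (orderOf_dvd_of_pow_eq_one h2k)),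
      mul_one]
    exact hq
  have hE : Cfsg.twoCoreOfCentralizer z = σ.Q.map H.subtype := by rw [Cfsg.twoCoreOfCentralizer, hcore]
  have hzH : z ∈ H := Subgroup.mem_centralizer_singleton_iff.2 rfl
  have hzQ : (⟨z, hzH⟩ : ↥H) ∈ σ.Q := hcQ (Subgroup.mem_centralizer_iff.2 fun a _ =>
    Subtype.ext (Subgroup.mem_centralizer_singleton_iff.1 a.2))
  have hextE : Cfsg.IsExtraspecial 2 ↥(Cfsg.twoCoreOfCentralizer z) := by
    rw [hE]
    exact isExtraspecial_congr (σ.Q.equivMapOfInjective _ H.subtype_injective) hext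
  have hcentE : Subgroup.centralizer (Cfsg.twoCoreOfCentralizer z : Set G) ≤ Cfsg.twoCoreOfCentralizer z := by
    rw [hE]
    intro g hg
    have hgH : g ∈ H := Subgroup.mem_centralizer_singleton_iff.2
      (Subgroup.mem_centralizer_iff.1 hg z ⟨⟨z, hzH⟩, hzQ, rfl⟩).symm
    exact ⟨⟨g, hgH⟩, hcQ (Subgroup.mem_centralizer_iff.2 fun a ha =>
      Subtype.ext (Subgroup.mem_centralizer_iff.1 hg a ⟨a, ha, rfl⟩)), rfl⟩
  have ctx := ctx_of_twoCore hz rfl hextE hcentE
  obtain ⟨p, hpN, hp⟩ := σ.exists_p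
  have hfix := fixed_of_shape σ hpN hp ctx hE hcard hextE.2
  have hpG : orderOf (p : G) = 3 := by rw [Subgroup.orderOf_coe, hp]
  have hcenP : ∀ x : G, x ∈ Subgroup.centralizer (Subgroup.zpowers (p : G) : Set G) ↔ Commute x (p : G) := fun x => by
    rw [Subgroup.mem_centralizer_iff]
    refine ⟨fun h => (h _ (Subgroup.mem_zpowers _)).symm, ?_⟩
    rintro hc _ ⟨i, rfl⟩
    exact ((hc : Commute x (p : G)).zpow_right i).eq.symm
  refine ⟨Subgroup.zpowers (p : G), hz, hextE,
    by rw [hE, Subgroup.card_map_of_injective H.subtype_injective, hcard],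
    inf_le_right.trans hcentE, ⟨σ.N.map H.subtype, hE ▸ Subgroup.map_mono σ.le, Subgroup.map_subtype_le _, ?_, ?_,
      ?_, Subgroup.zpowers_le.2 ⟨p, hpN, rfl⟩⟩, by rw [Nat.card_zpowers, hpG], ?_, ?_, ?_⟩
  · intro h hh
    refine Subgroup.mem_normalizer_iff.2 fun n => ⟨?_, ?_⟩
    · rintro ⟨m, hm, rfl⟩
      exact ⟨⟨h, hh⟩ * m * ⟨h, hh⟩⁻¹, σ.normalN.conj_mem m hm _, rfl⟩
    · rintro ⟨m, hm, e⟩
      refine ⟨⟨h, hh⟩⁻¹ * m * ⟨h, hh⟩, by simpa using σ.normalN.conj_mem m hm ⟨h, hh⟩⁻¹, ?_⟩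
      show h⁻¹ * (m : G) * h = n
      rw [show (m : G) = h * n * h⁻¹ from e]
      group
  · rw [hE, Subgroup.card_map_of_injective H.subtype_injective, Subgroup.card_map_of_injective H.subtype_injective,
      σ.card_N]
  · have he : (σ.N.map H.subtype).subgroupOf H = σ.N := Subgroup.comap_map_eq_self_of_injective H.subtype_injective _
    rw [he]
    exact ⟨σ.normalN, ⟨(QuotientGroup.quotientMulEquivOfEq σ.ker.symm).trans
      (QuotientGroup.quotientKerEquivOfSurjective σ.θ σ.surj)⟩⟩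
  · refine le_antisymm ?_ (Subgroup.zpowers_le.2 ⟨ctx.mem, (hcenP z).2 (Subgroup.mem_centralizer_singleton_iff.1 p.2).symm⟩)
    rintro e ⟨he, hc⟩
    rcases hfix e he ((hcenP e).1 hc) with h | h <;> rw [h]
    exacts [one_mem _, Subgroup.mem_zpowers _]
  · intro heq
    obtain ⟨x, y, u, hx3, hy3, hx1, hy1, hyx, hyxi, hxy, hux, huy⟩ := aut_witness
    have hin : ∀ {a}, a ^ 3 = 1 → a ∈ inner22 := fun h =>
      Cfsg.Lib.JankoFour.AutM22.mem_inner_of_pow_three (k := 1) (by rwa [pow_one])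
    obtain ⟨X, hX, hXx⟩ := σ.lift hpN hp (hin hx3)
    obtain ⟨Y, hY, hYy⟩ := σ.lift hpN hp (hin hy3)
    obtain ⟨w, rfl⟩ := σ.surj u
    obtain ⟨q, hq, hw⟩ := σ.frattini hpN hp w
    set c := q * w
    have hcθ : σ.θ c = σ.θ w := by rw [map_mul, σ.mem_N.1 (σ.le hq), one_mul]
    have hc : Commute c p := by
      refine Subtype.ext ((hcenP _).1 (Subgroup.mem_inf.1 (heq.le ⟨c.2, ?_⟩)).2).eq
      refine Subgroup.mem_normalizer_iff.2 fun g => ?_
      have hmap : (Subgroup.zpowers (p : G)).map (MulAut.conj (c : G)).toMonoidHom = Subgroup.zpowers (p : G) := by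
        rw [MonoidHom.map_zpowers]
        rcases hw with h | h
        · rw [show (MulAut.conj (c : G)).toMonoidHom (p : G) = (p : G) from congrArg Subtype.val h]
        · rw [show (MulAut.conj (c : G)).toMonoidHom (p : G) = (p : G)⁻¹ from congrArg Subtype.val h,
            Subgroup.zpowers_inv]
      conv_rhs => rw [← hmap]
      rw [Subgroup.mem_map_equiv, MulAut.conj_symm_apply]
      group
    exact no_commuting σ hpN hp (hE ▸ hfix) hX hY hc hXx hYy hx3 hy3 hx1 hy1 hyx hyxi hxy (hcθ.symm ▸ hux) (hcθ.symm ▸ huy)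
  · have h := Subgroup.mem_map_of_mem H.subtype (σ.p_mem_derived hpN hp)
    rw [Subgroup.map_commutator] at h
    refine Subgroup.zpowers_le.2 (Subgroup.commutator_mono ?_ ?_ h)
    all_goals
      rintro _ ⟨l, hl, rfl⟩
      exact ⟨l.2, (hcenP _).2 ((σ.mem_L0.1 hl).1.map H.subtype)⟩

end Cfsg.Lib.JankoFourOrder
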