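import Cfsg.Agent.Lib.JankoFourOrder.Act

/-! Generated data: the generators and the translation. -/

set_option autoImplicit false
set_option maxRecDepth 100000

namespace Cfsg.Lib.JankoFourOrder

/-- The first generator. -/
def xP : Nat :=
  730990338228573012375641924901781925

/-- The second generator. -/
def yP : Nat :=
  527874712039751743739059569280860198

/-- Its inverse. -/
def yI : Nat :=
  818645439370613286778079922413510701

/-- The first generator fixes the first trio. -/
def xR : Nat × List Nat :=
  (107156593221553109994167629253172524, [224996158763763638685413373199778818, 475446783702661627444786809580224577])

/-- So does the second element. -/
def wR : Nat × List Nat :=
  (230275783249751663016197633057609933, [965049858088238094943673338628048928])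

/-- Members leading to the trios of the translation. -/
def uH : List Nat :=
  [15017226142549926459294399447309601, 263688141848781741060946147008432449, 554561733339765234321155325601944033]

/-- Coordinates of a pair. -/
def uPair : Nat :=
  6

/-- It is fixed. -/
def uChain : List Step :=
  [⟨15017226142549926459294399447309601, [(713520410544613229251974841691080736, 268159428625868297981703226458638371)], (984818244535754528103549039458486304, [])⟩, ⟨554561733339765234321155325601944033, [(962541570045915177851266368506791968, 969839512853889986589517803015899171)], (694119975783693424276636240744560978, [224996158763763638685413373199778818, 475446783702661627444786809580224577])⟩, ⟨263688141848781741060946147008432449, [(186573352860514742561411834972473376, 271597434890409301503042036068091936)], (186573352860514742561411834972473376, [881561447931003843902829100904253472])⟩]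

end Cfsg.Lib.JankoFourOrder
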