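import Cfsg.Agent.Lib.JankoFourOrder.Line
import Cfsg.Agent.Lib.JankoFourOrder.BraidData
import Cfsg.Agent.Lib.JankoFourOrder.HomData

/-!
# Evaluation of the relators on packed permutations
-/

set_option autoImplicit false
set_option maxRecDepth 100000
set_option maxHeartbeats 0

namespace Cfsg.Lib.JankoFourOrder

open Cfsg Cfsg.Lib.Concrete Cfsg.Lib.JankoFourTen
open Cfsg.Lib.J4Iso (comp idP)

/-- A power of a packed form. -/
noncomputable def ppow (p : ℕ) : ℕ → ℕ
  | 0 => idP
  | n + 1 => comp (ppow p n) p

/-- The conjugator of the first long relator. -/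
noncomputable def aP : ℕ := comp (comp (comp (comp (comp (comp (comp (comp yP xP) yI) xP) yP) xP) yI) xP) idP

/-- The conjugator of the last relator. -/
noncomputable def bP : ℕ := comp (comp (comp (ppow (comp xP yP) 3) yP) (ppow (comp xP yP) 6)) yP

/-- The conjugator of the translation. -/
noncomputable def uP : ℕ := comp (comp (ppow (comp yP xP) 4) yI) xP

/-- The second element of the stabilizer. -/
noncomputable def wP : ℕ := comp (comp (comp (comp yP xP) yP) (ppow (comp xP yI) 2)) (ppow (comp xP yP) 3)

/-- The member in the last relator as a word. -/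
noncomputable def sW : ℕ := ppow (comp (comp (comp (comp (comp (comp yP xP) yP) xP) yP) xP) yP) 3

theorem letters_ok : (inMat xP && inMat yP && inMat yI && peq (comp yP yI) idP && peq (comp yI yP) idP) = true := by
  decide +kernel

theorem base_rels : (peq (ppow xP 2) idP && peq (ppow yP 3) idP && peq (ppow (comp xP yP) 23) idP &&
    peq (ppow (comp (comp (comp xP yI) xP) yP) 12) idP &&
    peq (ppow (comp (comp (comp xP (comp (comp yI xP) yI)) xP) (comp (comp yP xP) yP)) 5) idP &&
    peq (ppow (comp (comp xP yP) (ppow (comp (comp (comp xP yP) xP) yI) 3)) 4) idP &&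
    peq (comp (ppow (comp (comp (comp (comp (comp xP yP) xP) yP) xP) yI) 3)
      (ppow (comp (comp (comp (comp (comp xP yP) xP) yI) xP) yI) 3)) idP) = true := by decide +kernel

theorem stab_rels : (rOK xR && peq xP (rVal xR) && rOK wR && peq wP (rVal wR)) = true := by decide +kernel

theorem long_rels : (peq (comp aP (lH 0)) idP && peq (comp yP (lH 0)) (lH 1) && peq (comp yP (lH 1)) (lH 2) &&
    peq sW sP && inMat sP && inMat bH && peq (comp bP bH) idP) = true := by decide +kernel

theorem u_rels : (uH.all inMat && Nat.beq uH.length 3 && peq (comp uP (uH.getD 0 0)) idP &&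
    peq (comp yP (uH.getD 0 0)) (uH.getD 1 0) && peq (comp yP (uH.getD 1 0)) (uH.getD 2 0) &&
    Nat.blt uPair 2048 && inPairs uPair && uChain.map Step.h == [uH.getD 0 0, uH.getD 2 0, uH.getD 1 0] &&
    chainOK uChain (uPair, idP) && cpeq (chainOut uChain (uPair, idP)) (uPair, idP)) = true := by decide +kernel

end Cfsg.Lib.JankoFourOrder
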