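import Cfsg.Agent.Lib.JankoFourOrder.Braid
import Cfsg.Agent.Lib.JankoFourOrder.HomChecks
import Cfsg.Agent.Lib.J4Iso.Index

/-!
# The map from the presented fourth Janko group
-/

set_option autoImplicit false
set_option maxRecDepth 100000
set_option linter.style.haveILetI false
set_option linter.unusedSectionVars false

namespace Cfsg.Lib.JankoFourOrder

open Cfsg Cfsg.Lib.Concrete Cfsg.Lib.JankoFour Cfsg.Lib.JankoFourTen
open Cfsg.Lib.J4Iso (comp idP uElt threeGen)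
open Cfsg.Lib.J4Pres (jRels)
open Cfsg.Lib.FusionSys.MathieuCert (toPerm)

attribute [local irreducible] toPerm

variable {G : Type*} [Group G] [Finite G] {A : Type} [Group A] {I : Subgroup A} {F : Frame G A I}
  {D : HexData A I} {S : Std F D}

namespace OrderSetup

variable (O : OrderSetup S)

/-- An element is that of a packed form. -/
def Val (p : ℕ) (g : G) : Prop := IsPk p ∧ g = sp O.P p

theorem Val.mul {p q : ℕ} {g h : G} (hg : O.Val p g) (hh : O.Val q h) : O.Val (comp p q) (g * h) :=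
  ⟨isPk_comp hg.1 hh.1, by rw [hg.2, hh.2, sp_comp O.P hg.1 hh.1]⟩

theorem Val.pow {p : ℕ} {g : G} (hg : O.Val p g) : ∀ n : ℕ, O.Val (ppow p n) (g ^ n)
  | 0 => ⟨isPk_idP, by rw [pow_zero, ppow, sp_idP]⟩
  | n + 1 => by rw [pow_succ]; exact Val.mul O (Val.pow hg n) hg

theorem Val.one_of {p : ℕ} {g : G} (hg : O.Val p g) (h : peq p idP = true) : g = 1 := by
  rw [hg.2, sp_of_peq O.P h isPk_idP, sp_idP]

theorem Val.inv_of {p q : ℕ} {g : G} (hg : O.Val p g) (hq : IsPk q) (h : peq (comp p q) idP = true) :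
    O.Val q g⁻¹ :=
  ⟨hq, inv_eq_of_mul_eq_one_right (Val.one_of O (Val.mul O hg ⟨hq, rfl⟩) h)⟩

/-- The images of the generators. -/
noncomputable def gen : Spor.J4.Gen → G
  | .x => sp O.P xP
  | .y => sp O.P yP
  | .t => O.z0

theorem val_letters : O.Val xP (sp O.P xP) ∧ O.Val yP (sp O.P yP) ∧ O.Val yI (sp O.P yP)⁻¹ := by
  have h := letters_ok
  simp only [Bool.and_eq_true] at h
  refine ⟨⟨isPk_of_inMat h.1.1.1.1, rfl⟩, ⟨isPk_of_inMat h.1.1.1.2, rfl⟩, ?_⟩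
  exact Val.inv_of O ⟨isPk_of_inMat h.1.1.1.2, rfl⟩ (isPk_of_inMat h.1.1.2) h.1.2

theorem x_inv : (sp O.P xP)⁻¹ = sp O.P xP := by
  have h := base_rels
  simp only [Bool.and_eq_true] at h
  refine inv_eq_of_mul_eq_one_right ?_
  rw [← pow_two]
  exact Val.one_of O (Val.pow O O.val_letters.1 2) h.1.1.1.1.1.1

theorem tri_product {y h1 h2 h3 : ℕ} (hy : IsPk y) (k1 : IsPk h1) (k2 : IsPk h2) (k3 : IsPk h3)
    (e2 : peq (comp y h1) h2 = true) (e3 : peq (comp y h2) h3 = true) (hy3 : sp O.P y ^ 3 = 1) :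
    (sp O.P y * O.tOf h1) ^ 3 = O.tOf h2 * O.tOf h3 * O.tOf h1 := by
  have c1 : sp O.P y * O.tOf h1 * (sp O.P y)⁻¹ = O.tOf h2 := by
    rw [O.tOf_comp hy k1, tOf, tOf, sp_of_peq O.P e2 k2]
  have c2 : sp O.P y * O.tOf h2 * (sp O.P y)⁻¹ = O.tOf h3 := by
    rw [O.tOf_comp hy k2, tOf, tOf, sp_of_peq O.P e3 k3]
  rw [← c2, ← c1]
  have h3' : sp O.P y * sp O.P y = (sp O.P y)⁻¹ := eq_inv_of_mul_eq_one_left (by rw [← hy3, pow_three, mul_assoc])
  rw [pow_three]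
  calc sp O.P y * O.tOf h1 * (sp O.P y * O.tOf h1 * (sp O.P y * O.tOf h1))
      = sp O.P y * O.tOf h1 * sp O.P y * O.tOf h1 * (sp O.P y) * O.tOf h1 := by group
    _ = _ := by
        rw [show sp O.P y * O.tOf h1 * (sp O.P y)⁻¹ * (sp O.P y * (sp O.P y * O.tOf h1 * (sp O.P y)⁻¹) * (sp O.P y)⁻¹) *
          O.tOf h1 = sp O.P y * O.tOf h1 * sp O.P y * O.tOf h1 * ((sp O.P y)⁻¹ * (sp O.P y)⁻¹) * O.tOf h1 by group,
          ← mul_inv_rev, h3', inv_inv]

theorem rels : ∀ r ∈ jRels, FreeGroup.lift O.gen r = 1 := by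
  intro r hr
  rw [show jRels = {r | r ∈ Spor.J4.extra} from Cfsg.Lib.J4Pres.jRels_eq] at hr
  obtain ⟨hX, hY, hYi⟩ := O.val_letters
  have hXi := O.x_inv
  have hb := base_rels
  have hs := stab_rels
  have hl := long_rels
  simp only [Bool.and_eq_true] at hb hs hl
  obtain ⟨⟨⟨⟨⟨⟨b1, b2⟩, b3⟩, b4⟩, b5⟩, b6⟩, b7⟩ := hb
  obtain ⟨⟨⟨hxr, hx⟩, hwr⟩, hw⟩ := hs
  obtain ⟨⟨⟨⟨⟨⟨la, l1⟩, l2⟩, ls⟩, ls'⟩, lb'⟩, lb⟩ := hl
  have gx : FreeGroup.lift O.gen Spor.J4.x = sp O.P xP := FreeGroup.lift_apply_of ..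
  have gy : FreeGroup.lift O.gen Spor.J4.y = sp O.P yP := FreeGroup.lift_apply_of ..
  have gt : FreeGroup.lift O.gen Spor.J4.t = O.z0 := FreeGroup.lift_apply_of ..
  simp only [Spor.J4.extra, Set.mem_setOf_eq, List.mem_cons, List.not_mem_nil, or_false] at hr
  rcases hr with rfl | rfl | rfl | rfl | rfl | rfl | rfl | rfl | rfl | rfl | rfl | rfl <;>
    simp only [map_mul, map_pow, map_inv, gx, gy, gt, mul_inv_rev, hXi]
  · exact Val.one_of O (hX.pow O 2) b1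
  · exact Val.one_of O (hY.pow O 3) b2
  · exact Val.one_of O ((hX.mul O hY).pow O 23) b3
  · exact Val.one_of O ((((hX.mul O hYi).mul O hX).mul O hY).pow O 12) b4
  · refine Val.one_of O ?_ b5
    rw [← mul_assoc (sp O.P yP)⁻¹ (sp O.P xP)]
    exact (((hX.mul O ((hYi.mul O hX).mul O hYi)).mul O hX).mul O ((hY.mul O hX).mul O hY)).pow O 5
  · exact Val.one_of O (((hX.mul O hY).mul O ((((hX.mul O hY).mul O hX).mul O hYi).pow O 3)).pow O 4) b6
  · exact Val.one_of O (((((((hX.mul O hY).mul O hX).mul O hY).mul O hX).mul O hYi).pow O 3).mul O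
      ((((((hX.mul O hY).mul O hX).mul O hYi).mul O hX).mul O hYi).pow O 3)) b7
  · rw [pow_two, O.data.sq]
  · have hW : O.Val wP (sp O.P yP * sp O.P xP * sp O.P yP * (sp O.P xP * (sp O.P yP)⁻¹) ^ 2 *
        (sp O.P xP * sp O.P yP) ^ 3) :=
      (((hY.mul O hX).mul O hY).mul O ((hX.mul O hYi).pow O 2)).mul O ((hX.mul O hY).pow O 3)
    set w := sp O.P yP * sp O.P xP * sp O.P yP * (sp O.P xP * (sp O.P yP)⁻¹) ^ 2 * (sp O.P xP * sp O.P yP) ^ 3
    have hc : Commute O.z0 w := by rw [hW.2, sp_of_peq O.P hw (isPk_rVal hwr)]; exact O.comm_r hwr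
    have e : O.z0⁻¹ * w⁻¹ * O.z0 * w = 1 := by
      rw [mul_assoc (O.z0⁻¹ * w⁻¹), hc.eq]; group
    simpa [w, mul_inv_rev, hXi] using e
  · have hc : Commute O.z0 (sp O.P xP) := by rw [sp_of_peq O.P hx (isPk_rVal hxr)]; exact O.comm_r hxr
    rw [mul_assoc (O.z0⁻¹ * sp O.P xP), hc.eq, ← mul_assoc (O.z0⁻¹ * sp O.P xP),
      mul_assoc O.z0⁻¹ (sp O.P xP) (sp O.P xP)]
    rw [show sp O.P xP * sp O.P xP = 1 by
      nth_rewrite 1 [← hXi]
      exact inv_mul_cancel _, mul_one, inv_mul_cancel]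
  · have hA : O.Val aP (sp O.P yP * sp O.P xP * (sp O.P yP)⁻¹ * sp O.P xP * sp O.P yP * sp O.P xP *
        (sp O.P yP)⁻¹ * sp O.P xP * 1) :=
      Val.mul O ((((((((hY.mul O hX).mul O hYi).mul O hX).mul O hY).mul O hX).mul O hYi).mul O hX))
        ⟨isPk_idP, (sp_idP O.P).symm⟩
    rw [mul_one] at hA
    set a := sp O.P yP * sp O.P xP * (sp O.P yP)⁻¹ * sp O.P xP * sp O.P yP * sp O.P xP *
      (sp O.P yP)⁻¹ * sp O.P xP
    have hai := Val.inv_of O hA (lH_pk (show 0 < 3 by norm_num)) la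
    have e : (sp O.P yP * (a⁻¹ * O.z0 * a)) ^ 3 = 1 := by
      rw [show a⁻¹ * O.z0 * a = O.tOf (lH 0) by rw [tOf, ← hai.2, inv_inv],
        O.tri_product hY.1 (lH_pk (by norm_num)) (lH_pk (by norm_num)) (lH_pk (by norm_num)) l1 l2
          (Val.one_of O (hY.pow O 3) b2)]
      exact O.uLine_eq
    simpa [a, mul_inv_rev, hXi, mul_assoc] using e
  · have hS : O.Val sW ((sp O.P yP * sp O.P xP * sp O.P yP * sp O.P xP * sp O.P yP * sp O.P xP * sp O.P yP) ^ 3) :=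
      ((((((hY.mul O hX).mul O hY).mul O hX).mul O hY).mul O hX).mul O hY).pow O 3
    have hB : O.Val bP ((sp O.P xP * sp O.P yP) ^ 3 * sp O.P yP * (sp O.P xP * sp O.P yP) ^ 6 * sp O.P yP) :=
      ((((hX.mul O hY).pow O 3).mul O hY).mul O ((hX.mul O hY).pow O 6)).mul O hY
    set s := (sp O.P yP * sp O.P xP * sp O.P yP * sp O.P xP * sp O.P yP * sp O.P xP * sp O.P yP) ^ 3
    set b := (sp O.P xP * sp O.P yP) ^ 3 * sp O.P yP * (sp O.P xP * sp O.P yP) ^ 6 * sp O.P yP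
    have hbi := Val.inv_of O hB (isPk_of_inMat lb') lb
    have e : (s * O.z0 * (b⁻¹ * O.z0 * b)) ^ 2 = 1 := by
      rw [show b⁻¹ * O.z0 * b = O.tOf bH by rw [tOf, ← hbi.2, inv_inv],
        show s = sp O.P sP by rw [hS.2, sp_of_peq O.P ls (isPk_of_inMat ls')], pow_two]
      exact O.last_relator
    simpa [s, b, mul_inv_rev, hXi, mul_assoc] using e

/-- The map. -/
noncomputable def hom : PresentedGroup jRels →* G := PresentedGroup.toGroup O.rels

theorem hom_mk (r : FreeGroup Spor.J4.Gen) : O.hom (PresentedGroup.mk jRels r) = FreeGroup.lift O.gen r := rfl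

theorem hom_injective : Function.Injective O.hom := by
  haveI : IsSimpleGroup J4Real.Gsub := J4Real.isSimple_Gsub
  haveI : Nontrivial (PresentedGroup jRels) := J4Iso.isoG.toEquiv.nontrivial
  haveI : IsSimpleGroup (PresentedGroup jRels) :=
    IsSimpleGroup.isSimpleGroup_of_surjective J4Iso.isoG.symm.toMonoidHom J4Iso.isoG.symm.surjective
  rcases IsSimpleGroup.eq_bot_or_eq_top_of_normal O.hom.ker O.hom.normal_ker with h | h
  · exact (MonoidHom.ker_eq_bot_iff _).1 h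
  · exfalso
    refine O.data.ne ?_
    have := (SetLike.ext_iff.1 h (PresentedGroup.mk jRels Spor.J4.t)).2 (Subgroup.mem_top _)
    rw [MonoidHom.mem_ker, hom_mk, FreeGroup.lift_apply_of] at this
    exact this

set_option maxHeartbeats 4000000 in
theorem hom_u_mem : O.hom (PresentedGroup.mk jRels uElt) ∈ S.NV := by
  obtain ⟨hX, hY, hYi⟩ := O.val_letters
  have h := u_rels
  simp only [Bool.and_eq_true, List.all_eq_true, Nat.beq_eq, Nat.blt_eq, beq_iff_eq] at h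
  obtain ⟨⟨⟨⟨⟨⟨⟨⟨⟨hm, hl⟩, u1⟩, u2⟩, u3⟩, hp⟩, hpd⟩, hh⟩, hc⟩, he⟩ := h
  have pk : ∀ i < 3, IsPk (uH.getD i 0) := fun i hi => by
    rw [List.getD_eq_getElem _ _ (by omega)]; exact isPk_of_inMat (hm _ (List.getElem_mem _))
  have hU : O.Val uP ((sp O.P yP * sp O.P xP) ^ 4 * (sp O.P yP)⁻¹ * sp O.P xP) :=
    (((hY.mul O hX).pow O 4).mul O hYi).mul O hX
  have hui := Val.inv_of O hU (pk 0 (by norm_num)) u1
  have hb := base_rels
  simp only [Bool.and_eq_true] at hb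
  set c := (sp O.P yP * sp O.P xP) ^ 4 * (sp O.P yP)⁻¹ * sp O.P xP
  have e : O.hom (PresentedGroup.mk jRels uElt) = O.wOf uChain := by
    rw [hom_mk, O.wOf_three hh, uElt]
    simp only [map_mul, map_pow, map_inv, FreeGroup.lift_apply_of]
    show (sp O.P yP * c⁻¹ * O.z0 * c) ^ 3 = _
    rw [show sp O.P yP * c⁻¹ * O.z0 * c = sp O.P yP * O.tOf (uH.getD 0 0) by
      rw [tOf, ← hui.2, inv_inv]; group,
      O.tri_product hY.1 (pk 0 (by norm_num)) (pk 1 (by norm_num)) (pk 2 (by norm_num)) u2 u3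
        (Val.one_of O (hY.pow O 3) hb.1.1.1.1.1.2)]
  have e2 := O.chain_fix ⟨hp, isPk_idP⟩ ⟨hp, isPk_idP⟩ hc he
  rw [cval_ev] at e2
  obtain ⟨q1, q2⟩ := ev_pairs O.P hp hpd
  rw [e]
  exact mem_NV_of_moves O.P (O.P.ev_mem _) q1 q2 (e2.symm ▸ O.P.ev_mem _)

theorem map_threeGen : threeGen.map O.hom = S.NV := by
  have hle : threeGen.map O.hom ≤ S.NV := by
    rw [threeGen, MonoidHom.map_closure, MonoidHom.map_closure, Subgroup.closure_le]
    rintro _ ⟨_, ⟨r, rfl | rfl | rfl, rfl⟩, rfl⟩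
    · rw [hom_mk, FreeGroup.lift_apply_of]; exact sp_mem _ _
    · rw [hom_mk, FreeGroup.lift_apply_of]; exact sp_mem _ _
    · exact O.hom_u_mem
  refine Subgroup.eq_of_le_of_card_ge hle ?_
  rw [Subgroup.card_map_of_injective O.hom_injective, J4Iso.threeGen_eq, J4Iso.card_MG, O.P.adapted.card_NV]
  norm_num

end OrderSetup

end Cfsg.Lib.JankoFourOrder
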