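import Cfsg.Agent.Lib.JankoFour.Centralizer
import Cfsg.Agent.Lib.JankoFourOrder.Hom
import Cfsg.Agent.Lib.J4Real.CentGrp

/-!
# The image of the presented group is the whole group, and the classes of involutions
-/

set_option autoImplicit false
set_option maxRecDepth 100000
set_option linter.style.haveILetI false
set_option linter.unusedSectionVars false

namespace Cfsg.Lib.JankoFourOrder

open Cfsg Cfsg.Lib.Concrete Cfsg.Lib.JankoFour Cfsg.Lib.JankoFourTen
open Cfsg.Lib.J4Iso (threeGen isoG MG piG isoG_val piG_MG piG_MG_surj threeGen_eq)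
open Cfsg.Lib.J4Pres (jRels)
open Cfsg.Lib.J4Real (Gsub Msub Esub Cz CMz zEl zMask eW eW_mem eW_mem_M M_le_G mem_Esub)
open Cfsg.Lib.FusionSys.MathieuCert (toPerm)

attribute [local irreducible] toPerm

variable {G : Type*} [Group G] [Finite G] {A : Type} [Group A] {I : Subgroup A} {F : Frame G A I}
  {D : HexData A I} {S : Std F D}

section Setup

variable (P : TenSetup S)

include P in
/-- An involution of the normalizer centralizes an element of the second class. -/
theorem exists_second {x : G} (hx : x ∈ S.NV) (hx2 : x * x = 1) :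
    ∃ t ∈ S.Vb, t ≠ 1 ∧ ¬ IsConj F.z t ∧ Commute x t := by
  obtain ⟨g, hg⟩ : ∃ g, g = P.T.ψ ⟨x, hx⟩ := ⟨_, rfl⟩
  have hg2 : (g : Equiv.Perm GolayPt) * g = 1 := by
    rw [← Subgroup.coe_mul, hg, ← map_mul, show (⟨x, hx⟩ : ↥S.NV) * ⟨x, hx⟩ = 1 from Subtype.ext hx2, map_one,
      Subgroup.coe_one]
  obtain ⟨a, b, hab, hset⟩ : ∃ a b, a ≠ b ∧
      (((g : Equiv.Perm GolayPt) a = b ∧ (g : Equiv.Perm GolayPt) b = a) ∨
        ((g : Equiv.Perm GolayPt) a = a ∧ (g : Equiv.Perm GolayPt) b = b)) := by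
    by_cases h : ∃ a, (g : Equiv.Perm GolayPt) a ≠ a
    · obtain ⟨a, ha⟩ := h
      refine ⟨a, _, fun e => ha e.symm, Or.inl ⟨rfl, ?_⟩⟩
      rw [← Equiv.Perm.mul_apply, hg2, Equiv.Perm.one_apply]
    · push Not at h
      exact ⟨gpt 0, gpt 1, gpt_injective.ne (by decide), Or.inr ⟨h _, h _⟩⟩
  have hd := (P.T.dset (P.T.f a * P.T.f b)).2 ⟨a, b, hab, rfl⟩
  refine ⟨(P.T.f a * P.T.f b : ↥S.Vb), Subtype.property _, fun e => hd.1 (Subtype.ext e), hd.2, ?_⟩
  have e := P.T.rel ⟨x, hx⟩ a b hab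
  rw [← hg] at e
  have e' : S.normAut ⟨x, hx⟩ (P.T.f a * P.T.f b) = P.T.f a * P.T.f b := by
    rcases hset with ⟨h1, h2⟩ | ⟨h1, h2⟩
    · rw [e, h1, h2]
      exact Subtype.ext (S.Vb_comm (P.T.f b).2 (P.T.f a).2).eq
    · rw [e, h1, h2]
  have h := congrArg Subtype.val e'
  rw [S.normAut_apply] at h
  exact mul_inv_eq_iff_eq_mul.1 h

include P in
/-- An involution of the normalizer is conjugate into the standard group by the normalizer and `C(z)`. -/
theorem conj_into {k : G} (hk : k ∈ S.NV) (hk2 : k * k = 1) :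
    ∃ d n : G, Commute d F.z ∧ n ∈ S.NV ∧ d * n * k * (d * n)⁻¹ ∈ S.Vb := by
  by_cases hkV : k ∈ S.Vb
  · exact ⟨1, 1, Commute.one_left _, one_mem _, by simpa using hkV⟩
  obtain ⟨t, ht, ht1, htnc, hc⟩ := exists_second P hk hk2
  obtain ⟨n, hn, hE, -, -⟩ := P.adapted.into hk hk2 hkV ht ht1 htnc hc
  obtain ⟨d, hd, hK⟩ := P.adapted.fused_E hE (Frame.conj_sq_one hk2)
  refine ⟨d, n, hd, hn, S.K_le ?_⟩
  convert hK using 1
  group

include P in
/-- The members of the second class in the standard group are conjugate in its normalizer. -/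
theorem second_conj {t t' : G} (ht : t ∈ S.Vb) (ht1 : t ≠ 1) (htnc : ¬ IsConj F.z t) (ht' : t' ∈ S.Vb)
    (ht1' : t' ≠ 1) (htnc' : ¬ IsConj F.z t') : ∃ n ∈ S.NV, n * t * n⁻¹ = t' := by
  obtain ⟨-, -, -, -, -, hcls, horb⟩ := P.adapted.model
  have key : ∀ {u : G}, u ∈ S.Vb → u ≠ 1 → ¬ IsConj F.z u → u ∈ S.orb (P.adapted.nz 1) := by
    intro u hu hu1 hunc
    obtain ⟨v, hv, rfl⟩ := P.adapted.exists_el hu
    refine (horb v hv).2 ?_
    by_contra hD
    exact hunc ((hcls v hv).2 ⟨fun h0 => hu1 (by rw [h0, P.adapted.el_zero]), Bool.eq_false_iff.2 hD⟩)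
  obtain ⟨n, hn, e⟩ := key ht ht1 htnc
  obtain ⟨m, hm, e'⟩ := key ht' ht1' htnc'
  exact ⟨m * n⁻¹, mul_mem hm (inv_mem hn), by rw [← e, ← e']; group⟩

end Setup

namespace OrderSetup

variable (O : OrderSetup S)

/-- The map on the group of permutations. -/
noncomputable def emb : ↥Gsub →* G := O.hom.comp isoG.symm.toMonoidHom

theorem emb_injective : Function.Injective O.emb := O.hom_injective.comp isoG.symm.injective

theorem emb_range : O.emb.range = O.hom.range := by
  refine le_antisymm ?_ ?_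
  · rintro g ⟨x, hx⟩
    exact ⟨_, hx⟩
  · rintro g ⟨x, hx⟩
    refine ⟨isoG x, ?_⟩
    show O.hom (isoG.symm (isoG x)) = g
    rw [MulEquiv.symm_apply_apply]
    exact hx

theorem NV_le_range : S.NV ≤ O.hom.range := by
  rw [← O.map_threeGen]
  exact Subgroup.map_le_range _ _

theorem emb_mem_NV_iff {x : ↥Gsub} : O.emb x ∈ S.NV ↔ (x : Equiv.Perm J4Real.Vec) ∈ Msub := by
  rw [← O.map_threeGen, threeGen_eq]
  constructor
  · rintro ⟨y, hy, e⟩
    have : y = isoG.symm x := O.hom_injective e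
    rw [← MulEquiv.apply_symm_apply isoG x, isoG_val, ← this]
    exact piG_MG hy
  · intro hx
    obtain ⟨y, hy, e⟩ := piG_MG_surj hx
    refine ⟨y, hy, ?_⟩
    show O.hom y = O.hom (isoG.symm x)
    rw [show isoG.symm x = y from isoG.injective (Subtype.ext (by rw [MulEquiv.apply_symm_apply, isoG_val, e]))]

/-- The image of the group of masks is the standard group. -/
theorem emb_Esub : (Esub.subgroupOf Gsub).map O.emb = S.Vb := by
  have hEG : Esub ≤ Gsub := fun x hx => by
    obtain ⟨m, -, rfl⟩ := mem_Esub hx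
    exact M_le_G (eW_mem_M m)
  set V := (Esub.subgroupOf Gsub).map O.emb
  have hV : IsBig V := by
    refine ⟨?_, ?_⟩
    · rintro _ ⟨x, hx, rfl⟩
      obtain ⟨m, -, e⟩ := mem_Esub hx
      change eW m = (x : Equiv.Perm J4Real.Vec) at e
      rw [← map_mul, show x * x = 1 from Subtype.ext (by
        rw [Subgroup.coe_mul, Subgroup.coe_one, ← e, J4Real.eW_mul, Nat.xor_self, J4Real.eW_zero]), map_one]
    · rw [Subgroup.card_map_of_injective O.emb_injective, Nat.card_congr (Subgroup.subgroupOfEquivOfLe hEG).toEquiv,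
        J4Real.card_Esub]
      norm_num
  have hle : V ≤ Subgroup.normalizer (S.Vb : Set G) := by
    rintro _ ⟨x, hx, rfl⟩
    obtain ⟨m, -, e⟩ := mem_Esub hx
    change eW m = (x : Equiv.Perm J4Real.Vec) at e
    exact O.emb_mem_NV_iff.2 (e ▸ eW_mem_M m)
  exact S.two_group_unique ((isBig_pGroup hV).to_sup_of_normal_right' (isBig_pGroup S.isBig) hle) hV S.isBig
    le_sup_left le_sup_right

theorem zEl_mem_Gsub : zEl ∈ Gsub := M_le_G J4Real.zEl_mem

/-- The centralizer of a member of the first class lies in the image. -/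
theorem exists_first : ∃ j ∈ S.Vb, IsConj F.z j ∧ Subgroup.centralizer ({j} : Set G) ≤ O.hom.range := by
  set x : ↥Gsub := ⟨zEl, zEl_mem_Gsub⟩
  set j := O.emb x
  have hjV : j ∈ S.Vb := by
    rw [← O.emb_Esub]
    exact ⟨x, Subgroup.mem_subgroupOf.2 (eW_mem _), rfl⟩
  set C := (Cz.subgroupOf Gsub).map O.emb
  have hcard : Nat.card ↥C = 21799895040 := by
    rw [Subgroup.card_map_of_injective O.emb_injective,
      Nat.card_congr (Subgroup.subgroupOfEquivOfLe (show Cz ≤ Gsub from inf_le_left)).toEquiv, J4Real.card_Cz]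
  have hC : C ≤ Subgroup.centralizer ({j} : Set G) := by
    rintro _ ⟨c, hc, rfl⟩
    refine Subgroup.mem_centralizer_singleton_iff.2 ?_
    rw [← map_mul, ← map_mul]
    exact congrArg O.emb (Subtype.ext (Subgroup.mem_centralizer_singleton_iff.1 (Subgroup.mem_inf.1 hc).2))
  have hj1 : j ≠ 1 := fun e => by
    have h := congrArg Subtype.val (O.emb_injective (e.trans (map_one O.emb).symm))
    exact absurd (J4Real.eW_inj (b := 0) (by norm_num [zMask]) (by norm_num) (h.trans J4Real.eW_zero.symm))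
      (by norm_num [zMask])
  have hjz : IsConj F.z j := by
    by_contra hnc
    have hle : Cz ≤ CMz := fun c hc => ⟨O.emb_mem_NV_iff.1 ((O.P.cen j hjV hj1 hnc)
      (hC ⟨⟨c, (Subgroup.mem_inf.1 hc).1⟩, Subgroup.mem_subgroupOf.2 hc, rfl⟩)), (Subgroup.mem_inf.1 hc).2⟩
    haveI : Finite ↥CMz := Nat.finite_of_card_ne_zero (by rw [J4Real.card_CMz]; norm_num)
    have h := Subgroup.card_le_of_le hle
    rw [J4Real.card_Cz, J4Real.card_CMz] at h
    norm_num at h
  refine ⟨j, hjV, hjz, ?_⟩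
  have hCj : C = Subgroup.centralizer ({j} : Set G) := by
    refine Subgroup.eq_of_le_of_card_ge hC (le_of_eq ?_)
    obtain ⟨g, hg⟩ := isConj_iff.1 hjz
    have hmap : (Subgroup.centralizer ({F.z} : Set G)).map (MulAut.conj g).toMonoidHom =
        Subgroup.centralizer ({j} : Set G) := by
      ext y
      rw [Subgroup.mem_map_equiv, MulAut.conj_symm_apply, Subgroup.mem_centralizer_singleton_iff,
        Subgroup.mem_centralizer_singleton_iff, ← hg]
      constructor
      · intro h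
        calc y * (g * F.z * g⁻¹) = g * (g⁻¹ * y * g * F.z) * g⁻¹ := by group
          _ = g * F.z * g⁻¹ * y := by rw [h]; group
      · intro h
        calc g⁻¹ * y * g * F.z = g⁻¹ * (y * (g * F.z * g⁻¹)) * g := by group
          _ = F.z * (g⁻¹ * y * g) := by rw [h]; group
    rw [← hmap, Subgroup.card_map_of_injective (MulAut.conj g).injective, F.card_centralizer_z, hcard]
    norm_num
  rw [← hCj, ← O.emb_range]
  exact Subgroup.map_le_range _ _

/-- The centralizers of the involutions of the standard group lie in the image. -/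
theorem centralizer_le {v : G} (hv : v ∈ S.Vb) (hv1 : v ≠ 1) :
    Subgroup.centralizer ({v} : Set G) ≤ O.hom.range := by
  by_cases hz : IsConj F.z v
  · obtain ⟨j, hj, hjz, hle⟩ := O.exists_first
    obtain ⟨g, hg⟩ := isConj_iff.1 (hjz.symm.trans hz)
    obtain ⟨n, hn, hne⟩ := S.fusion hj hv hg
    intro c hc
    have hm : n⁻¹ * c * n ∈ O.hom.range := by
      refine hle (Subgroup.mem_centralizer_singleton_iff.2 ?_)
      rw [← hne, Subgroup.mem_centralizer_singleton_iff] at hc
      calc n⁻¹ * c * n * j = n⁻¹ * (c * (n * j * n⁻¹)) * n := by group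
        _ = j * (n⁻¹ * c * n) := by rw [hc]; group
    have hn' : n ∈ O.hom.range := O.NV_le_range hn
    rw [show c = n * (n⁻¹ * c * n) * n⁻¹ by group]
    exact mul_mem (mul_mem hn' hm) (inv_mem hn')
  · exact (O.P.cen v hv hv1 hz).trans O.NV_le_range

/-- The centralizers of the involutions of the normalizer lie in the image. -/
theorem centralizer_le' {k : G} (hk : k ∈ S.NV) (hk2 : k * k = 1) (hk1 : k ≠ 1) :
    Subgroup.centralizer ({k} : Set G) ≤ O.hom.range := by
  obtain ⟨d, n, hd, hn, hV⟩ := conj_into O.P hk hk2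
  have hdR : d ∈ O.hom.range := O.centralizer_le S.z_mem F.ctx.ne_one (F.centralizer_z_iff.2 hd)
  have hdn : d * n ∈ O.hom.range := mul_mem hdR (O.NV_le_range hn)
  intro c hc
  rw [Subgroup.mem_centralizer_singleton_iff] at hc
  have hm : d * n * c * (d * n)⁻¹ ∈ O.hom.range := by
    refine O.centralizer_le hV (fun e => hk1 (conj_eq_one_iff.1 e)) (Subgroup.mem_centralizer_singleton_iff.2 ?_)
    exact ((show Commute c k from hc).map (MulAut.conj (d * n)).toMonoidHom).eq
  rw [show c = (d * n)⁻¹ * (d * n * c * (d * n)⁻¹) * (d * n) by group]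
  exact mul_mem (mul_mem (inv_mem hdn) hm) hdn

/-- Every conjugate of `z` lies in the image. -/
theorem conj_mem {j : G} (hj : IsConj F.z j) : j ∈ O.hom.range := by
  obtain ⟨ht1, htnc⟩ := O.P.adapted.el_two_cls
  set t := O.P.adapted.el 2
  have ht : t ∈ S.Vb := O.P.adapted.el_mem 2
  obtain ⟨g, hg⟩ := isConj_iff.1 hj
  have hj2 : j * j = 1 := hg ▸ Frame.conj_sq_one F.ctx.sq_z
  rcases dihedral hj2 (S.Vb_sq ht) (H := ⊤) (Subgroup.mem_top _) (Subgroup.mem_top _) with
    ⟨c, -, hc⟩ | ⟨i, -, hi2, hi1, hij, hit, -, -⟩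
  · exact absurd (hj.trans (isConj_iff.2 ⟨c, hc⟩)) htnc
  · exact O.centralizer_le' (O.P.cen t ht ht1 htnc (Subgroup.mem_centralizer_singleton_iff.2 hit.eq)) hi2 hi1
      (Subgroup.mem_centralizer_singleton_iff.2 hij.symm.eq)

variable [IsSimpleGroup G]

include O in
theorem range_eq_top : O.hom.range = ⊤ := by
  have hle : Subgroup.normalClosure ({F.z} : Set G) ≤ O.hom.range := by
    rw [Subgroup.normalClosure, Subgroup.closure_le]
    intro y hy
    obtain ⟨x, hx, hxy⟩ := Group.mem_conjugatesOfSet_iff.1 hy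
    exact O.conj_mem (Set.mem_singleton_iff.1 hx ▸ hxy)
  refine top_unique (le_trans (ge_of_eq ?_) hle)
  refine (IsSimpleGroup.eq_bot_or_eq_top_of_normal _ Subgroup.normalClosure_normal).resolve_left fun e => ?_
  exact F.ctx.ne_one (Subgroup.mem_bot.1 (e ▸ Subgroup.subset_normalClosure (Set.mem_singleton F.z)))

/-- The isomorphism. -/
noncomputable def iso : PresentedGroup jRels ≃* G :=
  MulEquiv.ofBijective O.hom ⟨O.hom_injective, MonoidHom.range_eq_top.1 O.range_eq_top⟩

include O in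
theorem card_eq : Nat.card G = 86775571046077562880 := by
  rw [← Nat.card_congr O.iso.toEquiv, Nat.card_congr isoG.toEquiv, J4Real.card_Gsub]

theorem map_threeGen_iso : threeGen.map O.iso.toMonoidHom = S.NV := O.map_threeGen

include O in
theorem index_NV : S.NV.index = 173067389 := by
  rw [← O.map_threeGen_iso]
  exact (Subgroup.index_map_equiv threeGen O.iso).trans J4Iso.index_threeGen

include O in
/-- Every involution is conjugate into the standard group. -/
theorem exists_conj_Vb {x : G} (hx2 : x * x = 1) : ∃ g : G, g * x * g⁻¹ ∈ S.Vb := by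
  haveI : Fact (Nat.Prime 2) := ⟨Nat.prime_two⟩
  have hp : IsPGroup 2 ↥(Subgroup.zpowers x) := by
    by_cases hx : x = 1
    · subst hx
      rw [Subgroup.zpowers_one_eq_bot]
      exact IsPGroup.of_bot
    · exact IsPGroup.of_card (n := 1) (by rw [Nat.card_zpowers, pow_one, orderOf_eq_prime (by rwa [pow_two]) hx])
  obtain ⟨Q, hQ⟩ := hp.exists_le_sylow
  obtain ⟨R⟩ := (inferInstance : Nonempty (Sylow 2 ↥S.NV))
  obtain ⟨T, hT⟩ : ∃ T : Sylow 2 G, (T : Subgroup G) ≤ S.NV := by
    obtain ⟨T, hT⟩ := (R.isPGroup'.map S.NV.subtype).exists_le_sylow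
    refine ⟨T, ?_⟩
    have hc : Nat.card ↥((R : Subgroup ↥S.NV).map S.NV.subtype) = Nat.card ↥(T : Subgroup G) := by
      rw [Subgroup.card_map_of_injective S.NV.subtype_injective, R.card_eq_multiplicity, T.card_eq_multiplicity,
        ← Subgroup.card_mul_index S.NV, O.index_NV, Nat.factorization_mul Nat.card_pos.ne' (by norm_num),
        Finsupp.add_apply, Nat.factorization_eq_zero_of_not_dvd (show ¬ 2 ∣ 173067389 by norm_num), add_zero]
    rw [← Subgroup.eq_of_le_of_card_ge hT hc.ge]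
    exact Subgroup.map_subtype_le _
  obtain ⟨g, hg⟩ := MulAction.exists_smul_eq G Q T
  have hm : g * x * g⁻¹ ∈ S.NV := hT (by
    rw [← hg]
    exact ⟨x, hQ (Subgroup.mem_zpowers x), rfl⟩)
  obtain ⟨d, n, -, -, hV⟩ := conj_into O.P hm (Frame.conj_sq_one hx2)
  refine ⟨d * n * g, ?_⟩
  convert hV using 1
  group

include O in
/-- There are two classes of involutions. -/
theorem two_classes : ∃ x y : G, orderOf x = 2 ∧ orderOf y = 2 ∧ ¬ IsConj x y ∧
    ∀ w : G, orderOf w = 2 → IsConj w x ∨ IsConj w y := by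
  haveI : Fact (Nat.Prime 2) := ⟨Nat.prime_two⟩
  obtain ⟨ht1, htnc⟩ := O.P.adapted.el_two_cls
  set t := O.P.adapted.el 2
  have ht : t ∈ S.Vb := O.P.adapted.el_mem 2
  refine ⟨F.z, t, orderOf_eq_prime (by rw [pow_two, F.ctx.sq_z]) F.ctx.ne_one,
    orderOf_eq_prime (by rw [pow_two, S.Vb_sq ht]) ht1, htnc, fun w hw => ?_⟩
  have hw2 : w * w = 1 := by rw [← pow_two, ← hw, pow_orderOf_eq_one]
  obtain ⟨g, hg⟩ := O.exists_conj_Vb hw2
  have hc : IsConj w (g * w * g⁻¹) := isConj_iff.2 ⟨g, rfl⟩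
  by_cases hz : IsConj F.z (g * w * g⁻¹)
  · exact Or.inl (hc.trans hz.symm)
  · obtain ⟨n, -, hn⟩ := second_conj O.P hg
      (fun e => by rw [conj_eq_one_iff.1 e, orderOf_one] at hw; norm_num at hw) hz ht ht1 htnc
    exact Or.inr (hc.trans (isConj_iff.2 ⟨n, hn⟩))

end OrderSetup

end Cfsg.Lib.JankoFourOrder
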