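import Cfsg.Agent.Lib.JankoFour.Setting
import Cfsg.Agent.Lib.JankoFour.Split
import Cfsg.Agent.Lib.JankoFourTen.Model
import Cfsg.Agent.Lib.JankoFourOrder.Whole
import Cfsg.Prelude.Def_Spor_J4

/-!
# A simple group of Janko-four type is the fourth Janko group
-/

set_option autoImplicit false
set_option linter.style.haveILetI false
set_option linter.unusedSectionVars false

namespace Cfsg.Lib.JankoFourOrder

open Cfsg Cfsg.Lib.JankoFour Cfsg.Lib.JankoFourTen

universe u

variable {G : Type u} [Group G] [Finite G] [IsSimpleGroup G]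

/-- A setting with the involution centralizing an element of order three, at the given involution. -/
theorem exists_order_setting (hG : ¬ IsMulCommutative G) {z : G} (hJ : Cfsg.IsOfJankoFourTypeAt z) :
    ∃ (F : Frame G AutM22.A22 AutM22.inner) (S : Std F AutM22.hexData),
      F.z = z ∧ Nonempty (OrderSetup S) := by
  obtain ⟨F, S, hFz, ⟨C⟩⟩ := exists_setting hG hJ
  obtain ⟨T⟩ := exists_model C
  obtain ⟨σ, hσ⟩ := C.exists_section T.ψ T.surj T.ker
  exact ⟨F, S, hFz, exists_orderSetup ⟨T, C, σ, hσ, fun _ ht h1 hnc => C.centralizer_le_NV ht h1 hnc⟩⟩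

/-- A simple group of Janko-four type is the fourth Janko group. -/
theorem iso_of_type (hG : ¬ IsMulCommutative G) (hJ : Cfsg.IsOfJankoFourType G) : Cfsg.Spor.IsoJ4 G := by
  obtain ⟨z, hz⟩ := hJ
  obtain ⟨F, S, -, ⟨O⟩⟩ := exists_order_setting hG hz
  exact ⟨O.iso.symm⟩

/-- It is the group of permutations generated by the three letters. -/
theorem gsub_of_type (hG : ¬ IsMulCommutative G) (hJ : Cfsg.IsOfJankoFourType G) :
    Nonempty (G ≃* ↥J4Real.Gsub) := by
  obtain ⟨z, hz⟩ := hJ
  obtain ⟨F, S, -, ⟨O⟩⟩ := exists_order_setting hG hz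
  exact ⟨O.iso.symm.trans J4Iso.isoG⟩

/-- The order of a simple group of Janko-four type. -/
theorem card_of_type (hG : ¬ IsMulCommutative G) (hJ : Cfsg.IsOfJankoFourType G) :
    Nat.card G = 86775571046077562880 := by
  obtain ⟨z, hz⟩ := hJ
  obtain ⟨F, S, -, ⟨O⟩⟩ := exists_order_setting hG hz
  exact O.card_eq

/-- It has two classes of involutions. -/
theorem two_classes_of_type (hG : ¬ IsMulCommutative G) (hJ : Cfsg.IsOfJankoFourType G) :
    ∃ x y : G, orderOf x = 2 ∧ orderOf y = 2 ∧ ¬ IsConj x y ∧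
      ∀ w : G, orderOf w = 2 → IsConj w x ∨ IsConj w y := by
  obtain ⟨z, hz⟩ := hJ
  obtain ⟨F, S, -, ⟨O⟩⟩ := exists_order_setting hG hz
  exact O.two_classes

end Cfsg.Lib.JankoFourOrder
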