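import Cfsg.Agent.Lib.JankoFourOrder.Zpi

/-!
# The conjugates of the involution and their effect on pairs
-/

set_option autoImplicit false
set_option maxRecDepth 100000
set_option linter.style.haveILetI false
set_option linter.unusedSectionVars false

namespace Cfsg.Lib.JankoFourOrder

open Cfsg Cfsg.Lib.Concrete Cfsg.Lib.JankoFour Cfsg.Lib.JankoFourTen
open Cfsg.Lib.JankoFour.BitModel (lin)
open Cfsg.Lib.J4Iso (comp idP)
open Cfsg.Lib.FusionSys.MathieuCert (toPerm)

attribute [local irreducible] toPerm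

/-- A word in the normalizer and the translation. -/
noncomputable def rVal : ℕ × List ℕ → ℕ
  | (n, l) => l.foldl (fun r m => comp (comp r kfP) m) n

/-- The letters of a word normalize. -/
noncomputable def rOK : ℕ × List ℕ → Bool
  | (n, l) => npOK n && l.all npOK

/-- An element of the form `h g` with `g` normalizing, and the conjugate translation. -/
noncomputable def duadOK (h : ℕ) (e : ℕ × ℕ) : Bool :=
  npOK e.1 && inMat e.2 && peq (comp e.2 (comp h e.1)) (comp (comp h e.1) kfP)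

/-- The pair of points moved. -/
noncomputable def duadSrc (h : ℕ) (e : ℕ × ℕ) : ℕ := lin (actL (comp h e.1)) dC

/-- The sum of the coordinates. -/
noncomputable def stepSrc (h : ℕ) : List (ℕ × ℕ) → ℕ
  | [] => 0
  | e :: l => duadSrc h e ^^^ stepSrc h l

/-- The product of the images. -/
noncomputable def stepImg (h : ℕ) : List (ℕ × ℕ) → ℕ × ℕ
  | [] => cone
  | e :: l => cmul (duadSrc h e, e.2) (stepImg h l)

/-- A certificate for one conjugation. -/
structure Step where
  /-- A member leading from the standard trio. -/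
  h : ℕ
  /-- The pairs of points used. -/
  es : List (ℕ × ℕ)
  /-- The word for the permutation. -/
  r : ℕ × List ℕ

/-- The image of a pair under one conjugation. -/
noncomputable def Step.out (s : Step) (a : ℕ × ℕ) : ℕ × ℕ := cmul (stepImg s.h s.es) (0, a.2)

/-- The certificate is correct for the pair. -/
noncomputable def Step.ok (s : Step) (a : ℕ × ℕ) : Bool :=
  inMat s.h && s.es.all (duadOK s.h) && Nat.beq (stepSrc s.h s.es) a.1 && rOK s.r &&
    peq (comp a.2 s.h) (comp s.h (rVal s.r))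

/-- The image after several conjugations, the first one first. -/
noncomputable def chainOut : List Step → ℕ × ℕ → ℕ × ℕ
  | [], a => a
  | s :: l, a => chainOut l (s.out a)

/-- All certificates are correct. -/
noncomputable def chainOK : List Step → ℕ × ℕ → Bool
  | [], _ => true
  | s :: l, a => s.ok a && chainOK l (s.out a)

theorem pk_kf : IsPk kfP := by
  have h' := pi_facts
  simp only [Bool.and_eq_true] at h'
  exact isPk_of_inMat h'.1.1.1.1.2

theorem pk_np {p : ℕ} (h : npOK p = true) : IsPk p := by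
  rw [npOK, Bool.and_eq_true] at h
  exact isPk_of_inMat h.1

theorem isPk_rVal {r : ℕ × List ℕ} (h : rOK r = true) : IsPk (rVal r) := by
  obtain ⟨n, l⟩ := r
  rw [rOK, Bool.and_eq_true, List.all_eq_true] at h
  obtain ⟨hn0, hl⟩ := h
  have hn := pk_np hn0
  clear hn0
  show IsPk (l.foldl (fun r m => comp (comp r kfP) m) n)
  induction l generalizing n with
  | nil => exact hn
  | cons a l ih =>
    exact ih _ (fun b hb => hl b (List.mem_cons_of_mem _ hb)) (isPk_comp (isPk_comp hn pk_kf)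
      (pk_np (hl a List.mem_cons_self)))

variable {G : Type*} [Group G] [Finite G] {A : Type} [Group A] {I : Subgroup A} {F : Frame G A I}
  {D : HexData A I} {S : Std F D}

namespace OrderSetup

variable (O : OrderSetup S)

theorem zinv : O.z0⁻¹ = O.z0 := inv_eq_of_mul_eq_one_right O.data.sq

theorem z0_conj_mul (x y : G) : O.z0 * (x * y) * O.z0 = O.z0 * x * O.z0 * (O.z0 * y * O.z0) := by
  rw [show O.z0 * x * O.z0 * (O.z0 * y * O.z0) = O.z0 * x * (O.z0 * O.z0) * y * O.z0 by group, O.data.sq]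
  group

theorem conj_z0 {g : G} (hg : Commute O.z0 g) (x : G) :
    O.z0 * (g * x * g⁻¹) * O.z0 = g * (O.z0 * x * O.z0) * g⁻¹ := by
  rw [show O.z0 * (g * x * g⁻¹) * O.z0 = O.z0 * g * x * (g⁻¹ * O.z0) by group, hg.eq,
    (hg.inv_right).symm.eq]
  group

theorem kf_sq : peq (comp kfP kfP) idP = true := by decide +kernel

/-- The translation centralizes the involution. -/
theorem comm_kf : Commute O.z0 (sp O.P kfP) := by
  have e : O.z0 * (O.P.ev dC * sp O.P kfP) * O.z0 = O.P.ev dC := by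
    rw [show O.P.ev dC * sp O.P kfP = cval O.P (dC, kfP) from rfl, ← O.zd,
      show O.z0 * (O.z0 * O.P.ev dC * O.z0) * O.z0 = O.z0 * O.z0 * O.P.ev dC * (O.z0 * O.z0) by group, O.data.sq,
      one_mul, mul_one]
  rw [O.z0_conj_mul, O.zd, cval, mul_assoc, mul_eq_left] at e
  have hk : sp O.P kfP * sp O.P kfP = 1 := by
    rw [← sp_comp O.P pk_kf pk_kf, sp_of_peq O.P kf_sq isPk_idP, sp_idP]
  have h2 : O.z0 * sp O.P kfP * O.z0 = sp O.P kfP :=
    (eq_inv_of_mul_eq_one_right e).trans (inv_eq_of_mul_eq_one_right hk)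
  calc O.z0 * sp O.P kfP = O.z0 * sp O.P kfP * O.z0 * O.z0 := by rw [mul_assoc, O.data.sq, mul_one]
    _ = _ := by rw [h2]

theorem comm_r {r : ℕ × List ℕ} (h : rOK r = true) : Commute O.z0 (sp O.P (rVal r)) := by
  obtain ⟨n, l⟩ := r
  rw [rOK, Bool.and_eq_true, List.all_eq_true] at h
  obtain ⟨hn, hl⟩ := h
  show Commute O.z0 (sp O.P (l.foldl (fun r m => comp (comp r kfP) m) n))
  have h0 : IsPk n ∧ Commute O.z0 (sp O.P n) := ⟨pk_np hn, O.data.comm_np hn⟩
  clear hn
  induction l generalizing n with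
  | nil => exact h0.2
  | cons a l ih =>
    have ha := hl a List.mem_cons_self
    have hk := isPk_comp h0.1 pk_kf
    refine ih _ (fun b hb => hl b (List.mem_cons_of_mem _ hb)) ⟨isPk_comp hk (pk_np ha), ?_⟩
    rw [sp_comp O.P hk (pk_np ha), sp_comp O.P h0.1 pk_kf]
    exact (h0.2.mul_right O.comm_kf).mul_right (O.data.comm_np ha)

/-- The conjugate belonging to a member. -/
noncomputable def tOf (h : ℕ) : G := sp O.P h * O.z0 * (sp O.P h)⁻¹

theorem tOf_sq (h : ℕ) : O.tOf h * O.tOf h = 1 := Frame.conj_sq_one O.data.sq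

theorem tOf_inv (h : ℕ) : (O.tOf h)⁻¹ = O.tOf h := inv_eq_of_mul_eq_one_right (O.tOf_sq h)

theorem tOf_idP : O.tOf idP = O.z0 := by rw [tOf, sp_idP, one_mul, inv_one, mul_one]

theorem tOf_comp {g h : ℕ} (hg : IsPk g) (hh : IsPk h) :
    sp O.P g * O.tOf h * (sp O.P g)⁻¹ = O.tOf (comp g h) := by
  rw [tOf, tOf, sp_comp O.P hg hh]
  group

/-- Members leading to the same trio give the same conjugate. -/
theorem tOf_eq {h h' : ℕ} (hh : IsPk h) {r : ℕ × List ℕ} (hr : rOK r = true)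
    (e : peq h' (comp h (rVal r)) = true) : O.tOf h' = O.tOf h := by
  rw [tOf, sp_of_peq O.P e (isPk_comp hh (isPk_rVal hr)), sp_comp O.P hh (isPk_rVal hr), tOf]
  rw [show sp O.P h * sp O.P (rVal r) * O.z0 * (sp O.P h * sp O.P (rVal r))⁻¹ =
    sp O.P h * (sp O.P (rVal r) * O.z0 * (sp O.P (rVal r))⁻¹) * (sp O.P h)⁻¹ by group,
    (O.comm_r hr).symm.eq, mul_inv_cancel_right]

theorem tOf_commute {g h : ℕ} (hg : IsPk g) (hh : IsPk h) {r : ℕ × List ℕ} (hr : rOK r = true)
    (e : peq (comp g h) (comp h (rVal r)) = true) : Commute (sp O.P g) (O.tOf h) := by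
  refine mul_inv_eq_iff_eq_mul.1 ?_
  rw [O.tOf_comp hg hh]
  exact O.tOf_eq hh hr e

theorem duad_step {h : ℕ} (hh : IsPk h) {e : ℕ × ℕ} (he : duadOK h e = true) :
    Ok (duadSrc h e, e.2) ∧ O.tOf h * O.P.ev (duadSrc h e) * O.tOf h = cval O.P (duadSrc h e, e.2) := by
  simp only [duadOK, Bool.and_eq_true] at he
  obtain ⟨⟨hn, hf⟩, hp⟩ := he
  have hf' := isPk_of_inMat hf
  have hk := isPk_comp hh (pk_np hn)
  refine ⟨⟨act_lt _ _, hf'⟩, ?_⟩
  have ht : O.tOf h = O.tOf (comp h e.1) := by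
    rw [← O.tOf_comp hh (pk_np hn), tOf, tOf, (O.data.comm_np hn).symm.eq, mul_inv_cancel_right]
  have hd : dC < 2048 := by norm_num [dC]
  rw [ht, cval, duadSrc, ← conj_ev O.P hk hd, tOf]
  set g := sp O.P (comp h e.1)
  have hfe : sp O.P e.2 = g * sp O.P kfP * g⁻¹ := by
    rw [eq_mul_inv_iff_mul_eq, ← sp_comp O.P hf' hk, ← sp_comp O.P hk pk_kf]
    exact sp_of_peq O.P hp (isPk_comp hk pk_kf)
  rw [hfe, show g * O.z0 * g⁻¹ * (g * O.P.ev dC * g⁻¹) * (g * O.z0 * g⁻¹) =
    g * (O.z0 * O.P.ev dC * O.z0) * g⁻¹ by group, O.zd, cval]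
  group

theorem tOf_conj_mul (h : ℕ) (x y : G) :
    O.tOf h * (x * y) * O.tOf h = O.tOf h * x * O.tOf h * (O.tOf h * y * O.tOf h) := by
  rw [show O.tOf h * x * O.tOf h * (O.tOf h * y * O.tOf h) = O.tOf h * x * (O.tOf h * O.tOf h) * y * O.tOf h by
    group, O.tOf_sq]
  group

theorem step_es {h : ℕ} (hh : IsPk h) : ∀ {es : List (ℕ × ℕ)}, es.all (duadOK h) = true →
    Ok (stepImg h es) ∧ stepSrc h es < 2048 ∧
      O.tOf h * O.P.ev (stepSrc h es) * O.tOf h = cval O.P (stepImg h es)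
  | [], _ => ⟨ok_cone, by norm_num [stepSrc], by
      rw [stepSrc, O.P.ev_zero, mul_one, O.tOf_sq, stepImg, cval_cone]⟩
  | e :: l, he => by
    simp only [List.all_cons, Bool.and_eq_true] at he
    obtain ⟨o1, e1⟩ := O.duad_step hh he.1
    obtain ⟨o2, h2, e2⟩ := step_es hh he.2
    refine ⟨o1.mul o2, Nat.xor_lt_two_pow (n := 11) o1.1 h2, ?_⟩
    rw [stepImg, cval_mul O.P o1 o2, stepSrc, O.P.ev_xor, O.tOf_conj_mul, e1, e2]

theorem step_spec {s : Step} {a : ℕ × ℕ} (ha : Ok a) (h : s.ok a = true) :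
    Ok (s.out a) ∧ O.tOf s.h * cval O.P a * O.tOf s.h = cval O.P (s.out a) := by
  simp only [Step.ok, Bool.and_eq_true, Nat.beq_eq] at h
  obtain ⟨⟨⟨⟨hh, hes⟩, hsrc⟩, hr⟩, hp⟩ := h
  have hh' := isPk_of_inMat hh
  obtain ⟨o1, -, e1⟩ := O.step_es hh' hes
  have o2 : Ok ((0 : ℕ), a.2) := ⟨by norm_num, ha.2⟩
  refine ⟨o1.mul o2, ?_⟩
  have hc := O.tOf_commute ha.2 hh' hr hp
  rw [Step.out, cval_mul O.P o1 o2, cval_sp, ← e1, hsrc, cval, O.tOf_conj_mul, mul_assoc (O.tOf s.h) (sp O.P a.2),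
    hc.eq, ← mul_assoc (O.tOf s.h) (O.tOf s.h), O.tOf_sq, one_mul]

/-- The product of the conjugates of a chain. -/
noncomputable def wOf : List Step → G
  | [] => 1
  | s :: l => wOf l * O.tOf s.h

theorem chain_spec : ∀ {l : List Step} {a : ℕ × ℕ}, Ok a → chainOK l a = true →
    Ok (chainOut l a) ∧ O.wOf l * cval O.P a * (O.wOf l)⁻¹ = cval O.P (chainOut l a)
  | [], a, ha, _ => ⟨ha, by simp [wOf, chainOut]⟩
  | s :: l, a, ha, h => by
    simp only [chainOK, Bool.and_eq_true] at h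
    obtain ⟨o1, e1⟩ := O.step_spec ha h.1
    obtain ⟨o2, e2⟩ := chain_spec o1 h.2
    refine ⟨o2, ?_⟩
    rw [chainOut, ← e2, wOf, ← e1, mul_inv_rev, O.tOf_inv]
    group

/-- A chain fixes a pair. -/
theorem chain_fix {l : List Step} {a b : ℕ × ℕ} (ha : Ok a) (hb : Ok b) (h : chainOK l a = true)
    (he : cpeq (chainOut l a) b = true) : O.wOf l * cval O.P a * (O.wOf l)⁻¹ = cval O.P b := by
  rw [(O.chain_spec ha h).2]
  rw [cpeq, Bool.and_eq_true, Nat.beq_eq] at he
  rw [cval, cval, he.1, sp_of_peq O.P he.2 hb.2]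

end OrderSetup

end Cfsg.Lib.JankoFourOrder
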