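import Cfsg.Agent.Lib.JankoFourOrder.BraidChecks

/-!
# The last relator
-/

set_option autoImplicit false
set_option maxRecDepth 100000
set_option linter.style.haveILetI false
set_option linter.unusedSectionVars false

namespace Cfsg.Lib.JankoFourOrder

open Cfsg Cfsg.Lib.Concrete Cfsg.Lib.JankoFour Cfsg.Lib.JankoFourTen
open Cfsg.Lib.JankoFour.BitModel (lin)
open Cfsg.Lib.J4Iso (comp idP)
open Cfsg.Lib.FusionSys.MathieuCert (toPerm)

attribute [local irreducible] toPerm

variable {G : Type*} [Group G] [Finite G] {A : Type} [Group A] {I : Subgroup A} {F : Frame G A I}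
  {D : HexData A I} {S : Std F D}

namespace OrderSetup

variable (O : OrderSetup S)

theorem fix_spec {g h : ℕ} (hg : inMat g = true) (hh : IsPk h) {r : ℕ × List ℕ} (h' : fixOK g h r = true) :
    Commute (sp O.P g) (O.tOf h) := by
  rw [fixOK, Bool.and_eq_true] at h'
  exact O.tOf_commute (isPk_of_inMat hg) hh h'.1 h'.2

theorem move_spec {g h h₂ : ℕ} (hg : inMat g = true) (hh : IsPk h) (hh' : IsPk h₂) {r : ℕ × List ℕ}
    (h' : moveOK g h h₂ r = true) : sp O.P g * O.tOf h * (sp O.P g)⁻¹ = O.tOf h₂ := by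
  rw [moveOK, Bool.and_eq_true] at h'
  rw [O.tOf_comp (isPk_of_inMat hg) hh]
  exact O.tOf_eq hh' h'.1 h'.2

/-- The member of the last relator and its relatives. -/
theorem base_facts :
    let w := O.tOf bH
    let t0 := O.tOf t0H
    let q := sp O.P qP
    Commute O.z0 t0 ∧ Commute w t0 ∧ w * t0 = O.tOf s2H ∧ Commute q O.z0 ∧ Commute q w ∧ Commute q t0 ∧
      q * q = 1 ∧ Commute (sp O.P sP) O.z0 ∧ sp O.P sP * sp O.P sP = q ∧
      sp O.P sP * w * (sp O.P sP)⁻¹ = O.tOf s2H := by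
  intro w t0 q
  have h := braid_base
  simp only [Bool.and_eq_true, Nat.beq_eq] at h
  obtain ⟨⟨⟨⟨⟨⟨⟨⟨⟨⟨⟨⟨⟨⟨⟨⟨⟨⟨⟨⟨⟨⟨⟨⟨⟨⟨⟨⟨⟨⟨⟨⟨⟨⟨h1, h2⟩, h3⟩, h4⟩, h5⟩, h6⟩, h7⟩, h8⟩, h9⟩, h10⟩, h11⟩, h12⟩,
    h13⟩, h14⟩, h15⟩, h16⟩, h17⟩, h18⟩, h19⟩, -⟩, -⟩, -⟩, -⟩, -⟩, -⟩, -⟩, -⟩, -⟩, -⟩, -⟩, -⟩, -⟩, -⟩, -⟩, -⟩ := h
  obtain ⟨-, c1⟩ := O.lineCert_spec h13
  obtain ⟨e2, c2⟩ := O.lineCert_spec h16
  rw [h14, h15, O.tOf_idP] at c1
  rw [h17, h18] at e2 c2
  rw [h19] at e2
  have p1 := isPk_of_inMat h1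
  have p2 := isPk_of_inMat h2
  refine ⟨c1, c2, e2, ?_, O.fix_spec h2 (isPk_of_inMat h3) h11, O.fix_spec h2 (isPk_of_inMat h5) h12, ?_, ?_, ?_, ?_⟩
  · have := O.fix_spec h2 isPk_idP h10
    rwa [O.tOf_idP] at this
  · rw [← sp_comp O.P p2 p2, sp_of_peq O.P h7 isPk_idP, sp_idP]
  · have := O.fix_spec h1 isPk_idP h8
    rwa [O.tOf_idP] at this
  · rw [← sp_comp O.P p1 p1, sp_of_peq O.P h6 p2]
  · rw [O.tOf_comp p1 (isPk_of_inMat h3), tOf, tOf, sp_of_peq O.P h9 (isPk_of_inMat h4)]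

/-- The product to be shown trivial. -/
noncomputable def cPrime : G := sp O.P qP * (O.tOf t0H * (O.z0 * O.tOf bH * O.z0 * O.tOf bH))

theorem cPrime_fix {a : ℕ × ℕ} (ha : a ∈ braidItems) : Commute O.cPrime (cval O.P a) := by
  obtain ⟨i, hi, rfl⟩ := List.getElem_of_mem ha
  have hit := braid_items
  simp only [Bool.and_eq_true, List.all_eq_true, Nat.blt_eq] at hit
  have hoks : ∀ b ∈ braidItems, Ok b := by
    intro b hb
    simp only [braidItems, List.mem_append, List.mem_map] at hb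
    rcases hb with ⟨v, hv, rfl⟩ | ⟨g, hg, rfl⟩
    · exact ⟨hit.1.2 v hv, isPk_idP⟩
    · exact ⟨by norm_num, isPk_of_inMat (hit.2 g hg)⟩
  have hok : Ok braidItems[i] := hoks _ (List.getElem_mem hi)
  have h := List.all_eq_true.1 braid_fixed i (List.mem_range.2 hi)
  simp only [Bool.and_eq_true, beq_iff_eq] at h
  rw [List.getD_eq_getElem _ _ hi] at h
  obtain ⟨⟨h1, h2⟩, h3⟩ := h
  set l := braidChains.getD i []
  obtain ⟨o1, e1⟩ := O.chain_spec hok h2
  have hq : Ok ((0 : ℕ), qP) := by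
    have hb := braid_base
    simp only [Bool.and_eq_true] at hb
    exact ⟨by norm_num, isPk_of_inMat hb.1.1.1.1.1.1.1.1.1.1.1.1.1.1.1.1.1.1.1.1.1.1.1.1.1.1.1.1.1.1.1.1.1.2⟩
  rw [cpeq, Bool.and_eq_true, Nat.beq_eq] at h3
  have e3 : cval O.P (cmul (cmul (0, qP) (chainOut l braidItems[i])) (0, qP)) = cval O.P braidItems[i] := by
    rw [cval, cval, h3.1, sp_of_peq O.P h3.2 hok.2]
  rw [cval_mul O.P (hq.mul o1) hq, cval_mul O.P hq o1, cval_sp, ← e1] at e3
  have hw : O.wOf l = O.tOf t0H * (O.z0 * O.tOf bH * O.z0 * O.tOf bH) := by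
    clear_value l
    simp only [List.map_eq_cons_iff, List.map_eq_nil_iff] at h1
    obtain ⟨s1, l1, rfl, a1, s2, l2, rfl, a2, s3, l3, rfl, a3, s4, l4, rfl, a4, s5, l5, rfl, a5, rfl⟩ := h1
    simp only [wOf, one_mul, a1, a2, a3, a4, a5, O.tOf_idP]
    group
  obtain ⟨-, -, -, -, -, -, hqq, -⟩ := O.base_facts
  refine mul_inv_eq_iff_eq_mul.1 ?_
  calc O.cPrime * cval O.P braidItems[i] * O.cPrime⁻¹
      = sp O.P qP * (O.wOf l * cval O.P braidItems[i] * (O.wOf l)⁻¹) * (sp O.P qP)⁻¹ := by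
        rw [cPrime, ← hw]; group
    _ = cval O.P braidItems[i] := by rw [inv_eq_of_mul_eq_one_right hqq, e3]

theorem cPrime_pair : ∃ a, Ok a ∧ O.cPrime = cval O.P a ∧ a.2 ∈ braidKs ∧
    (braidGens.all fun g => ccomm (0, g) a) = true := by
  have h := braid_items
  simp only [Bool.and_eq_true, List.all_eq_true, Nat.blt_eq, List.contains_iff_mem] at h
  obtain ⟨⟨⟨⟨hf, hm1⟩, hm2⟩, hlt⟩, hg⟩ := h
  have hv : ∀ v ∈ braidVecs, Commute O.cPrime (O.P.ev v) := fun v hv => by
    have := O.cPrime_fix (a := (v, idP)) (List.mem_append_left _ (List.mem_map.2 ⟨v, hv, rfl⟩))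
    rwa [cval_ev] at this
  have hgs : ∀ g ∈ braidGens, Commute O.cPrime (sp O.P g) := fun g hg' => by
    have := O.cPrime_fix (a := (0, g)) (List.mem_append_right _ (List.mem_map.2 ⟨g, hg', rfl⟩))
    rwa [cval_sp] at this
  obtain ⟨⟨v, p0⟩, ha, hae⟩ := exists_cval' O.P (mem_NV_of_far O.P hf (hv _ hm1) (hv _ hm2))
  have hcomm : ∀ g ∈ braidGens, ccomm (0, g) (v, p0) = true := fun g hg' =>
    ccomm_of_commute O.P ⟨by norm_num, isPk_of_inMat (hg g hg')⟩ ha
      (by rw [cval_sp, ← hae]; exact (hgs g hg').symm)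
  have hd := braid_data
  simp only [Bool.and_eq_true, List.all_eq_true] at hd
  obtain ⟨p, hp, hrep⟩ := centOK_spec hd.1 braid_cent (k := pM p0) (fun g hg' => by
      have hc := hcomm g hg'
      simp only [ccomm, cpeq, cmul, Bool.and_eq_true] at hc
      exact (commute_of_pcomm (isPk_of_inMat (hg g hg')) ha.2 hc.2).symm)
    (fun p hp => List.all_eq_true.2 fun u hu => by
      have hc := hv u hu
      rw [hae, cval] at hc
      dsimp only at hc
      have hc' : Commute (sp O.P p0) (O.P.ev u) := by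
        have := (S.Vb_comm (O.P.ev_mem v) (O.P.ev_mem u)).inv_left.mul_left hc
        rwa [inv_mul_cancel_left] at this
      have e := sp_ev O.P ha.2 (hlt u hu)
      rw [hc'.eq] at e
      have e2 := O.P.ev_inj (hlt u hu) (act_lt _ _) (mul_right_cancel e)
      refine Nat.beq_eq.mpr ?_
      rw [show lin (actL p) u = lin (actL p0) u from O.P.ev_inj (act_lt _ _) (act_lt _ _) (by
        rw [← conj_ev O.P (isPk_of_rep hp) (hlt u hu), ← conj_ev O.P ha.2 (hlt u hu), sp, sp, pM_eq hp])]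
      exact e2.symm)
  refine ⟨(v, p), ⟨ha.1, isPk_of_rep hrep⟩, by rw [hae, cval, cval, sp, sp, pM_eq hrep], hp,
    List.all_eq_true.2 fun g hg' => ?_⟩
  refine ccomm_of_commute O.P ⟨by norm_num, isPk_of_inMat (hg g hg')⟩ ⟨ha.1, isPk_of_rep hrep⟩ ?_
  rw [cval_sp, show cval O.P (v, p) = O.cPrime by rw [hae, cval, cval, sp, sp, pM_eq hrep]]
  exact (hgs g hg').symm

/-- The square of the product of the two conjugates. -/
theorem braid : O.z0 * O.tOf bH * O.z0 * O.tOf bH = O.tOf t0H * sp O.P qP := by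
  obtain ⟨cxt, cwt, -, cqx, cqw, cqt, hqq, -⟩ := O.base_facts
  set x := O.z0 with hx
  set w := O.tOf bH
  set t0 := O.tOf t0H
  set q := sp O.P qP
  have hxx : x * x = 1 := O.data.sq
  have hww : w * w = 1 := O.tOf_sq _
  have htt : t0 * t0 = 1 := O.tOf_sq _
  have hcp : O.cPrime = q * (t0 * (x * w * x * w)) := rfl
  have hqt : Commute (q * t0) (w * x * w * x) :=
    ((((cqw.mul_left cwt.symm).mul_right (cqx.mul_left cxt.symm)).mul_right (cqw.mul_left cwt.symm)).mul_right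
      (cqx.mul_left cxt.symm))
  have hinv : O.cPrime⁻¹ = q * t0 * (w * x * w * x) := by
    rw [hqt.eq, hcp, mul_inv_rev, mul_inv_rev, mul_inv_rev, mul_inv_rev, mul_inv_rev,
      inv_eq_of_mul_eq_one_right hww, inv_eq_of_mul_eq_one_right hxx, inv_eq_of_mul_eq_one_right htt,
      inv_eq_of_mul_eq_one_right hqq, cqt.eq]
    group
  have hx' : x * O.cPrime * x = O.cPrime⁻¹ := by
    rw [hinv, hcp, show x * (q * (t0 * (x * w * x * w))) * x = x * (q * t0) * (x * w * x * w * x) by group,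
      ((cqx.symm.mul_right cxt)).eq, show q * t0 * x * (x * w * x * w * x) = q * t0 * (x * x) * (w * x * w * x) by
        group, hxx, mul_one]
  have hw' : w * O.cPrime * w = O.cPrime⁻¹ := by
    rw [hinv, hcp, show w * (q * (t0 * (x * w * x * w))) * w = w * (q * t0) * (x * w * x * (w * w)) by group,
      (cqw.symm.mul_right cwt).eq, hww, mul_one]
    group
  have ht' : t0 * O.cPrime * t0 = O.cPrime := by
    have h1 : Commute t0 O.cPrime := by
      rw [hcp]
      exact cqt.symm.mul_right ((Commute.refl t0).mul_right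
        (((cxt.symm.mul_right cwt.symm).mul_right cxt.symm).mul_right cwt.symm))
    rw [h1.eq, mul_assoc, htt, mul_one]
  have hone : O.cPrime = 1 := by
    obtain ⟨a, ha, hae, hak, hall⟩ := O.cPrime_pair
    have hl := List.all_eq_true.1 (List.all_eq_true.1 braid_left a.2 hak) a.1 (List.mem_range.2 ha.1)
    rw [show (a.1, a.2) = a from rfl, hall, Bool.not_true, Bool.false_or, Bool.or_eq_true, List.any_eq_true] at hl
    rcases hl with ⟨e, he, hc⟩ | hl
    · exfalso
      have ht := List.all_eq_true.1 braid_tests e he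
      simp only [Bool.and_eq_true, Nat.blt_eq, Nat.beq_eq] at ht
      obtain ⟨⟨⟨⟨⟨t1, t2⟩, t3⟩, t4⟩, t5⟩, t6⟩ := ht
      have oe : Ok e.1 := ⟨t1, isPk_of_inMat t2⟩
      rw [cpeq, Bool.and_eq_true, Nat.beq_eq] at hc
      have hce : O.cPrime = cval O.P e.1 := by rw [hae, cval, cval, hc.1, sp_of_peq O.P hc.2 oe.2]
      obtain ⟨o1, e1⟩ := O.step_spec oe t3
      rw [← hce, t4] at e1
      obtain ⟨i, hi⟩ : ∃ i, i = e.2.1 := ⟨_, rfl⟩
      rw [← hi] at e1 t5 t6
      interval_cases i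
      · rw [List.getD_cons_zero, O.tOf_idP, ← hx, hx'] at e1
        rw [if_pos (by decide), Bool.not_eq_true'] at t6
        refine Bool.noConfusion (t6.symm.trans (cpeq_of_eq O.P (o1.mul oe) ok_cone ?_))
        rw [cval_mul O.P o1 oe, cval_cone, ← e1, ← hce, inv_mul_cancel]
      · rw [List.getD_cons_succ, List.getD_cons_zero, hw'] at e1
        rw [if_pos (by decide), Bool.not_eq_true'] at t6
        refine Bool.noConfusion (t6.symm.trans (cpeq_of_eq O.P (o1.mul oe) ok_cone ?_))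
        rw [cval_mul O.P o1 oe, cval_cone, ← e1, ← hce, inv_mul_cancel]
      · rw [List.getD_cons_succ, List.getD_cons_succ, List.getD_cons_zero, ht'] at e1
        rw [if_neg (by decide), Bool.not_eq_true'] at t6
        exact Bool.noConfusion (t6.symm.trans (cpeq_of_eq O.P o1 oe (by rw [← e1, ← hce])))
    rw [Bool.and_eq_true, Nat.beq_eq, Bool.or_eq_true, Bool.or_eq_true, List.any_eq_true] at hl
    obtain ⟨hv0, hl⟩ := hl
    have hak' : O.cPrime = sp O.P a.2 := by rw [hae, cval, hv0, O.P.ev_zero, one_mul]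
    have hb := braid_base
    simp only [Bool.and_eq_true, Nat.beq_eq, List.all_eq_true, Bool.not_eq_true'] at hb
    obtain ⟨⟨⟨⟨⟨⟨⟨⟨⟨⟨⟨⟨⟨⟨⟨⟨hrest, m1⟩, m2⟩, m3⟩, m4⟩, m5⟩, m6⟩, m7⟩, m8⟩, m9⟩, m10⟩, s1⟩, s2⟩, s3⟩, s4⟩,
      s5⟩, s6⟩ := hb
    obtain ⟨⟨⟨⟨⟨⟨⟨⟨⟨⟨⟨⟨⟨⟨⟨⟨⟨⟨-, hq⟩, hbH⟩, -⟩, hT0⟩, -⟩, -⟩, -⟩, -⟩, -⟩, -⟩, -⟩, -⟩, -⟩, -⟩, -⟩, -⟩, -⟩,
      -⟩ := hrest
    have pb := isPk_of_inMat hbH
    have pt := isPk_of_inMat hT0
    rcases hl with (hl | hl) | ⟨r, hr, hl⟩
    · rw [hak', sp_of_peq O.P hl isPk_idP, sp_idP]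
    · exfalso
      have e : O.cPrime = q := by rw [hak', sp_of_peq O.P hl (isPk_of_inMat hq)]
      have ec : x * w * x * w = t0 := by
        rw [hcp] at e
        rw [eq_inv_of_mul_eq_one_right (mul_eq_left.1 e), inv_eq_of_mul_eq_one_right htt]
      obtain ⟨e3, c3⟩ := O.lineCert_spec m7
      rw [m8, m9, O.tOf_idP, ← hx] at c3
      rw [m8, m9, m10, O.tOf_idP, ← hx] at e3
      have hmove : ∀ g, inMat g = true → ∀ r1 r2, fixOK g bH r1 = true → fixOK g t0H r2 = true →
          O.tOf g * w * O.tOf g * w = t0 := by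
        intro g hg r1 r2 f1 f2
        have k1 : Commute (sp O.P g) w := O.fix_spec hg pb f1
        have k2 : Commute (sp O.P g) t0 := O.fix_spec hg pt f2
        rw [show O.tOf g = sp O.P g * x * (sp O.P g)⁻¹ from rfl]
        calc sp O.P g * x * (sp O.P g)⁻¹ * w * (sp O.P g * x * (sp O.P g)⁻¹) * w
            = sp O.P g * x * ((sp O.P g)⁻¹ * w) * sp O.P g * x * ((sp O.P g)⁻¹ * w) := by group
          _ = sp O.P g * x * (w * (sp O.P g)⁻¹) * sp O.P g * x * (w * (sp O.P g)⁻¹) := by rw [k1.inv_left.eq]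
          _ = sp O.P g * (x * w * x * w) * (sp O.P g)⁻¹ := by group
          _ = t0 := by rw [ec, k2.eq, mul_inv_cancel_right]
      have ha' := hmove _ m1 _ _ m3 m4
      have hb' := hmove _ m2 _ _ m5 m6
      rw [← e3] at ha'
      have e4 : O.tOf moveB * x * w * (O.tOf moveB * x) * w =
          x * (O.tOf moveB * w * O.tOf moveB * w) * x * (x * w * x * w) := by
        calc O.tOf moveB * x * w * (O.tOf moveB * x) * w = x * O.tOf moveB * w * O.tOf moveB * (x * w) := by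
              rw [show O.tOf moveB * x * w * (O.tOf moveB * x) * w = O.tOf moveB * x * (w * (O.tOf moveB * (x * w))) by
                group, c3.eq]; group
          _ = x * O.tOf moveB * w * O.tOf moveB * w * (w * (x * w)) := by
              rw [show x * O.tOf moveB * w * O.tOf moveB * w * (w * (x * w)) =
                x * O.tOf moveB * w * O.tOf moveB * (w * w) * (x * w) by group, hww, mul_one]
          _ = _ := by
              rw [show x * (O.tOf moveB * w * O.tOf moveB * w) * x * (x * w * x * w) =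
                x * O.tOf moveB * w * O.tOf moveB * w * (x * x) * (w * (x * w)) by group, hxx, mul_one]
      rw [e4, hb', ec, cxt.eq, mul_assoc t0 x x, hxx, mul_one, htt] at ha'
      refine O.data.ne ?_
      have h0 := congrArg (fun y => (sp O.P t0H)⁻¹ * y * sp O.P t0H) ha'.symm
      simp only [t0, tOf] at h0
      simpa [mul_assoc] using h0
    · exfalso
      obtain ⟨⟨s7, s8⟩, s9⟩ := s6 r hr
      have pr := isPk_of_inMat s7
      have e : O.cPrime = sp O.P r := by rw [hak', sp_of_peq O.P hl pr]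
      have ew : sp O.P swapP * x * (sp O.P swapP)⁻¹ = w := by
        have := O.move_spec s1 isPk_idP pb s2
        rwa [O.tOf_idP] at this
      have ex : sp O.P swapP * w * (sp O.P swapP)⁻¹ = x := by
        have := O.move_spec s1 pb isPk_idP s3
        rwa [O.tOf_idP] at this
      have et : sp O.P swapP * t0 * (sp O.P swapP)⁻¹ = t0 := O.move_spec s1 pt pt s4
      have ps := isPk_of_inMat s1
      have hqc : Commute (sp O.P swapP) q := by
        have := commute_of_pcomm ps (isPk_of_inMat hq) s5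
        show sp O.P swapP * sp O.P qP = sp O.P qP * sp O.P swapP
        rw [sp, sp, ← O.P.sg_mul, this.eq, O.P.sg_mul]
      set s := sp O.P swapP
      have h1 : s * O.cPrime * s⁻¹ = O.cPrime⁻¹ := by
        rw [hinv, hcp]
        calc s * (q * (t0 * (x * w * x * w))) * s⁻¹ = s * q * s⁻¹ * (s * t0 * s⁻¹) *
              (s * x * s⁻¹ * (s * w * s⁻¹) * (s * x * s⁻¹) * (s * w * s⁻¹)) := by group
          _ = _ := by rw [et, ew, ex, hqc.eq, mul_inv_cancel_right]
      have h2 : O.cPrime * O.cPrime = 1 := by rw [e, ← sp_comp O.P pr pr, sp_of_peq O.P s9 isPk_idP, sp_idP]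
      rw [inv_eq_of_mul_eq_one_right h2, e, mul_inv_eq_iff_eq_mul] at h1
      have h3 : pM swapP * pM r = pM r * pM swapP := by
        have := O.P.decomp_unique (v := 0) (w := 0) (g := pM swapP * pM r) (h := pM r * pM swapP)
          (by norm_num) (by norm_num) (by
            rw [O.P.sg_mul, O.P.sg_mul, O.P.ev_zero, one_mul, one_mul]; exact h1)
        exact this.2
      exact Bool.noConfusion (s8.symm.trans (pcomm_of_commute ps pr h3))
  rw [hcp, ← mul_assoc] at hone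
  rw [eq_inv_of_mul_eq_one_right hone, mul_inv_rev, inv_eq_of_mul_eq_one_right htt,
    inv_eq_of_mul_eq_one_right hqq]

/-- The last relator holds. -/
theorem last_relator : (sp O.P sP * O.z0 * O.tOf bH) * (sp O.P sP * O.z0 * O.tOf bH) = 1 := by
  obtain ⟨cxt, cwt, hw2, cqx, cqw, cqt, hqq, csx, hss, hsw⟩ := O.base_facts
  set s := sp O.P sP
  set x := O.z0
  set w := O.tOf bH
  set t0 := O.tOf t0H
  set q := sp O.P qP
  calc s * x * w * (s * x * w) = x * (s * w * s⁻¹) * (s * s) * x * w := by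
        rw [show s * x * w * (s * x * w) = s * x * (w * (s * (x * w))) by group, csx.eq]; group
    _ = x * w * (t0 * q) * (x * w) := by rw [hsw, ← hw2, hss]; group
    _ = x * w * x * w * (t0 * q) := by
        rw [mul_assoc (x * w), ((cxt.symm.mul_left cqx).mul_right (cwt.symm.mul_left cqw)).eq]; group
    _ = 1 := by
        rw [O.braid, show t0 * q * (t0 * q) = t0 * (q * t0) * q by group, cqt.eq,
          show t0 * (t0 * q) * q = t0 * t0 * (q * q) by group, O.tOf_sq, hqq, mul_one]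

end OrderSetup

end Cfsg.Lib.JankoFourOrder
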