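import Cfsg.Agent.Lib.JankoFourOrder.BraidData

/-!
# Evaluation of the checks on the product of two conjugates
-/

set_option autoImplicit false
set_option maxRecDepth 100000
set_option maxHeartbeats 0

namespace Cfsg.Lib.JankoFourOrder

open Cfsg Cfsg.Lib.Concrete Cfsg.Lib.JankoFourTen
open Cfsg.Lib.JankoFour.BitModel (lin)
open Cfsg.Lib.J4Iso (comp idP)

/-- The pairs fixed by the product. -/
def braidItems : List (ℕ × ℕ) := (braidVecs.map fun v => (v, idP)) ++ braidGens.map fun g => ((0 : ℕ), g)

/-- A member fixes a trio. -/
noncomputable def fixOK (g h : ℕ) (r : ℕ × List ℕ) : Bool := rOK r && peq (comp g h) (comp h (rVal r))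

/-- A member moves one trio to another. -/
noncomputable def moveOK (g h h' : ℕ) (r : ℕ × List ℕ) : Bool := rOK r && peq (comp g h) (comp h' (rVal r))

theorem braid_base : (inMat sP && inMat qP && inMat bH && inMat s2H && inMat t0H && peq (comp sP sP) qP &&
    peq (comp qP qP) idP && fixOK sP idP sR && peq (comp sP bH) s2H &&
    fixOK qP idP (qR.getD 0 (0, [])) && fixOK qP bH (qR.getD 1 (0, [])) && fixOK qP t0H (qR.getD 2 (0, [])) &&
    firstLine.ok && Nat.beq firstLine.a idP && Nat.beq firstLine.b t0H &&
    secondLine.ok && Nat.beq secondLine.a bH && Nat.beq secondLine.b t0H && Nat.beq secondLine.c s2H &&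
    inMat moveA && inMat moveB && fixOK moveA bH (moveR.getD 0 (0, [])) && fixOK moveA t0H (moveR.getD 1 (0, [])) &&
    fixOK moveB bH (moveR.getD 2 (0, [])) && fixOK moveB t0H (moveR.getD 3 (0, [])) &&
    thirdLine.ok && Nat.beq thirdLine.a moveB && Nat.beq thirdLine.b idP && Nat.beq thirdLine.c moveA &&
    inMat swapP && moveOK swapP idP bH (swapR.getD 0 (0, [])) && moveOK swapP bH idP (swapR.getD 1 (0, [])) &&
    moveOK swapP t0H t0H (swapR.getD 2 (0, [])) && pcomm swapP qP &&
    braidRho.all (fun k => inMat k && !(pcomm swapP k) && peq (comp k k) idP)) = true := by decide +kernel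

theorem braid_items : (farB braidFar.1 braidFar.2 && braidVecs.contains braidFar.1 &&
    braidVecs.contains braidFar.2 && braidVecs.all (fun v => Nat.blt v 2048) && braidGens.all inMat) = true := by
  decide +kernel

theorem braid_fixed : ((List.range braidItems.length).all fun i =>
    let a := braidItems.getD i cone
    let l := braidChains.getD i []
    l.map Step.h == [bH, idP, bH, idP, t0H] && chainOK l a &&
      cpeq (cmul (cmul (0, qP) (chainOut l a)) (0, qP)) a) = true := by decide +kernel

theorem braid_data : (centData braidGens braidReps braidPts && braidKs.all inMat) = true := by decide +kernel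

theorem braid_cent : centOK braidGens braidReps braidPts (fun p => braidVecs.all (fixP p)) braidKs = true := by
  decide +kernel

theorem braid_left : (braidKs.all fun k => (List.range 2048).all fun v =>
    !(braidGens.all fun g => ccomm (0, g) (v, k)) || braidTests.any (fun e => cpeq (v, k) e.1) ||
      (Nat.beq v 0 && (peq k idP || peq k qP || braidRho.any fun r => peq k r))) = true := by decide +kernel

theorem braid_tests : (braidTests.all fun e => Nat.blt e.1.1 2048 && inMat e.1.2 &&
    e.2.2.ok e.1 && Nat.beq e.2.2.h ([idP, bH, t0H].getD e.2.1 0) && Nat.blt e.2.1 3 &&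
    if Nat.blt e.2.1 2 then !(cpeq (cmul (e.2.2.out e.1) e.1) cone) else !(cpeq (e.2.2.out e.1) e.1)) = true := by
  decide +kernel

end Cfsg.Lib.JankoFourOrder
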