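import Cfsg.Agent.Lib.JankoFourOrder.Key
import Cfsg.Agent.Lib.J4Iso.Perm

/-!
# Members of the normalizer as pairs of numbers
-/

set_option autoImplicit false
set_option maxRecDepth 100000
set_option linter.style.haveILetI false
set_option linter.unusedSectionVars false

namespace Cfsg.Lib.JankoFourOrder

open Cfsg Cfsg.Lib.Concrete Cfsg.Lib.JankoFour Cfsg.Lib.JankoFourTen
open Cfsg.Lib.JankoFour.BitModel (lin)
open Cfsg.Lib.J4Iso (comp rep_comp idP rep_idP)
open Cfsg.Lib.FusionSys.MathieuCert (toPerm toPerm_eq rep_toPerm)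

attribute [local irreducible] toPerm

/-- The member of M24 with a packed form. -/
noncomputable def pM (p : ℕ) : ↥Cfsg.M24 :=
  open Classical in if h : toPerm p ∈ Cfsg.M24 then ⟨toPerm p, h⟩ else 1

/-- A packed form is that of a member. -/
def IsPk (p : ℕ) : Prop := Rep (pM p : Equiv.Perm GolayPt) p

theorem pM_eq {g : ↥Cfsg.M24} {p : ℕ} (h : Rep (g : Equiv.Perm GolayPt) p) : pM p = g := by
  have e := toPerm_eq h
  rw [pM, dif_pos (e.symm ▸ g.2)]
  exact Subtype.ext e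

theorem isPk_of_rep {g : ↥Cfsg.M24} {p : ℕ} (h : Rep (g : Equiv.Perm GolayPt) p) : IsPk p := by
  rw [IsPk, pM_eq h]; exact h

theorem isPk_of_inMat {p : ℕ} (h : inMat p = true) : IsPk p :=
  isPk_of_rep (g := ⟨toPerm p, (inMat_spec h).2⟩) (inMat_spec h).1

theorem isPk_idP : IsPk idP := isPk_of_rep (g := 1) rep_idP

theorem pM_idP : pM idP = 1 := pM_eq (g := 1) rep_idP

theorem isPk_comp {p q : ℕ} (hp : IsPk p) (hq : IsPk q) : IsPk (comp p q) :=
  isPk_of_rep (g := pM p * pM q) (rep_comp hp hq)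

theorem pM_comp {p q : ℕ} (hp : IsPk p) (hq : IsPk q) : pM (comp p q) = pM p * pM q := pM_eq (rep_comp hp hq)

theorem pget_pM {p : ℕ} (hp : IsPk p) (x : GolayPt) :
    (gidx ((pM p : Equiv.Perm GolayPt) x)).val = pget p (gidx x).val := hp x

/-- The product of two pairs. -/
noncomputable def cmul (a b : ℕ × ℕ) : ℕ × ℕ := (a.1 ^^^ lin (actL a.2) b.1, comp a.2 b.2)

/-- The unit pair. -/
def cone : ℕ × ℕ := (0, idP)

/-- A pair is valid. -/
def Ok (a : ℕ × ℕ) : Prop := a.1 < 2048 ∧ IsPk a.2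

/-- Equality of pairs as a check. -/
def ceq (a b : ℕ × ℕ) : Bool := Nat.beq a.1 b.1 && Nat.beq a.2 b.2

theorem ceq_eq {a b : ℕ × ℕ} (h : ceq a b = true) : a = b := by
  rw [ceq, Bool.and_eq_true, Nat.beq_eq, Nat.beq_eq] at h
  exact Prod.ext h.1 h.2

theorem ok_cone : Ok cone := ⟨by norm_num [cone], isPk_idP⟩

theorem act_lt (p v : ℕ) : lin (actL p) v < 2048 := JankoFourTen.lin_lt (actL_lt p) v

theorem Ok.mul {a b : ℕ × ℕ} (ha : Ok a) (hb : Ok b) : Ok (cmul a b) :=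
  ⟨Nat.xor_lt_two_pow (n := 11) ha.1 (act_lt _ _), isPk_comp ha.2 hb.2⟩

variable {G : Type*} [Group G] [Finite G] {A : Type} [Group A] {I : Subgroup A} {F : Frame G A I}
  {D : HexData A I} {S : Std F D} (P : TenSetup S)

/-- The member of the complement with a packed form. -/
noncomputable def sp (p : ℕ) : G := P.sg (pM p)

/-- The member with a pair. -/
noncomputable def cval (a : ℕ × ℕ) : G := P.ev a.1 * sp P a.2

theorem sp_mem (p : ℕ) : sp P p ∈ S.NV := P.sg_mem _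

theorem cval_mem (a : ℕ × ℕ) : cval P a ∈ S.NV := mul_mem (S.Vb_le_NV (P.ev_mem _)) (sp_mem P _)

theorem sp_idP : sp P idP = 1 := by rw [sp, pM_idP, P.sg_one]

theorem sp_comp {p q : ℕ} (hp : IsPk p) (hq : IsPk q) : sp P (comp p q) = sp P p * sp P q := by
  rw [sp, pM_comp hp hq, P.sg_mul]
  rfl

theorem sp_ev {p : ℕ} (hp : IsPk p) {v : ℕ} (hv : v < 2048) :
    sp P p * P.ev v = P.ev (lin (actL p) v) * sp P p := P.sg_ev hp hv

theorem conj_ev {p : ℕ} (hp : IsPk p) {v : ℕ} (hv : v < 2048) :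
    sp P p * P.ev v * (sp P p)⁻¹ = P.ev (lin (actL p) v) := by
  rw [sp_ev P hp hv, mul_inv_cancel_right]

theorem cval_cone : cval P cone = 1 := by rw [cval, cone, P.ev_zero, one_mul, sp_idP]

theorem cval_ev (v : ℕ) : cval P (v, idP) = P.ev v := by rw [cval, sp_idP, mul_one]

theorem cval_sp (p : ℕ) : cval P (0, p) = sp P p := by rw [cval, P.ev_zero, one_mul]

theorem cval_mul {a b : ℕ × ℕ} (ha : Ok a) (hb : Ok b) : cval P (cmul a b) = cval P a * cval P b := by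
  rw [cval, cval, cval, cmul, sp_comp P ha.2 hb.2, P.ev_xor, mul_assoc (P.ev a.1) (sp P a.2),
    ← mul_assoc (sp P a.2) (P.ev b.1), sp_ev P ha.2 hb.1]
  group

theorem cval_inj {a b : ℕ × ℕ} (ha : Ok a) (hb : Ok b) (h : cval P a = cval P b) :
    a.1 = b.1 ∧ ∀ i < 24, pget a.2 i = pget b.2 i := by
  obtain ⟨h1, h2⟩ := P.decomp_unique ha.1 hb.1 h
  refine ⟨h1, fun i hi => ?_⟩
  have e1 := ha.2.apply ⟨i, hi⟩
  have e2 := hb.2.apply ⟨i, hi⟩
  rw [h2] at e1
  exact e1.symm.trans e2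

/-- Two pairs differ, as a check. -/
def cdiff (a b : ℕ × ℕ) : Bool := !(Nat.beq a.1 b.1) || bits24.any fun i => !(Nat.beq (pget a.2 i) (pget b.2 i))

theorem cval_ne {a b : ℕ × ℕ} (ha : Ok a) (hb : Ok b) (h : cdiff a b = true) : cval P a ≠ cval P b := fun e => by
  obtain ⟨h1, h2⟩ := cval_inj P ha hb e
  rw [cdiff, Bool.or_eq_true, Bool.not_eq_true', ← Bool.not_eq_true, Nat.beq_eq] at h
  refine h.elim (fun h => h h1) fun h => ?_
  obtain ⟨i, hi, hn⟩ := List.any_eq_true.1 h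
  rw [Bool.not_eq_true', ← Bool.not_eq_true, Nat.beq_eq] at hn
  exact hn (h2 i (mem_bits24.1 hi))

/-- A member of the normalizer as a pair. -/
theorem exists_cval {x : G} (hx : x ∈ S.NV) : ∃ v < 2048, ∃ g : ↥Cfsg.M24, x = P.ev v * P.sg g := by
  obtain ⟨v, hv, e⟩ := P.decomp hx
  exact ⟨v, hv, _, e⟩

end Cfsg.Lib.JankoFourOrder
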