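import Cfsg.Agent.Lib.JankoFourOrder.Code

/-!
# Members of M24 centralizing a short list of members
-/

set_option autoImplicit false
set_option maxRecDepth 100000
set_option linter.style.haveILetI false
set_option linter.unusedSectionVars false

namespace Cfsg.Lib.JankoFourOrder

open Cfsg Cfsg.Lib.Concrete Cfsg.Lib.JankoFour Cfsg.Lib.JankoFourTen
open Cfsg.Lib.J4Iso (comp pget_comp)
open scoped Pointwise

/-- Equality of packed forms on the points. -/
def peq (p q : ℕ) : Bool := bits24.all fun i => Nat.beq (pget p i) (pget q i)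

theorem pget_of_peq {p q : ℕ} (h : peq p q = true) {i : ℕ} (hi : i < 24) : pget p i = pget q i :=
  Nat.eq_of_beq_eq_true (List.all_eq_true.1 h i (mem_bits24.2 hi))

theorem rep_of_peq {g : Equiv.Perm GolayPt} {p q : ℕ} (h : peq p q = true) (hq : Rep g q) : Rep g p := fun x => by
  rw [pget_of_peq h (gidx x).isLt, hq x]

theorem pM_of_peq {p q : ℕ} (h : peq p q = true) (hq : IsPk q) : pM p = pM q := pM_eq (rep_of_peq h hq)

theorem isPk_of_peq {p q : ℕ} (h : peq p q = true) (hq : IsPk q) : IsPk p := isPk_of_rep (rep_of_peq h hq)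

theorem peq_of_rep {g : Equiv.Perm GolayPt} {p q : ℕ} (hp : Rep g p) (hq : Rep g q) : peq p q = true :=
  List.all_eq_true.2 fun i hi => Nat.beq_eq.mpr (J4Iso.rep_pget_eq hp hq (mem_bits24.1 hi))

/-- The commuting of two packed forms. -/
noncomputable def pcomm (p q : ℕ) : Bool := peq (comp p q) (comp q p)

theorem pcomm_of_commute {g h : ↥Cfsg.M24} {p q : ℕ} (hg : Rep (g : Equiv.Perm GolayPt) p)
    (hh : Rep (h : Equiv.Perm GolayPt) q) (hc : Commute g h) : pcomm p q = true :=
  peq_of_rep (J4Iso.rep_comp hg hh) (show Rep ((g : Equiv.Perm GolayPt) * h) (comp q p) by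
    rw [← Subgroup.coe_mul, hc.eq, Subgroup.coe_mul]
    exact J4Iso.rep_comp hh hg)

theorem commute_of_pcomm {p q : ℕ} (hp : IsPk p) (hq : IsPk q) (h : pcomm p q = true) : Commute (pM p) (pM q) := by
  show pM p * pM q = pM q * pM p
  rw [← pM_comp hp hq, ← pM_comp hq hp]
  exact pM_of_peq h (isPk_comp hq hp)

/-- A packed form maps the code to itself. -/
def codeOK (p : ℕ) : Bool := basisMasks.all fun b => isCode (pimg p b)

theorem basis_code : (basisMasks.all fun b => Nat.blt b 16777216 && isCode b) = true := by decide +kernel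

theorem codeOK_of_rep {g : ↥Cfsg.M24} {p : ℕ} (hg : Rep (g : Equiv.Perm GolayPt) p) : codeOK p = true := by
  refine List.all_eq_true.2 fun b hb => ?_
  have hb' := List.all_eq_true.1 basis_code b hb
  rw [Bool.and_eq_true, Nat.blt_eq] at hb'
  have hlt : pimg p b < 2 ^ 24 := by
    refine Nat.lt_pow_two_of_testBit _ fun i hi => ?_
    rw [← Bool.not_eq_true, pimg, testBit_orMask]
    rintro ⟨k, hk, -, rfl⟩
    have := hg.apply ⟨k, mem_bits24.1 hk⟩
    simp only at this
    omega
  rw [← mset_mem_supports_iff hlt, ← hg.smul_mset]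
  exact mem_M24_iff.1 g.2 _ ((mset_mem_supports_iff (by omega)).2 hb'.2)

/-- All choices from the lists. -/
def choices : List (List ℕ) → List (List ℕ)
  | [] => [[]]
  | c :: L => c.flatMap fun a => (choices L).map fun t => a :: t

theorem mem_choices : ∀ {L : List (List ℕ)} {t : List ℕ}, List.Forall₂ (fun a c => a ∈ c) t L → t ∈ choices L
  | _, _, .nil => List.mem_singleton.2 rfl
  | _, _, .cons ha ht => List.mem_flatMap.2 ⟨_, ha, List.mem_map.2 ⟨_, mem_choices ht, rfl⟩⟩

/-- The possible images of a representative. -/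
def candOf (L : List ℕ) (o : ℕ) : List ℕ :=
  bits24.filter fun j => L.all fun g => Nat.beq (pget g o) o == Nat.beq (pget g j) j

/-- The packed form given by the images of the representatives. -/
def candPerm (pts : List (ℕ × ℕ)) (t : List ℕ) : ℕ :=
  packList (pts.map fun c => pget c.2 (t.getD c.1 0) % 32)

/-- The data of a list and its orbits. -/
def centData (L reps : List ℕ) (pts : List (ℕ × ℕ)) : Bool :=
  L.all inMat && reps.all (fun o => Nat.blt o 24) && Nat.beq pts.length 24 && bits24.all fun x =>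
    let c := pts.getD x (0, 0)
    L.contains c.2 && Nat.blt c.1 reps.length && Nat.beq (pget c.2 (reps.getD c.1 0)) x

/-- The candidates passing a test all lie in a list. -/
def centOK (L reps : List ℕ) (pts : List (ℕ × ℕ)) (Q : ℕ → Bool) (allowed : List ℕ) : Bool :=
  (choices (reps.map (candOf L))).all fun t =>
    !(Q (candPerm pts t)) || !(codeOK (candPerm pts t)) || allowed.contains (candPerm pts t)

theorem exists_candidate {L reps : List ℕ} {pts : List (ℕ × ℕ)} (hd : centData L reps pts = true) {k : ↥Cfsg.M24}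
    (hk : ∀ g ∈ L, Commute k (pM g)) :
    ∃ t ∈ choices (reps.map (candOf L)), Rep (k : Equiv.Perm GolayPt) (candPerm pts t) := by
  simp only [centData, Bool.and_eq_true, List.all_eq_true, Nat.blt_eq, Nat.beq_eq, List.contains_iff_mem] at hd
  obtain ⟨⟨⟨hL, hreps⟩, hlen⟩, hpts⟩ := hd
  have key : ∀ g ∈ L, ∀ o < 24, ∀ x : GolayPt, (gidx x).val = o → (gidx ((k : Equiv.Perm GolayPt) ((pM g : Equiv.Perm GolayPt) x))).val =
      pget g (gidx ((k : Equiv.Perm GolayPt) x)).val := fun g hg o _ x _ => by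
    rw [← (isPk_of_inMat (hL g hg)) ((k : Equiv.Perm GolayPt) x), ← Equiv.Perm.mul_apply, ← Subgroup.coe_mul,
      (hk g hg).eq]
    rfl
  let im : ℕ → ℕ := fun o => (gidx ((k : Equiv.Perm GolayPt) (gpt (Fin.ofNat 24 o)))).val
  have hpt : ∀ {o}, o < 24 → (gidx (gpt (Fin.ofNat 24 o))).val = o := fun {o} ho => by
    rw [gidx_gpt, Fin.val_ofNat, Nat.mod_eq_of_lt ho]
  have hmove : ∀ g ∈ L, ∀ o < 24, ∀ x : GolayPt, (gidx x).val = pget g o →
      (gidx ((k : Equiv.Perm GolayPt) x)).val = pget g (im o) := fun g hg o ho x hx => by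
    rw [show x = (pM g : Equiv.Perm GolayPt) (gpt (Fin.ofNat 24 o)) from gidx_injective (Fin.ext (by
      rw [isPk_of_inMat (hL g hg) (gpt _), hpt ho, hx]))]
    exact key g hg o ho _ (hpt ho)
  refine ⟨reps.map im, mem_choices ?_, ?_⟩
  · rw [List.forall₂_map_right_iff, List.forall₂_map_left_iff, List.forall₂_same]
    intro o ho
    have ho' := hreps o ho
    refine List.mem_filter.2 ⟨mem_bits24.2 (Fin.isLt _), List.all_eq_true.2 fun g hg => beq_iff_eq.2 ?_⟩
    have h1 := key g hg o ho' _ (hpt ho')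
    rw [Bool.eq_iff_iff, Nat.beq_eq, Nat.beq_eq]
    refine ⟨fun h => ?_, fun h => ?_⟩
    · rw [← hmove g hg o ho' (gpt (Fin.ofNat 24 o)) (by rw [hpt ho', h])]
    · have hx : (pM g : Equiv.Perm GolayPt) (gpt (Fin.ofNat 24 o)) = gpt (Fin.ofNat 24 o) :=
        (k : Equiv.Perm GolayPt).injective (gidx_injective (Fin.ext (h1.trans h)))
      have := (isPk_of_inMat (hL g hg)).apply (Fin.ofNat 24 o)
      rw [hx, hpt ho', Fin.val_ofNat, Nat.mod_eq_of_lt ho'] at this
      exact this.symm
  · intro x
    obtain ⟨⟨hc, hi⟩, he⟩ := hpts _ (mem_bits24.2 (gidx x).isLt)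
    set c := pts.getD (gidx x).val (0, 0)
    have hlen' : (gidx x).val < pts.length := by rw [hlen]; exact (gidx x).isLt
    rw [candPerm, pget_packList _ (fun a ha => by
        obtain ⟨b, -, rfl⟩ := List.mem_map.1 ha; exact Nat.mod_lt _ (by norm_num)) _
        (by simpa using hlen'),
      List.getD_eq_getElem _ _ (by simpa using hlen'), List.getElem_map,
      ← List.getD_eq_getElem _ (0, 0) hlen', List.getD_eq_getElem (reps.map im) _ (by rw [List.length_map]; exact hi),
      List.getElem_map]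
    have ho : reps.getD c.1 0 < 24 := by
      rw [List.getD_eq_getElem _ _ hi]; exact hreps _ (List.getElem_mem hi)
    have h2 := hmove c.2 hc _ ho x he.symm
    rw [List.getD_eq_getElem _ _ hi] at h2
    rw [Nat.mod_eq_of_lt (h2 ▸ (lt_trans (Fin.isLt _) (by norm_num : 24 < 32)))]
    exact h2

theorem centOK_spec {L reps : List ℕ} {pts : List (ℕ × ℕ)} (hd : centData L reps pts = true) {Q : ℕ → Bool}
    {allowed : List ℕ} (h : centOK L reps pts Q allowed = true) {k : ↥Cfsg.M24} (hk : ∀ g ∈ L, Commute k (pM g))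
    (hQ : ∀ p, Rep (k : Equiv.Perm GolayPt) p → Q p = true) :
    ∃ p ∈ allowed, Rep (k : Equiv.Perm GolayPt) p := by
  obtain ⟨t, ht, hr⟩ := exists_candidate hd hk
  have := List.all_eq_true.1 h t ht
  rw [hQ _ hr, codeOK_of_rep hr, Bool.not_true, Bool.false_or, Bool.false_or, List.contains_iff_mem] at this
  exact ⟨_, this, hr⟩

end Cfsg.Lib.JankoFourOrder
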