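import Cfsg.Agent.Lib.JankoFour.BitModel.Into

/-!
# Pairs of conjugates of the centre in the bit model
-/

set_option autoImplicit false
set_option maxRecDepth 4000
set_option maxHeartbeats 0

namespace Cfsg.Lib.JankoFourOrder

open Cfsg.Lib.JankoFour.BitModel

/-- A member of the second class in the span of the centre, an element and one of its commutators with `E`. -/
def keyHit (v k : ℕ) : Bool := inD k || inD (k ^^^ 1) || inD (k ^^^ v) || inD (k ^^^ v ^^^ 1)

theorem key_span : ((List.range 2048).all fun v => Nat.blt v 128 || inD v ||
    (List.range 64).any fun c => keyHit v (v ^^^ eAct c v)) = true := by decide +kernel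

theorem kMem_low : ((List.range 128).all fun v => kMem 1 v) = true := by decide +kernel

end Cfsg.Lib.JankoFourOrder
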