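import Cfsg.Agent.Lib.JankoFour.Centralizer
import Cfsg.Agent.Lib.JankoFourTen.TenBase
import Cfsg.Agent.Lib.JankoFourOrder.KeyModel

/-!
# The common centralizer of two conjugates of the centre
-/

set_option autoImplicit false
set_option maxRecDepth 100000
set_option linter.style.haveILetI false
set_option linter.unusedSectionVars false

namespace Cfsg.Lib.JankoFourOrder

open Cfsg Cfsg.Lib.Concrete Cfsg.Lib.JankoFour Cfsg.Lib.JankoFourTen
open Cfsg.Lib.JankoFour.BitModel (inD eAct)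

variable {G : Type*} [Group G] [Finite G] {A : Type} [Group A] {I : Subgroup A} {F : Frame G A I}
  {D : HexData A I} {S : Std F D}

/-- The members of the second class next to a given element. -/
def nearL (s : ℕ) : List ℕ := (List.range 2048).filter fun a => inPairs a && inPairs (a ^^^ s)

/-- Two elements are far apart. -/
def farB (s s' : ℕ) : Bool :=
  let L := nearL s
  Nat.blt s 2048 && Nat.blt s' 2048 && !(Nat.beq s 0) && !(Nat.beq s' 0) && !(inPairs s) && !(inPairs s') &&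
    L.all fun a => !(Nat.beq a s') && L.all fun b => !(Nat.beq (a ^^^ b) s')

variable (P : TenSetup S)

theorem ev_eq_one {v : ℕ} (hv : v < 2048) (h : P.ev v = 1) : v = 0 :=
  P.ev_inj hv (by norm_num) (h.trans P.ev_zero.symm)

theorem ev_pairs {v : ℕ} (hv : v < 2048) (h : inPairs v = true) : P.ev v ≠ 1 ∧ ¬ IsConj F.z (P.ev v) :=
  (P.ev_dset hv).2 h

theorem ev_zclass {v : ℕ} (hv : v < 2048) (h0 : v ≠ 0) (h : inPairs v = false) : IsConj F.z (P.ev v) := by
  by_contra hc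
  rw [(P.ev_dset hv).1 ⟨fun e => h0 (ev_eq_one P hv e), hc⟩] at h
  exact Bool.noConfusion h

theorem exists_to_z {v : ℕ} (hv : v < 2048) (h0 : v ≠ 0) (h : inPairs v = false) :
    ∃ n ∈ S.NV, n * F.z * n⁻¹ = P.ev v := by
  obtain ⟨g, hg⟩ := isConj_iff.1 (ev_zclass P hv h0 h)
  exact S.fusion S.z_mem (P.ev_mem v) hg

theorem conj_mem_Vb' {n x : G} (hn : n ∈ S.NV) (hx : x ∈ S.Vb) : n⁻¹ * x * n ∈ S.Vb := by
  have := S.conj_mem_Vb (inv_mem hn) hx
  rwa [inv_inv] at this

include P in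
/-- A member of the second class of the standard group that an element sends into it. -/
theorem mem_NV_of_moves {g t : G} (ht : t ∈ S.Vb) (h1 : t ≠ 1) (hnc : ¬ IsConj F.z t) (h : g * t * g⁻¹ ∈ S.Vb) :
    g ∈ S.NV := by
  have h' : S.Vb.map (MulAut.conj g⁻¹).toMonoidHom = S.Vb :=
    P.adapted.big_unique (isBig_map S.isBig g⁻¹) ht ⟨g * t * g⁻¹, h, show g⁻¹ * (g * t * g⁻¹) * g⁻¹⁻¹ = t by group⟩
      h1 hnc
  have := inv_mem (mem_normalizer_of_map h')
  rwa [inv_inv] at this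

/-- Elements centralizing two far conjugates of the centre normalize the standard group. -/
theorem mem_NV_of_far {s s' : ℕ} (h : farB s s' = true) {g : G} (hs : Commute g (P.ev s))
    (hs' : Commute g (P.ev s')) : g ∈ S.NV := by
  simp only [farB, Bool.and_eq_true, Bool.not_eq_true', Nat.blt_eq, ← Bool.not_eq_true, Nat.beq_eq,
    List.all_eq_true] at h
  obtain ⟨⟨⟨⟨⟨⟨hs2, hs'2⟩, h0⟩, h0'⟩, hp⟩, hp'⟩, hfar⟩ := h
  rw [Bool.not_eq_true] at hp hp'
  obtain ⟨n, hn, hne⟩ := exists_to_z P hs2 h0 hp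
  set C := P.adapted
  obtain ⟨-, -, -, -, -, hcls, -⟩ := C.model
  obtain ⟨v, hv, hve⟩ := C.exists_el (conj_mem_Vb' hn (P.ev_mem s'))
  have hconj : ∀ x : G, IsConj F.z (n⁻¹ * x * n) ↔ IsConj F.z x := fun x => by
    conv_rhs => rw [show x = n * (n⁻¹ * x * n) * n⁻¹ by group]
    rw [isConj_conj_iff]
  have hvD : v ≠ 0 ∧ inD v = false := (hcls v hv).1 (hve ▸ (hconj _).2 (ev_zclass P hs'2 h0' hp'))
  -- a member of the second class in the model gives one of the list
  have hnear : ∀ a < 2048, BitModel.kGenB 1 a = true →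
      ∃ b ∈ nearL s, P.ev b = n * C.el a * n⁻¹ := by
    intro a ha hg
    rw [BitModel.kGenB, Bool.and_eq_true] at hg
    obtain ⟨b, hb, hbe⟩ := P.exists_ev (S.conj_mem_Vb hn (C.el_mem a))
    refine ⟨b, ?_, hbe⟩
    have hD : ∀ {c}, c < 2048 → inD c = true → ∀ {e}, e < 2048 → P.ev e = n * C.el c * n⁻¹ → inPairs e = true := by
      intro c hc hcD e he hee
      refine (P.ev_dset he).1 ⟨fun h1 => ?_, fun h1 => ?_⟩
      · rw [hee, conj_eq_one_iff] at h1
        rw [C.el_eq_one hc h1] at hcD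
        exact absurd hcD (by rw [BitModel.inD_zero]; decide)
      · rw [hee, isConj_conj_iff, hcls c hc, hcD] at h1
        exact Bool.noConfusion h1.2
    refine List.mem_filter.2 ⟨List.mem_range.2 hb, ?_⟩
    rw [Bool.and_eq_true]
    refine ⟨hD ha hg.1 hb hbe, hD (Nat.xor_lt_two_pow (n := 11) ha (by norm_num)) hg.2
      (Nat.xor_lt_two_pow (n := 11) hb hs2) ?_⟩
    rw [P.ev_xor, hbe, C.el_xor, C.el_one, ← hne]
    group
  have hv128 : 128 ≤ v := by
    by_contra hlt
    have hk := List.all_eq_true.1 kMem_low v (List.mem_range.2 (by omega))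
    rw [BitModel.kMem, Bool.or_eq_true, Bool.or_eq_true, List.any_eq_true] at hk
    rcases hk with (hk | hk) | hk
    · exact hvD.1 (Nat.eq_of_beq_eq_true hk)
    · rw [BitModel.kGenB, Bool.and_eq_true, hvD.2] at hk
      exact Bool.noConfusion hk.1
    · obtain ⟨a, ha, hab⟩ := hk
      rw [Bool.and_eq_true] at hab
      have ha2 : a < 2048 := List.mem_range.1 (List.mem_filter.1 ha).1
      obtain ⟨b1, hb1, e1⟩ := hnear a ha2 hab.1
      obtain ⟨b2, hb2, e2⟩ := hnear _ (Nat.xor_lt_two_pow (n := 11) hv ha2) hab.2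
      refine (hfar b1 hb1).2 b2 hb2 (P.ev_inj (Nat.xor_lt_two_pow (n := 11) (List.mem_range.1 (List.mem_filter.1 hb1).1)
        (List.mem_range.1 (List.mem_filter.1 hb2).1)) hs'2 ?_)
      rw [P.ev_xor, e1, e2, C.el_xor, show n * C.el a * n⁻¹ * (n * (C.el v * C.el a) * n⁻¹) =
        n * (C.el a * (C.el v * C.el a)) * n⁻¹ by group, (S.Vb_comm (C.el_mem v) (C.el_mem a)).eq,
        ← mul_assoc (C.el a), S.Vb_sq (C.el_mem a), one_mul, hve]
      group
  obtain ⟨c, hc, hhit⟩ := List.any_eq_true.1 (show ((List.range 64).any fun c => keyHit v (v ^^^ eAct c v)) = true by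
    have := List.all_eq_true.1 key_span v (List.mem_range.2 hv)
    rw [hvD.2, Bool.or_false, Bool.or_eq_true, Nat.blt_eq] at this
    exact this.resolve_left (by omega))
  obtain ⟨e, he, hec⟩ := C.exists_e (List.mem_range.1 hc)
  set m := n⁻¹ * g * n
  have hmz : Commute m F.z := by
    have h := hs.map (MulAut.conj n⁻¹).toMonoidHom
    simp only [MulEquiv.coe_toMonoidHom, MulAut.conj_apply, inv_inv] at h
    rwa [← hne, show n⁻¹ * (n * F.z * n⁻¹) * n = F.z by group] at h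
  have hmv : Commute m (C.el v) := by
    have h := hs'.map (MulAut.conj n⁻¹).toMonoidHom
    simp only [MulEquiv.coe_toMonoidHom, MulAut.conj_apply, inv_inv] at h
    rwa [← hve] at h
  have hk2 : v ^^^ eAct c v < 2048 := Nat.xor_lt_two_pow (n := 11) hv (C.eAct_lt c hv)
  -- the span is sent into the standard group
  let U : Subgroup G := S.Vb ⊓ S.Vb.comap (MulAut.conj m).toMonoidHom
  have h1U : F.z ∈ U := ⟨S.z_mem, by
    show m * F.z * m⁻¹ ∈ S.Vb
    rw [hmz.eq, mul_inv_cancel_right]; exact S.z_mem⟩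
  have hvU : C.el v ∈ U := ⟨C.el_mem v, by
    show m * C.el v * m⁻¹ ∈ S.Vb
    rw [hmv.eq, mul_inv_cancel_right]; exact C.el_mem v⟩
  have hkU : C.el (v ^^^ eAct c v) ∈ U := by
    rw [C.el_xor]
    refine mul_mem hvU ⟨C.el_mem _, ?_⟩
    show m * C.el (eAct c v) * m⁻¹ ∈ S.Vb
    rw [← hec, ← C.el_eAct he hv, show m * (e * C.el v * e⁻¹) * m⁻¹ =
      m * e * m⁻¹ * (m * C.el v * m⁻¹) * (m * e * m⁻¹)⁻¹ by group, hmv.eq, mul_inv_cancel_right]
    exact S.conj_mem_Vb (S.E_normalizes (F.conj_mem hmz he)) (C.el_mem v)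
  obtain ⟨w, hw, hwD, hwU⟩ : ∃ w < 2048, inD w = true ∧ C.el w ∈ U := by
    simp only [keyHit, Bool.or_eq_true] at hhit
    rcases hhit with ((h | h) | h) | h
    · exact ⟨_, hk2, h, hkU⟩
    · exact ⟨_, Nat.xor_lt_two_pow (n := 11) hk2 (by norm_num), h, by rw [C.el_xor, C.el_one]; exact mul_mem hkU h1U⟩
    · exact ⟨_, Nat.xor_lt_two_pow (n := 11) hk2 hv, h, by rw [C.el_xor]; exact mul_mem hkU hvU⟩
    · refine ⟨_, Nat.xor_lt_two_pow (n := 11) (Nat.xor_lt_two_pow (n := 11) hk2 hv) (by norm_num), h, ?_⟩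
      rw [C.el_xor, C.el_one, C.el_xor (v ^^^ eAct c v)]
      exact mul_mem (mul_mem hkU hvU) h1U
  have hm : m ∈ S.NV := mem_NV_of_moves P hwU.1 (fun e1 => by
      rw [C.el_eq_one hw e1, BitModel.inD_zero] at hwD
      exact Bool.noConfusion hwD)
    (fun h1 => by rw [hcls w hw, hwD] at h1; exact Bool.noConfusion h1.2) hwU.2
  have := mul_mem (mul_mem hn hm) (inv_mem hn)
  rwa [show n * m * n⁻¹ = g by simp only [m]; group] at this

/-- A conjugate of an element of `E`. -/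
theorem moved_mem_NV {s a : ℕ} (hs : s < 2048) (h0 : s ≠ 0) (hp : inPairs s = false) (ha : a < 2048)
    (hpa : inPairs a = true) (hpas : inPairs (a ^^^ s) = true) {g : G} (hg : Commute g (P.ev s)) :
    g * P.ev a * g⁻¹ ∈ S.NV := by
  obtain ⟨n, hn, hne⟩ := exists_to_z P hs h0 hp
  set C := P.adapted
  obtain ⟨-, -, -, -, -, hcls, -⟩ := C.model
  obtain ⟨v, hv, hve⟩ := C.exists_el (conj_mem_Vb' hn (P.ev_mem a))
  have hD : ∀ {c}, c < 2048 → ∀ {e}, e < 2048 → inPairs e = true → C.el c = n⁻¹ * P.ev e * n → inD c = true := by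
    intro c hc e he hep hce
    obtain ⟨e1, e2⟩ := ev_pairs P he hep
    by_contra hD
    rw [Bool.not_eq_true] at hD
    refine e2 ?_
    have h := (hcls c hc).2 ⟨fun h0 => e1 ?_, hD⟩
    · rw [show P.ev e = n * C.el c * n⁻¹ by rw [hce]; group, isConj_conj_iff]
      exact h
    · rw [h0, C.el_zero] at hce
      calc P.ev e = n * (n⁻¹ * P.ev e * n) * n⁻¹ := by group
        _ = 1 := by rw [← hce]; group
  have h128 : v < 128 := by
    have h := BitModel.allLt_spec BitModel.kOne hv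
    rw [BitModel.kGenB, hD hv ha hpa hve, hD (c := v ^^^ 1) (Nat.xor_lt_two_pow (n := 11) hv (by norm_num))
      (Nat.xor_lt_two_pow (n := 11) ha hs) hpas (by rw [C.el_xor, C.el_one, hve, P.ev_xor, ← hne]; group)] at h
    simpa [Nat.blt_eq] using h
  have hmz : Commute (n⁻¹ * g * n) F.z := by
    have h := hg.map (MulAut.conj n⁻¹).toMonoidHom
    simp only [MulEquiv.coe_toMonoidHom, MulAut.conj_apply, inv_inv] at h
    rwa [← hne, show n⁻¹ * (n * F.z * n⁻¹) * n = F.z by group] at h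
  have hmem : n⁻¹ * g * n * C.el v * (n⁻¹ * g * n)⁻¹ ∈ S.NV :=
    S.E_normalizes (F.conj_mem hmz (C.el_mem_K h128).1)
  rw [hve] at hmem
  have := mul_mem (mul_mem hn hmem) (inv_mem hn)
  rwa [show n * (n⁻¹ * g * n * (n⁻¹ * P.ev a * n) * (n⁻¹ * g * n)⁻¹) * n⁻¹ = g * P.ev a * g⁻¹ by group] at this

end Cfsg.Lib.JankoFourOrder
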