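import Cfsg.Agent.Lib.JankoFourOrder.LineChecks
import Cfsg.Agent.Lib.Concrete.OctadStab

/-!
# The product of the conjugates over a line is trivial
-/

set_option autoImplicit false
set_option maxRecDepth 100000
set_option linter.style.haveILetI false
set_option linter.unusedSectionVars false

namespace Cfsg.Lib.JankoFourOrder

open Cfsg Cfsg.Lib.Concrete Cfsg.Lib.JankoFour Cfsg.Lib.JankoFourTen
open Cfsg.Lib.JankoFour.BitModel (lin)
open Cfsg.Lib.J4Iso (comp idP)
open Cfsg.Lib.FusionSys.MathieuCert (toPerm)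

attribute [local irreducible] toPerm

/-- A certificate that three members lead to the trios of a line. -/
structure LineCert where
  /-- The member moving the standard line. -/
  g : ℕ
  /-- The first member. -/
  a : ℕ
  /-- The second member. -/
  b : ℕ
  /-- The third member. -/
  c : ℕ
  /-- The word for the first. -/
  ra : ℕ × List ℕ
  /-- The word for the second. -/
  rb : ℕ × List ℕ
  /-- The word for the third. -/
  rc : ℕ × List ℕ

/-- The certificate is correct. -/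
noncomputable def LineCert.ok (l : LineCert) : Bool :=
  inMat l.g && inMat l.a && inMat l.b && inMat l.c && rOK l.ra && rOK l.rb && rOK l.rc &&
    peq (comp l.g (lH 1)) (comp l.a (rVal l.ra)) && peq (comp l.g (lH 2)) (comp l.b (rVal l.rb)) &&
    peq (comp l.g (lH 0)) (comp l.c (rVal l.rc))

variable {G : Type*} [Group G] [Finite G] {A : Type} [Group A] {I : Subgroup A} {F : Frame G A I}
  {D : HexData A I} {S : Std F D}

theorem exists_pk (g : ↥Cfsg.M24) : ∃ p, Rep (g : Equiv.Perm GolayPt) p :=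
  ⟨packList (bits24.map fun i => (gidx ((g : Equiv.Perm GolayPt) (gpt (Fin.ofNat 24 i)))).val), fun y => by
    have hlen : bits24.length = 24 := rfl
    have hget : ∀ i < 24, bits24.getD i 0 = i := by decide
    rw [pget_packList _ (fun a ha => by
        obtain ⟨b, -, rfl⟩ := List.mem_map.1 ha; exact lt_trans (Fin.isLt _) (by norm_num)) _
        (by rw [List.length_map, hlen]; exact (gidx y).isLt),
      List.getD_eq_getElem _ _ (by rw [List.length_map, hlen]; exact (gidx y).isLt), List.getElem_map,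
      ← List.getD_eq_getElem _ 0 (by rw [hlen]; exact (gidx y).isLt), hget _ (gidx y).isLt,
      Fin.ofNat_val_eq_self, gpt_gidx]⟩

theorem pget_lt24 {g : Equiv.Perm GolayPt} {p : ℕ} (h : Rep g p) {i : ℕ} (hi : i < 24) : pget p i < 24 := by
  have := h.apply ⟨i, hi⟩
  simp only at this
  omega

theorem exists_cval' (P : TenSetup S) {x : G} (hx : x ∈ S.NV) : ∃ a, Ok a ∧ x = cval P a := by
  obtain ⟨v, hv, g, rfl⟩ := exists_cval P hx
  obtain ⟨p, hp⟩ := exists_pk g
  exact ⟨(v, p), ⟨hv, isPk_of_rep hp⟩, by rw [cval, sp_of_rep P hp]⟩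

theorem act_pairC (P : TenSetup S) {p : ℕ} (hp : IsPk p) {a b : ℕ} (ha : a < 24) (hb : b < 24) :
    lin (actL p) (pairC a b) = pairC (pget p a) (pget p b) := by
  refine P.ev_inj (act_lt _ _) (pairC_lt _ _) ?_
  rw [← conj_ev P hp (pairC_lt a b)]
  have h := congrArg Subtype.val (normAut_pair P (pM p) (gpt ⟨a, ha⟩) (gpt ⟨b, hb⟩))
  rw [S.normAut_apply, P.T.el_pair, P.T.el_pair, gidx_gpt, gidx_gpt, hp, hp, gidx_gpt, gidx_gpt] at h
  exact h

/-- A member commuting with a pair fixes or exchanges its points. -/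
theorem pair_fixed (P : TenSetup S) {a : ℕ × ℕ} (ha : Ok a) {x y : ℕ} (hx : x < 24) (hy : y < 24) (hne : x ≠ y)
    (hd : pairDet x y = true) (hc : Commute (cval P a) (P.ev (pairC x y))) :
    (pget a.2 x = x ∧ pget a.2 y = y) ∨ (pget a.2 x = y ∧ pget a.2 y = x) := by
  have e : lin (actL a.2) (pairC x y) = pairC x y := by
    refine P.ev_inj (act_lt _ _) (pairC_lt _ _) ?_
    rw [← conj_ev P ha.2 (pairC_lt x y)]
    have h2 : Commute (P.ev a.1) (P.ev (pairC x y)) := S.Vb_comm (P.ev_mem _) (P.ev_mem _)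
    have h3 := h2.inv_left.mul_left hc
    rw [cval, inv_mul_cancel_left] at h3
    rw [h3.eq, mul_inv_cancel_right]
  rw [act_pairC P ha.2 hx hy] at e
  have hne' : pget a.2 x ≠ pget a.2 y := fun h => hne (by
    have h1 := ha.2.apply ⟨x, hx⟩
    have h2 := ha.2.apply ⟨y, hy⟩
    simp only at h1 h2
    rw [← h2] at h
    rw [← h1] at h
    exact congrArg Fin.val (gpt_injective ((pM a.2 : Equiv.Perm GolayPt).injective
      (gidx_injective (Fin.ext h)))))
  have := List.all_eq_true.1 (List.all_eq_true.1 hd _ (mem_bits24.2 (pget_lt24 ha.2 hx))) _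
    (mem_bits24.2 (pget_lt24 ha.2 hy))
  rw [show Nat.beq (pairC (pget a.2 x) (pget a.2 y)) (pairC x y) = true from Nat.beq_eq.mpr e] at this
  simpa [hne'] using this

theorem lH_pk {i : ℕ} (hi : i < 3) : IsPk (lH i) :=
  isPk_of_inMat (List.all_eq_true.1 lineH_ok i (List.mem_range.2 hi))

theorem exists_lineFix {a : ℕ} (ha : IsPk a) (hfix : ∀ x < 24, lineOct.testBit x = true → pget a x = x) :
    ∃ p ∈ lineFix, peq a p = true := by
  classical
  have h := lineOct_ok
  simp only [Bool.and_eq_true, List.all_eq_true, List.contains_iff_mem, Nat.beq_eq] at h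
  obtain ⟨⟨⟨⟨⟨⟨ho, hlen⟩, -⟩, -⟩, -⟩, hfx⟩, hd⟩ := h
  have hoct : mset lineOct ∈ octads := (mset_mem_octads_iff (octList_lt ho)).2 ho
  have hin : ∀ p, p ∈ lineFix → (pM p : Equiv.Perm GolayPt) ∈ fixSet (mset lineOct) := fun p hp => by
    refine mem_fixSet.2 ⟨(pM p).2, fun x hx => gidx_injective (Fin.ext ?_)⟩
    have h2 := (hfx p hp).2 _ (mem_bits24.2 (gidx x).isLt)
    rw [mem_mset.1 hx, Bool.not_true, Bool.false_or, Nat.beq_eq] at h2
    rw [isPk_of_inMat (hfx p hp).1 x, h2]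
  have hmem : ∀ i : Fin 16, lineFix.getD i 0 ∈ lineFix := fun i => by
    rw [List.getD_eq_getElem _ _ (by rw [hlen]; exact i.isLt)]; exact List.getElem_mem _
  have hb : Function.Bijective (fun i : Fin 16 =>
      (⟨(pM (lineFix.getD i 0) : Equiv.Perm GolayPt), hin _ (hmem i)⟩ : ↥(fixSet (mset lineOct)))) := by
    refine (Nat.bijective_iff_injective_and_card _).2 ⟨fun i j e => ?_, ?_⟩
    · by_contra hij
      have h1 := hd i (List.mem_range.2 i.isLt) j (List.mem_range.2 j.isLt)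
      rw [Bool.or_eq_true, Nat.beq_eq, Bool.not_eq_true'] at h1
      have h2 := peq_of_rep (isPk_of_inMat (hfx _ (hmem i)).1)
        (show Rep (pM (lineFix.getD i 0) : Equiv.Perm GolayPt) (lineFix.getD j 0) by
          rw [Subtype.mk.inj e]; exact isPk_of_inMat (hfx _ (hmem j)).1)
      exact Bool.noConfusion ((h1.resolve_left fun h => hij (Fin.ext h)).symm.trans h2)
    · rw [Nat.card_eq_fintype_card, Fintype.card_fin, card_fixSet_octad hoct]
  have hmema : (pM a : Equiv.Perm GolayPt) ∈ fixSet (mset lineOct) :=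
    mem_fixSet.2 ⟨(pM a).2, fun x hx => gidx_injective (Fin.ext (by
      rw [ha x, hfix _ (gidx x).isLt (mem_mset.1 hx)]))⟩
  obtain ⟨i, hi⟩ := hb.2 ⟨(pM a : Equiv.Perm GolayPt), hmema⟩
  refine ⟨_, hmem i, peq_of_rep ha ?_⟩
  rw [← (Subtype.mk.inj hi : (pM (lineFix.getD i 0) : Equiv.Perm GolayPt) = (pM a : Equiv.Perm GolayPt))]
  exact isPk_of_inMat (hfx _ (hmem i)).1

namespace OrderSetup

variable (O : OrderSetup S)

theorem wOf_three {l : List Step} {x y w : ℕ} (h : l.map Step.h = [x, y, w]) :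
    O.wOf l = O.tOf w * O.tOf y * O.tOf x := by
  match l, h with
  | [s1, s2, s3], h =>
    simp only [List.map_cons, List.map_nil, List.cons.injEq, and_true] at h
    obtain ⟨rfl, rfl, rfl⟩ := h
    simp [wOf]

/-- The product over the standard line. -/
noncomputable def uLine : G := O.tOf (lH 1) * O.tOf (lH 2) * O.tOf (lH 0)

theorem uLine_pair {i : ℕ} (hi : i < 7) : Commute O.uLine
    (O.P.ev (pairC (linePairs.getD i (0, 0)).1 (linePairs.getD i (0, 0)).2)) := by
  have h := List.all_eq_true.1 lineChains_ok i (List.mem_range.2 hi)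
  simp only [Bool.and_eq_true, beq_iff_eq] at h
  obtain ⟨⟨h1, h2⟩, h3⟩ := h
  have e := O.chain_fix (b := (pairC (linePairs.getD i (0, 0)).1 (linePairs.getD i (0, 0)).2, idP))
    ⟨pairC_lt _ _, isPk_idP⟩ ⟨pairC_lt _ _, isPk_idP⟩ h2 h3
  rw [O.wOf_three h1, cval_ev] at e
  exact mul_inv_eq_iff_eq_mul.1 e

theorem uLine_cases : O.uLine = 1 ∨ O.uLine = O.P.ev lineVec := by
  have h := lineOct_ok
  simp only [Bool.and_eq_true, List.all_eq_true, Nat.blt_eq, Bool.not_eq_true', Nat.beq_eq,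
    ← Bool.not_eq_true] at h
  obtain ⟨⟨⟨⟨⟨⟨-, -⟩, hp7⟩, hpairs⟩, hcov⟩, -⟩, -⟩ := h
  have hget : ∀ i < 7, linePairs.getD i (0, 0) ∈ linePairs := fun i hi => by
    rw [List.getD_eq_getElem _ _ (by omega)]; exact List.getElem_mem _
  have hmem : O.uLine ∈ S.NV := by
    obtain ⟨⟨⟨⟨⟨-, -⟩, -⟩, -⟩, -⟩, hd⟩ := hpairs _ (hget 0 (by norm_num))
    obtain ⟨q1, q2⟩ := ev_pairs O.P (pairC_lt _ _) hd
    refine mem_NV_of_moves O.P (O.P.ev_mem _) q1 q2 ?_
    rw [(O.uLine_pair (i := 0) (by norm_num)).eq, mul_inv_cancel_right]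
    exact O.P.ev_mem _
  obtain ⟨a, ha, hae⟩ := exists_cval' O.P hmem
  have hpair : ∀ i < 7, (pget a.2 (linePairs.getD i (0, 0)).1 = (linePairs.getD i (0, 0)).1 ∧
      pget a.2 (linePairs.getD i (0, 0)).2 = (linePairs.getD i (0, 0)).2) ∨
      (pget a.2 (linePairs.getD i (0, 0)).1 = (linePairs.getD i (0, 0)).2 ∧
      pget a.2 (linePairs.getD i (0, 0)).2 = (linePairs.getD i (0, 0)).1) := fun i hi => by
    obtain ⟨⟨⟨⟨⟨hx, hy⟩, hne⟩, -⟩, hdet⟩, -⟩ := hpairs _ (hget i hi)
    exact pair_fixed O.P ha hx hy hne hdet (hae ▸ O.uLine_pair hi)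
  have hfix : ∀ i < 7, pget a.2 (linePairs.getD i (0, 0)).1 = (linePairs.getD i (0, 0)).1 ∧
      pget a.2 (linePairs.getD i (0, 0)).2 = (linePairs.getD i (0, 0)).2 := by
    have hb := (hpairs _ (hget 0 (by norm_num))).1.1.1
    have h0 : pget a.2 (linePairs.getD 0 (0, 0)).1 = (linePairs.getD 0 (0, 0)).1 := by
      rcases hpair 0 (by norm_num) with e | e
      · exact e.1
      · exfalso
        have h2 : (linePairs.getD 0 (0, 0)).2 ≠ (linePairs.getD 1 (0, 0)).2 := by decide +kernel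
        have hf := (hpairs _ (hget 1 (by norm_num))).1.1.2
        rcases hpair 1 (by norm_num) with e' | e' <;> rw [hf, e.1] at e'
        · exact hb.2 e'.1.symm
        · exact h2 e'.1
    intro i hi
    obtain ⟨⟨⟨⟨⟨-, -⟩, hne⟩, hf⟩, -⟩, -⟩ := hpairs _ (hget i hi)
    refine (hpair i hi).resolve_right fun e => hne ?_
    rw [hf] at e ⊢
    exact h0.symm.trans e.1
  obtain ⟨p, hp, hpe⟩ := exists_lineFix ha.2 (fun x hx ho => by
    have := hcov x (mem_bits24.2 hx)
    rw [ho] at this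
    simp only [Bool.not_true, Bool.false_or, Bool.or_eq_true, Nat.beq_eq, List.any_eq_true] at this
    rcases this with e | ⟨e, he, hex⟩
    · rw [e]; exact (hfix 0 (by norm_num)).1
    · obtain ⟨i, hi, rfl⟩ := List.getElem_of_mem he
      have := (hfix i (by omega)).2
      rw [List.getD_eq_getElem _ _ hi, hex] at this
      exact this)
  have hpk : IsPk p := by
    have h' := lineOct_ok
    simp only [Bool.and_eq_true, List.all_eq_true] at h'
    exact isPk_of_inMat (h'.1.2 p hp).1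
  have hb : O.uLine = cval O.P (a.1, p) := by rw [hae, cval, cval, sp_of_peq O.P hpe hpk]
  have hall : (lineGens.all fun g => ccomm (0, g) (a.1, p)) = true := List.all_eq_true.2 fun g hg => by
    obtain ⟨i, hi, rfl⟩ := List.getElem_of_mem hg
    have hg' := List.all_eq_true.1 lineGens_ok i (List.mem_range.2 hi)
    rw [List.getD_eq_getElem _ _ hi] at hg'
    simp only [lineGenOK, Bool.and_eq_true, List.all_eq_true, List.mem_range] at hg'
    have hk := isPk_of_inMat hg'.1
    have hc : ∀ j < 3, Commute (sp O.P lineGens[i]) (O.tOf (lH j)) := fun j hj =>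
      O.tOf_commute hk (lH_pk hj) (hg'.2 j hj).1 (hg'.2 j hj).2
    refine ccomm_of_commute O.P ⟨by norm_num, hk⟩ ⟨ha.1, hpk⟩ ?_
    rw [cval_sp, ← hb]
    exact ((hc 1 (by norm_num)).mul_right (hc 2 (by norm_num))).mul_right (hc 0 (by norm_num))
  have := List.all_eq_true.1 (List.all_eq_true.1 lineCent_ok p hp) a.1 (List.mem_range.2 ha.1)
  rw [hall, Bool.not_true, Bool.false_or, Bool.and_eq_true, Bool.or_eq_true, Nat.beq_eq, Nat.beq_eq] at this
  rw [hb, cval, sp_of_peq O.P this.2 isPk_idP, sp_idP, mul_one]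
  rcases this.1 with e | e <;> rw [e]
  · exact Or.inl O.P.ev_zero
  · exact Or.inr rfl

theorem uLine_conj {g : ℕ} (hg : IsPk g) : sp O.P g * O.uLine * (sp O.P g)⁻¹ =
    O.tOf (comp g (lH 1)) * O.tOf (comp g (lH 2)) * O.tOf (comp g (lH 0)) := by
  rw [← O.tOf_comp hg (lH_pk (show 1 < 3 by norm_num)), ← O.tOf_comp hg (lH_pk (show 2 < 3 by norm_num)),
    ← O.tOf_comp hg (lH_pk (show 0 < 3 by norm_num)), uLine]
  group

theorem quad_rel (hu : O.uLine = O.P.ev lineVec) {j : ℕ} (hj : j < 4) :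
    let a := [[0, 1, 2], [1, 3, 4], [2, 3, 5], [0, 4, 5]].getD j []
    O.tOf (quadH.getD (a.getD 0 0) 0) * O.tOf (quadH.getD (a.getD 1 0) 0) =
      O.P.ev (lin (actL (quadG.getD j 0)) lineVec) * O.tOf (quadH.getD (a.getD 2 0) 0) := by
  intro a
  have h := quad_ok
  simp only [Bool.and_eq_true, List.all_eq_true, List.mem_range, Nat.blt_eq, Nat.beq_eq] at h
  obtain ⟨⟨⟨⟨⟨⟨⟨⟨hg, hH⟩, hgl⟩, hHl⟩, hv⟩, hr⟩, -⟩, -⟩, -⟩ := h
  have hpg : IsPk (quadG.getD j 0) := by
    rw [List.getD_eq_getElem _ _ (by omega)]; exact isPk_of_inMat (hg _ (List.getElem_mem _))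
  have hpH : ∀ i < 6, IsPk (quadH.getD i 0) := fun i hi => by
    rw [List.getD_eq_getElem _ _ (by omega)]; exact isPk_of_inMat (hH _ (List.getElem_mem _))
  have ha6 : ∀ i < 3, a.getD i 0 < 6 := by
    intro i hi
    simp only [a]
    interval_cases j <;> interval_cases i <;> decide
  have e : ∀ i < 3, O.tOf (comp (quadG.getD j 0) (lH ([1, 2, 0].getD i 0))) = O.tOf (quadH.getD (a.getD i 0) 0) :=
    fun i hi => O.tOf_eq (hpH _ (ha6 i hi)) (hr j hj i hi).1 (hr j hj i hi).2
  have h' := O.uLine_conj hpg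
  rw [hu, conj_ev O.P hpg hv] at h'
  have e0 := e 0 (by norm_num)
  have e1 := e 1 (by norm_num)
  have e2 := e 2 (by norm_num)
  simp only [List.getD_cons_zero, List.getD_cons_succ] at e0 e1 e2
  rw [e0, e1, e2] at h'
  rw [h', mul_assoc _ (O.tOf (quadH.getD (a.getD 2 0) 0)), O.tOf_sq, mul_one]

/-- The product over the line is trivial. -/
theorem uLine_eq : O.uLine = 1 := by
  refine O.uLine_cases.resolve_right fun hu => ?_
  have h0 := O.quad_rel hu (j := 0) (by norm_num)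
  have h1 := O.quad_rel hu (j := 1) (by norm_num)
  have h2 := O.quad_rel hu (j := 2) (by norm_num)
  have h3 := O.quad_rel hu (j := 3) (by norm_num)
  simp only [List.getD_cons_zero, List.getD_cons_succ] at h0 h1 h2 h3
  set ta := O.tOf (quadH.getD 0 0)
  set tq := O.tOf (quadH.getD 5 0)
  set sbe := O.P.ev (lin (actL (quadG.getD 1 0)) lineVec)
  set sab := O.P.ev (lin (actL (quadG.getD 0 0)) lineVec)
  set sce := O.P.ev (lin (actL (quadG.getD 2 0)) lineVec)
  set sag := O.P.ev (lin (actL (quadG.getD 3 0)) lineVec)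
  have hm : ta * sbe * ta ∈ S.Vb := by
    have e : ta * sbe * ta * sag * tq = sab * sce * tq := by
      rw [mul_assoc (ta * sbe * ta) sag, ← h3, show ta * sbe * ta * (ta * O.tOf (quadH.getD 4 0)) =
        ta * sbe * (ta * ta) * O.tOf (quadH.getD 4 0) by group, O.tOf_sq, mul_one, mul_assoc ta, ← h1,
        ← mul_assoc ta, h0, mul_assoc sab, h2, mul_assoc sab sce]
    rw [show ta * sbe * ta = sab * sce * sag⁻¹ by
      rw [← mul_right_cancel e]; group]
    exact mul_mem (mul_mem (O.P.ev_mem _) (O.P.ev_mem _)) (inv_mem (O.P.ev_mem _))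
  have h := quad_ok
  simp only [Bool.and_eq_true, Nat.beq_eq, Bool.not_eq_true'] at h
  obtain ⟨o, e⟩ := O.step_spec (a := (lin (actL (quadG.getD 1 0)) lineVec, idP)) ⟨act_lt _ _, isPk_idP⟩ h.1.2
  rw [cval_ev, h.1.1.2] at e
  obtain ⟨v, hv, hve⟩ := O.P.exists_ev hm
  have hp := cpeq_of_eq O.P o (b := (v, idP)) ⟨hv, isPk_idP⟩ (by rw [cval_ev, hve, ← e])
  rw [cpeq, Bool.and_eq_true] at hp
  exact Bool.noConfusion (h.2.symm.trans hp.2)

/-- Three conjugates over a line. -/
theorem line_rel {g : ℕ} (hg : inMat g = true) {x y w : ℕ} (hx : inMat x = true) (hy : inMat y = true)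
    (hw : inMat w = true) {rx ry rw' : ℕ × List ℕ} (ox : rOK rx = true) (oy : rOK ry = true) (ow : rOK rw' = true)
    (ex : peq (comp g (lH 1)) (comp x (rVal rx)) = true) (ey : peq (comp g (lH 2)) (comp y (rVal ry)) = true)
    (ew : peq (comp g (lH 0)) (comp w (rVal rw')) = true) :
    O.tOf x * O.tOf y = O.tOf w ∧ Commute (O.tOf x) (O.tOf y) := by
  have h := O.uLine_conj (isPk_of_inMat hg)
  rw [O.uLine_eq, mul_one, mul_inv_cancel, O.tOf_eq (isPk_of_inMat hx) ox ex,
    O.tOf_eq (isPk_of_inMat hy) oy ey, O.tOf_eq (isPk_of_inMat hw) ow ew] at h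
  have e : O.tOf x * O.tOf y = O.tOf w := by rw [eq_inv_of_mul_eq_one_left h.symm, O.tOf_inv]
  refine ⟨e, ?_⟩
  show O.tOf x * O.tOf y = O.tOf y * O.tOf x
  conv_rhs => rw [← O.tOf_inv y, ← O.tOf_inv x, ← mul_inv_rev, e, O.tOf_inv]
  exact e

theorem lineCert_spec {l : LineCert} (h : l.ok = true) :
    O.tOf l.a * O.tOf l.b = O.tOf l.c ∧ Commute (O.tOf l.a) (O.tOf l.b) := by
  simp only [LineCert.ok, Bool.and_eq_true] at h
  obtain ⟨⟨⟨⟨⟨⟨⟨⟨⟨h1, h2⟩, h3⟩, h4⟩, h5⟩, h6⟩, h7⟩, h8⟩, h9⟩, h10⟩ := h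
  exact O.line_rel h1 h2 h3 h4 h5 h6 h7 h8 h9 h10

end OrderSetup

end Cfsg.Lib.JankoFourOrder
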