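import Cfsg.Agent.Lib.JankoFourOrder.LineData

/-!
# Evaluation of the checks on a line of three trios
-/

set_option autoImplicit false
set_option maxRecDepth 100000
set_option maxHeartbeats 0

namespace Cfsg.Lib.JankoFourOrder

open Cfsg Cfsg.Lib.Concrete Cfsg.Lib.JankoFourTen
open Cfsg.Lib.JankoFour.BitModel (lin)
open Cfsg.Lib.J4Iso (comp idP)

/-- The members leading to the three trios. -/
def lH (i : ℕ) : ℕ := lineH.getD i 0

/-- The pairs determine their points. -/
def pairDet (a b : ℕ) : Bool := bits24.all fun x => bits24.all fun y =>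
  Nat.beq x y || !(Nat.beq (pairC x y) (pairC a b)) || (Nat.beq x a && Nat.beq y b) || (Nat.beq x b && Nat.beq y a)

/-- A member fixes the three trios by the certificates. -/
noncomputable def lineGenOK (g : ℕ) (c : List (ℕ × List ℕ)) : Bool :=
  inMat g && (List.range 3).all fun i => rOK (c.getD i (0, [])) &&
    peq (comp g (lH i)) (comp (lH i) (rVal (c.getD i (0, []))))

theorem lineH_ok : ((List.range 3).all fun i => inMat (lH i)) = true := by decide +kernel

theorem lineOct_ok : (octList.contains lineOct && Nat.beq lineFix.length 16 && Nat.beq linePairs.length 7 &&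
    (linePairs.all fun e => Nat.blt e.1 24 && Nat.blt e.2 24 && !(Nat.beq e.1 e.2) &&
      Nat.beq e.1 (linePairs.getD 0 (0, 0)).1 && pairDet e.1 e.2 && inPairs (pairC e.1 e.2)) &&
    (bits24.all fun x => !(lineOct.testBit x) || Nat.beq x (linePairs.getD 0 (0, 0)).1 ||
      linePairs.any fun e => Nat.beq e.2 x) &&
    lineFix.all (fun p => inMat p && bits24.all fun x => !(lineOct.testBit x) || Nat.beq (pget p x) x) &&
    ((List.range 16).all fun i => (List.range 16).all fun j =>
      Nat.beq i j || !(peq (lineFix.getD i 0) (lineFix.getD j 0)))) = true := by decide +kernel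

theorem lineChains_ok : ((List.range 7).all fun i =>
    let a := (pairC (linePairs.getD i (0, 0)).1 (linePairs.getD i (0, 0)).2, idP)
    (lineChains.getD i []).map Step.h == [lH 0, lH 2, lH 1] &&
      chainOK (lineChains.getD i []) a && cpeq (chainOut (lineChains.getD i []) a) a) = true := by decide +kernel

theorem lineGens_ok : ((List.range lineGens.length).all fun i =>
    lineGenOK (lineGens.getD i 0) (lineCerts.getD i [])) = true := by decide +kernel

theorem lineCent_ok : (lineFix.all fun k => (List.range 2048).all fun v =>
    !(lineGens.all fun g => ccomm (0, g) (v, k)) || ((Nat.beq v 0 || Nat.beq v lineVec) && peq k idP)) = true := by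
  decide +kernel

theorem quad_ok : (quadG.all inMat && quadH.all inMat && Nat.beq quadG.length 4 && Nat.beq quadH.length 6 &&
    Nat.blt lineVec 2048 &&
    ((List.range 4).all fun j => (List.range 3).all fun i =>
      let g := quadG.getD j 0
      let a := [[0, 1, 2], [1, 3, 4], [2, 3, 5], [0, 4, 5]].getD j []
      let r := (quadR.getD j []).getD i (0, [])
      rOK r && peq (comp g (lH ([1, 2, 0].getD i 0))) (comp (quadH.getD (a.getD i 0) 0) (rVal r))) &&
    Nat.beq quadStep.h (quadH.getD 0 0) && quadStep.ok (lin (actL (quadG.getD 1 0)) lineVec, idP) &&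
    !(peq (quadStep.out (lin (actL (quadG.getD 1 0)) lineVec, idP)).2 idP)) = true := by decide +kernel

end Cfsg.Lib.JankoFourOrder
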