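import Cfsg.Agent.Lib.JankoFourOrder.Main
import Cfsg.Agent.Lib.J4Real.CentUpper

/-!
# The seven orbits of the normalizer of a group of order `2¹¹` on its cosets
-/

set_option autoImplicit false
set_option maxRecDepth 100000
set_option linter.style.haveILetI false
set_option linter.unusedSectionVars false

namespace Cfsg.Lib.JankoFourOrder

open Cfsg Cfsg.Lib.JankoFour
open Cfsg.Lib.J4Real (Gsub Msub gRep orbitSet cosetNum Coset)

universe u

theorem gRep_mem {j : ℕ} (hj : j < 7) : gRep j ∈ Gsub :=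
  J4Real.wp_mem_G fun g hg => by
    have h := List.all_eq_true.1 (J4Real.hCheck_parts hj).2.1 g hg
    rw [Nat.blt_eq] at h
    omega

/-- The orbits, transported. -/
theorem orbits_of_equiv {G : Type u} [Group G] [Finite G] {N : Subgroup G} (e : ↥Gsub ≃* G)
    (he : ∀ x : ↥Gsub, e x ∈ N ↔ (x : Equiv.Perm J4Real.Vec) ∈ Msub) :
    ∃ c : Fin 7 → G ⧸ N, (∀ i j : Fin 7, i ≠ j → MulAction.orbit ↥N (c i) ≠ MulAction.orbit ↥N (c j)) ∧
      (∀ q : G ⧸ N, ∃ i : Fin 7, q ∈ MulAction.orbit ↥N (c i)) ∧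
      (List.ofFn fun i => (MulAction.orbit ↥N (c i)).ncard) =
        [1, 15180, 28336, 3400320, 32643072, 54405120, 82575360] := by
  have key : ∀ a b : G, a⁻¹ * b ∈ N ↔
      ((e.symm a : Equiv.Perm J4Real.Vec))⁻¹ * (e.symm b : Equiv.Perm J4Real.Vec) ∈ Msub := by
    intro a b
    have h := he (e.symm (a⁻¹ * b))
    rw [MulEquiv.apply_symm_apply, map_mul, map_inv, Subgroup.coe_mul, Subgroup.coe_inv] at h
    exact h
  let Ψ : G ⧸ N → Coset := Quotient.lift (fun a => (QuotientGroup.mk (e.symm a : Equiv.Perm J4Real.Vec) : Coset))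
    fun a b hab => QuotientGroup.eq.2 ((key a b).1 (QuotientGroup.leftRel_apply.1 hab))
  have hmk : ∀ a : G, Ψ (QuotientGroup.mk a) = QuotientGroup.mk (e.symm a : Equiv.Perm J4Real.Vec) := fun _ => rfl
  have hinj : Function.Injective Ψ := by
    intro p q h
    induction p using QuotientGroup.induction_on with
    | H a =>
      induction q using QuotientGroup.induction_on with
      | H b =>
        rw [hmk, hmk, QuotientGroup.eq] at h
        exact QuotientGroup.eq.2 ((key a b).2 h)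
  let c : Fin 7 → G ⧸ N := fun i => QuotientGroup.mk (e ⟨gRep i, gRep_mem i.isLt⟩)
  have himg : ∀ i : Fin 7, Ψ '' MulAction.orbit ↥N (c i) = orbitSet i := by
    intro i
    ext q
    constructor
    · rintro ⟨_, ⟨n, rfl⟩, rfl⟩
      refine ⟨⟨(e.symm (n : G) : Equiv.Perm J4Real.Vec), (he _).1 (by rw [MulEquiv.apply_symm_apply]; exact n.2)⟩,
        ?_⟩
      show _ = Ψ (QuotientGroup.mk ((n : G) * e ⟨gRep i, gRep_mem i.isLt⟩))
      rw [hmk, map_mul, MulEquiv.symm_apply_apply, Subgroup.coe_mul]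
    · rintro ⟨m, rfl⟩
      refine ⟨_, ⟨⟨e ⟨m.1, J4Real.M_le_G m.2⟩, (he _).2 m.2⟩, rfl⟩, ?_⟩
      show Ψ (QuotientGroup.mk (e ⟨m.1, J4Real.M_le_G m.2⟩ * e ⟨gRep i, gRep_mem i.isLt⟩)) = _
      rw [hmk, ← map_mul, MulEquiv.symm_apply_apply]
      rfl
  have hcard : ∀ i : Fin 7, (MulAction.orbit ↥N (c i)).ncard = cosetNum.getD i 0 := fun i => by
    rw [← Set.ncard_image_of_injective _ hinj, himg, J4Real.orbitSet_card_eq i.isLt]
  refine ⟨c, fun i j hij h => hij ?_, fun q => ?_, ?_⟩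
  · have h' := congrArg Set.ncard h
    rw [hcard, hcard] at h'
    revert h'
    clear h hij
    revert i j
    decide
  · induction q using QuotientGroup.induction_on with
    | H a =>
      have hm : (QuotientGroup.mk (e.symm a : Equiv.Perm J4Real.Vec) : Coset) ∈ J4Real.baseOrbit :=
        ⟨e.symm a, by
          show (QuotientGroup.mk ((e.symm a : Equiv.Perm J4Real.Vec) * 1) : Coset) = _
          rw [mul_one]⟩
      rw [J4Real.orbit_eq] at hm
      obtain ⟨j, hj, hq⟩ := hm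
      rw [← hmk, ← himg ⟨j, hj⟩] at hq
      obtain ⟨p, hp, hpq⟩ := hq
      exact ⟨⟨j, hj⟩, hinj hpq ▸ hp⟩
  · simp [hcard, List.ofFn_succ, cosetNum]

variable {G : Type u} [Group G] [Finite G] [IsSimpleGroup G]

/-- The index and the orbits. -/
theorem index_orbits_of_type (hG : ¬ IsMulCommutative G) {z : G} (hJ : Cfsg.IsOfJankoFourTypeAt z) {V : Subgroup G}
    (hV : Cfsg.IsElementaryAbelian 2 V) (hcard : Nat.card ↥V = 2 ^ 11) :
    (Subgroup.normalizer (V : Set G)).index = 173067389 ∧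
      ∃ c : Fin 7 → G ⧸ Subgroup.normalizer (V : Set G),
        (∀ i j : Fin 7, i ≠ j → MulAction.orbit ↥(Subgroup.normalizer (V : Set G)) (c i) ≠
          MulAction.orbit ↥(Subgroup.normalizer (V : Set G)) (c j)) ∧
        (∀ q : G ⧸ Subgroup.normalizer (V : Set G), ∃ i : Fin 7,
          q ∈ MulAction.orbit ↥(Subgroup.normalizer (V : Set G)) (c i)) ∧
        (List.ofFn fun i => (MulAction.orbit ↥(Subgroup.normalizer (V : Set G)) (c i)).ncard) =
          [1, 15180, 28336, 3400320, 32643072, 54405120, 82575360] := by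
  obtain ⟨F, S, -, ⟨O⟩⟩ := exists_order_setting hG hJ
  obtain ⟨g, hg⟩ := S.conj_big (isBig_of_elementary hV hcard)
  have hN : ∀ {x : G}, x ∈ Subgroup.normalizer (V : Set G) ↔ g * x * g⁻¹ ∈ S.NV := S.map_normalizer hg
  refine ⟨?_, orbits_of_equiv ((J4Iso.isoG.symm.trans O.iso).trans (MulAut.conj g⁻¹)) fun x => ?_⟩
  · have hmap : Subgroup.normalizer (V : Set G) = S.NV.map (MulAut.conj g⁻¹).toMonoidHom := by
      ext x
      rw [hN, Subgroup.mem_map_equiv, MulAut.conj_symm_apply, inv_inv]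
    rw [hmap]
    exact (Subgroup.index_map_equiv S.NV (MulAut.conj g⁻¹)).trans O.index_NV
  · rw [hN, ← O.emb_mem_NV_iff]
    show g * (g⁻¹ * O.emb x * g⁻¹⁻¹) * g⁻¹ ∈ S.NV ↔ _
    rw [show g * (g⁻¹ * O.emb x * g⁻¹⁻¹) * g⁻¹ = O.emb x by group]

end Cfsg.Lib.JankoFourOrder
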