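import Cfsg.Agent.Lib.JankoFourOrder.ShapeType
import Cfsg.Agent.Lib.Core.Layer
import Cfsg.Prelude.Def_Spor_Mathieu
import Cfsg.Prelude.Def_MonsterType

/-!
# The two printed shapes of the centralizer give Janko-four type
-/

set_option autoImplicit false
set_option maxRecDepth 20000
set_option linter.style.haveILetI false
set_option linter.unusedSectionVars false

namespace Cfsg.Lib.JankoFourOrder

open Cfsg
open Cfsg.Lib.JankoFour.AutM22 (A22 card_aut card_inner inner_normal inner_simple)

/-- The inner automorphisms of `M₂₂`. -/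
local notation "inner22" => Cfsg.Lib.JankoFour.AutM22.inner

/-- A group with an extraspecial subgroup is not commutative. -/
theorem not_comm_of_extraspecial {G : Type*} [Group G] {H : Subgroup G} {Q : Subgroup ↥H}
    (hQ : Cfsg.IsExtraspecial 2 ↥Q) : ¬ IsMulCommutative G := by
  intro hc
  have h1 : Subgroup.center ↥Q = ⊥ := by
    rw [← hQ.1.2.2, commutator_def, Subgroup.commutator_eq_bot_iff_le_centralizer]
    intro a _
    refine Subgroup.mem_centralizer_iff.2 fun b _ => Subtype.ext (Subtype.ext ?_)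
    haveI := hc
    exact mul_comm' ((b : ↥H) : G) ((a : ↥H) : G)
  have h2 := hQ.2
  rw [h1, Subgroup.card_bot] at h2
  norm_num at h2

theorem inner_ne_bot : (inner22 : Subgroup A22) ≠ ⊥ := fun h => by
  have := card_inner
  rw [h, Subgroup.card_bot] at this
  norm_num at this

/-- The inner automorphisms are their own derived group. -/
theorem inner_perfect : ⁅(inner22 : Subgroup A22), inner22⁆ = inner22 := by
  haveI := inner_normal
  haveI := inner_simple
  rw [← Subgroup.map_subtype_commutator]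
  rcases IsSimpleGroup.eq_bot_or_eq_top_of_normal (commutator ↥(inner22)) inferInstance with h | h
  · exfalso
    rw [commutator_def, Subgroup.commutator_eq_bot_iff_le_centralizer] at h
    refine inner_ne_bot (le_bot_iff.1 (le_of_le_of_eq ?_ Cfsg.Lib.JankoFour.AutM22.centralizer_inner))
    exact fun a ha => Subgroup.mem_centralizer_iff.2 fun b hb => congrArg Subtype.val
      (Subgroup.mem_centralizer_iff.1 (h (Subgroup.mem_top ⟨a, ha⟩)) ⟨b, hb⟩ (Subgroup.mem_top _))
  · rw [h, ← MonoidHom.range_eq_map, Subgroup.range_subtype]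

/-- A normal subgroup of index two in `Aut M₂₂` is the group of inner automorphisms. -/
theorem eq_inner {K : Subgroup A22} (hK : K.index = 2) : K = inner22 := by
  haveI := Subgroup.normal_of_index_eq_two hK
  haveI := inner_simple
  have hc : Nat.card ↥K = 443520 := by
    have h := K.card_mul_index
    rw [hK, card_aut] at h
    omega
  refine (Subgroup.eq_of_le_of_card_ge ?_ (by rw [hc, card_inner])).symm
  rcases IsSimpleGroup.eq_bot_or_eq_top_of_normal _ (Subgroup.Normal.subgroupOf (H := K) inferInstance inner22) with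
    h | h
  · exfalso
    rw [Subgroup.subgroupOf_eq_bot, disjoint_iff] at h
    refine inner_ne_bot (le_bot_iff.1 fun a ha => ?_)
    have hsq : a * a ∈ K ⊓ inner22 :=
      ⟨pow_two a ▸ hK ▸ Subgroup.pow_index_mem K a, mul_mem ha ha⟩
    rw [h, Subgroup.mem_bot] at hsq
    haveI : Fintype ↥(inner22) := Fintype.ofFinite _
    have hexp : ∀ b : ↥(inner22), b ^ 2 = 1 := fun b => Subtype.ext (by
      have hb : (b : A22) * b ∈ K ⊓ inner22 :=
        ⟨pow_two (b : A22) ▸ hK ▸ Subgroup.pow_index_mem K (b : A22), mul_mem b.2 b.2⟩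
      rw [h, Subgroup.mem_bot] at hb
      rw [Subgroup.coe_pow, pow_two, hb, Subgroup.coe_one])
    exfalso
    haveI : Fact (Nat.Prime 2) := ⟨Nat.prime_two⟩
    obtain ⟨k, hk⟩ := IsPGroup.iff_card.1 (show IsPGroup 2 ↥(inner22) from fun b => ⟨1, by rw [pow_one]; exact hexp b⟩)
    rw [card_inner] at hk
    have h11 : 11 ∣ 2 ^ k := hk ▸ (by norm_num : 11 ∣ 443520)
    exact absurd (Nat.Prime.dvd_of_dvd_pow (by norm_num) h11) (by norm_num)
  · exact Subgroup.subgroupOf_eq_top.1 h

variable {G : Type*} [Group G] [Finite G]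

/-- The shape with `M` of index two. -/
theorem type_of_index_two {t : G} (ht : orderOf t = 2) (Q N M : Subgroup ↥(Subgroup.centralizer ({t} : Set G)))
    [Q.Normal] [N.Normal] [M.Normal] (hQN : Q ≤ N) (hNM : N ≤ M) (hM : M.index = 2)
    (hQ : Cfsg.IsExtraspecial 2 ↥Q) (hcard : Nat.card ↥Q = 2 ^ 13) (hN : Nat.card ↥N = 3 * Nat.card ↥Q)
    (hcent : ⁅M, N⁆ ≤ Q) (hperf : M ≤ ⁅M, M⁆ ⊔ Q)
    (h2c : Subgroup.centralizer (Q : Set ↥(Subgroup.centralizer ({t} : Set G))) ≤ Q)
    (hout : ∀ c : ↥(Subgroup.centralizer ({t} : Set G)), (∀ m ∈ M, c * m * c⁻¹ * m⁻¹ ∈ N) → c ∈ M)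
    (hM22 : Cfsg.Spor.IsoM22 (↥M ⧸ N.subgroupOf M)) : Cfsg.IsOfJankoFourTypeAt t := by
  classical
  obtain ⟨e0⟩ := hM22
  haveI : IsSimpleGroup ↥Cfsg.Spor.M22 := Cfsg.Lib.Concrete.isSimple_sporM22
  set π := QuotientGroup.mk' N
  let Mb : Subgroup (↥(Subgroup.centralizer ({t} : Set G)) ⧸ N) := M.map π
  haveI : Mb.Normal := (inferInstance : M.Normal).map π (QuotientGroup.mk'_surjective N)
  let ρ : ↥M →* ↥Mb := π.subgroupMap M
  have hρ : ρ.ker = N.subgroupOf M := by
    ext m
    rw [MonoidHom.mem_ker, Subgroup.mem_subgroupOf, ← QuotientGroup.eq_one_iff (N := N)]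
    exact Subtype.ext_iff
  let e : ↥Mb ≃* ↥Cfsg.Spor.M22 :=
    ((QuotientGroup.quotientKerEquivOfSurjective ρ (π.subgroupMap_surjective M)).symm.trans
      (QuotientGroup.quotientMulEquivOfEq hρ)).trans e0
  let ψ : (↥(Subgroup.centralizer ({t} : Set G)) ⧸ N) →* A22 :=
    (MulAut.congr e).toMonoidHom.comp MulAut.conjNormal
  let θ := ψ.comp π
  have hval : ∀ c (q : ↥Cfsg.Spor.M22), θ c q = e (MulAut.conjNormal (π c) (e.symm q)) := fun c q => rfl
  have hNle : N ≤ θ.ker := fun n hn => by
    rw [MonoidHom.mem_ker]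
    show ψ (π n) = 1
    rw [show π n = 1 from (QuotientGroup.eq_one_iff n).2 hn, map_one]
  have hMb : ∀ m : ↥M, θ (m : _) = MulAut.conj (e (ρ m)) := fun m => by
    refine MulEquiv.ext fun q => ?_
    rw [hval, MulAut.conj_apply, show q = e (e.symm q) from (e.apply_symm_apply q).symm, ← map_inv, ← map_mul,
      ← map_mul, e.symm_apply_apply]
    congr 1
  have hker : θ.ker = N := by
    refine le_antisymm (fun c hc => ?_) hNle
    rw [MonoidHom.mem_ker] at hc
    have hcM : c ∈ M := hout c fun m hm => by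
      have h := congrArg (fun f : A22 => e.symm (f (e (ρ ⟨m, hm⟩)))) hc
      simp only [hval, MulEquiv.symm_apply_apply, MulAut.one_apply] at h
      have h' : π c * π m * (π c)⁻¹ = π m := congrArg Subtype.val h
      rw [← QuotientGroup.eq_one_iff (N := N)]
      show π (c * m * c⁻¹ * m⁻¹) = 1
      rw [map_mul, map_mul, map_mul, map_inv, map_inv, h', mul_inv_cancel]
    have h1 : MulAut.conj (e (ρ ⟨c, hcM⟩)) = 1 := (hMb ⟨c, hcM⟩).symm.trans hc
    have h2 := Cfsg.Lib.JankoFour.AutM22.conj_injective (h1.trans (map_one _).symm)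
    have h3 : ρ ⟨c, hcM⟩ = 1 := e.injective (h2.trans (map_one e).symm)
    have : (⟨c, hcM⟩ : ↥M) ∈ N.subgroupOf M := hρ ▸ MonoidHom.mem_ker.2 h3
    exact Subgroup.mem_subgroupOf.1 this
  have hcardq : Nat.card (↥(Subgroup.centralizer ({t} : Set G)) ⧸ N) = 887040 := by
    rw [← Subgroup.index_eq_card, ← Subgroup.relIndex_mul_index hNM, hM]
    show (N.subgroupOf M).index * 2 = _
    rw [Subgroup.index_eq_card, Nat.card_congr e0.toEquiv, Cfsg.Lib.Concrete.card_sporM22]
  have hψinj : Function.Injective ψ := by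
    rw [← MonoidHom.ker_eq_bot_iff, Subgroup.eq_bot_iff_forall]
    intro q hq
    obtain ⟨c, rfl⟩ := QuotientGroup.mk'_surjective N q
    exact (QuotientGroup.eq_one_iff c).2 (hker ▸ MonoidHom.mem_ker.2 (MonoidHom.mem_ker.1 hq))
  have hsurj : Function.Surjective θ :=
    ((Nat.bijective_iff_injective_and_card ψ).2 ⟨hψinj, by rw [hcardq, card_aut]⟩).2.comp
      (QuotientGroup.mk'_surjective N)
  have hM' : (inner22).comap θ = M := by
    rw [← eq_inner (K := M.map θ) (by
      rw [Subgroup.index_map, MonoidHom.range_eq_top_of_surjective θ hsurj, Subgroup.index_top, mul_one, hker,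
        sup_eq_left.2 hNM, hM]),
      Subgroup.comap_map_eq, hker, sup_eq_left.2 hNM]
  let σ : Shape ↥(Subgroup.centralizer ({t} : Set G)) :=
    { Q := Q, N := N, θ := θ, normalQ := inferInstance, le := hQN, isTwo := hQ.1.1, ker := hker, surj := hsurj
      card_N := hN
      comm := fun m hm n hn => by
        have hmM : m ∈ M := hM' ▸ hm
        exact hcent (Subgroup.commutator_mem_commutator hmM hn)
      perf := by rw [hM']; exact hperf }
  exact type_of_shape σ ht hQ hcard h2c

/-- The shape with a quotient isomorphic to `Aut M₂₂` and the factor of order three not complemented. -/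
theorem type_of_nonsplit {τ : G} (Q N : Subgroup ↥(Subgroup.centralizer ({τ} : Set G))) [Q.Normal] [N.Normal]
    (hS : Cfsg.IsExtraspecialCentralizerSetting τ Q 6) (hQN : Q ≤ N) (hN3 : Nat.card ↥N = 3 * Nat.card ↥Q)
    (hns : ∀ K : Subgroup ↥(Subgroup.centralizer ({τ} : Set G)), K ⊓ N = Q → K ⊔ N = ⊤ → False)
    (hAut : Nonempty (↥(Subgroup.centralizer ({τ} : Set G)) ⧸ N ≃* MulAut ↥Cfsg.Spor.M22)) :
    Cfsg.IsOfJankoFourTypeAt τ := by
  classical
  obtain ⟨hτ, hF, hQ, hcard, -⟩ := hS
  obtain ⟨e⟩ := hAut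
  haveI := inner_normal
  haveI := inner_simple
  haveI : Fact (Nat.Prime 2) := ⟨Nat.prime_two⟩
  haveI : Fact (Nat.Prime 3) := ⟨Nat.prime_three⟩
  set θ : ↥(Subgroup.centralizer ({τ} : Set G)) →* A22 := e.toMonoidHom.comp (QuotientGroup.mk' N)
  have hsurj : Function.Surjective θ := e.surjective.comp (QuotientGroup.mk'_surjective N)
  have hker : θ.ker = N := by
    ext c
    rw [MonoidHom.mem_ker]
    show e (QuotientGroup.mk' N c) = 1 ↔ _
    rw [MulEquiv.map_eq_one_iff, QuotientGroup.mk'_apply, QuotientGroup.eq_one_iff]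
  set ν := QuotientGroup.mk' Q
  have hνN : Nat.card ↥(N.map ν) = 3 := by
    have h := (ν.subgroupMap N).ker.card_mul_index
    rw [Subgroup.index_ker, MonoidHom.range_eq_top_of_surjective _ (ν.subgroupMap_surjective N), Subgroup.card_top,
      hN3, show (ν.subgroupMap N).ker = Q.subgroupOf N by
        ext n
        rw [MonoidHom.mem_ker, Subgroup.mem_subgroupOf, ← QuotientGroup.eq_one_iff (N := Q)]
        exact Subtype.ext_iff,
      Nat.card_congr (Subgroup.subgroupOfEquivOfLe hQN).toEquiv, mul_comm] at h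
    exact Nat.eq_of_mul_eq_mul_right Nat.card_pos h
  -- the centralizer of the factor of order three
  let S : Subgroup ↥(Subgroup.centralizer ({τ} : Set G)) := (Subgroup.centralizer (N.map ν : Set _)).comap ν
  have hsq : ∀ c, c * c ∈ S := by
    intro c
    refine Subgroup.mem_centralizer_iff.2 fun u hu => ?_
    obtain ⟨n, hn, rfl⟩ := hu
    have hcn : ∀ v ∈ N.map ν, ν c * v * (ν c)⁻¹ ∈ N.map ν := fun v hv =>
      ((inferInstance : N.Normal).map ν (QuotientGroup.mk'_surjective Q)).conj_mem v hv _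
    rcases eq_or_ne (ν n) 1 with h1 | h1
    · rw [h1, one_mul, mul_one]
    have hgen : Subgroup.zpowers (ν n) = N.map ν := by
      refine Subgroup.eq_of_le_of_card_ge (Subgroup.zpowers_le.2 ⟨n, hn, rfl⟩) ?_
      have hd : orderOf (ν n) ∣ 3 := by
        rw [← hνN, ← Subgroup.orderOf_mk (H := N.map ν) (ν n) (Subgroup.mem_map_of_mem ν hn)]
        exact orderOf_dvd_natCard _
      rw [hνN, Nat.card_zpowers, ((Nat.dvd_prime Nat.prime_three).1 hd).resolve_left (mt orderOf_eq_one_iff.1 h1)]
    have h3 : ν n ^ 3 = 1 := by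
      rw [← hνN]
      exact congrArg Subtype.val (pow_card_eq_one' (x := (⟨ν n, n, hn, rfl⟩ : ↥(N.map ν))))
    obtain ⟨i, hi⟩ := (Submonoid.mem_powers_iff _ _).1
      (mem_powers_iff_mem_zpowers.2 (hgen ▸ hcn _ ⟨n, hn, rfl⟩))
    have hii : ν c * (ν c * ν n * (ν c)⁻¹) * (ν c)⁻¹ = ν n := by
      rw [← hi, ← conj_pow, ← hi, ← pow_mul, pow_eq_pow_mod _ h3]
      have hi3 : i % 3 ≠ 0 := fun e0 => h1 (by
        rw [pow_eq_pow_mod _ h3, e0, pow_zero] at hi
        exact conj_eq_one_iff.1 hi.symm)
      rw [Nat.mul_mod]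
      have hlt : i % 3 = 1 ∨ i % 3 = 2 := by omega
      rcases hlt with e0 | e0 <;> rw [e0] <;> exact pow_one _
    rw [map_mul]
    conv_lhs => rw [← hii]
    group
  have hNS : N ≤ S := fun m hm => by
    refine Subgroup.mem_centralizer_iff.2 fun u hu => ?_
    haveI : IsCyclic ↥(N.map ν) := isCyclic_of_prime_card hνN
    letI := IsCyclic.commGroup (α := ↥(N.map ν))
    exact congrArg Subtype.val (mul_comm (⟨u, hu⟩ : ↥(N.map ν)) ⟨ν m, Subgroup.mem_map_of_mem ν hm⟩)
  have hSn : S.Normal := by
    haveI : (N.map ν).Normal := (inferInstance : N.Normal).map ν (QuotientGroup.mk'_surjective Q)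
    exact Subgroup.Normal.comap inferInstance ν
  have hMS : (inner22).comap θ ≤ S := by
    have hin : inner22 ≤ S.map θ := by
      rcases IsSimpleGroup.eq_bot_or_eq_top_of_normal _
        (Subgroup.Normal.subgroupOf (hSn.map θ hsurj) inner22) with h | h
      · exfalso
        have hexp : ∀ b : ↥(inner22), b ^ 2 = 1 := fun b => by
          obtain ⟨c, hc⟩ := hsurj b
          have hm : b ^ 2 ∈ (S.map θ).subgroupOf inner22 := Subgroup.mem_subgroupOf.2 ⟨c * c, hsq c, by
            rw [map_mul, hc, Subgroup.coe_pow, pow_two]⟩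
          rwa [h, Subgroup.mem_bot] at hm
        obtain ⟨k, hk⟩ := IsPGroup.iff_card.1 (show IsPGroup 2 ↥(inner22) from
          fun b => ⟨1, by rw [pow_one]; exact hexp b⟩)
        rw [card_inner] at hk
        have h11 : 11 ∣ 2 ^ k := hk ▸ (by norm_num : 11 ∣ 443520)
        exact absurd (Nat.Prime.dvd_of_dvd_pow (by norm_num) h11) (by norm_num)
      · exact Subgroup.subgroupOf_eq_top.1 h
    refine (Subgroup.comap_mono hin).trans ?_
    rw [Subgroup.comap_map_eq, hker, sup_eq_left.2 hNS]
  set M := (inner22).comap θ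
  have hNM : N ≤ M := hker ▸ Subgroup.ker_le_comap θ _
  have hperf : M ≤ ⁅M, M⁆ ⊔ Q := by
    set K := ⁅M, M⁆ ⊔ Q with hKdef
    have hθK : K.map θ = inner22 := by
      rw [hKdef, Subgroup.map_sup, Subgroup.map_commutator, Subgroup.map_comap_eq_self_of_surjective hsurj,
        inner_perfect, sup_eq_left]
      rintro _ ⟨q, hq, rfl⟩
      rw [show θ q = 1 from MonoidHom.mem_ker.1 (hker.symm ▸ hQN hq)]
      exact one_mem _
    have hMK : M = K ⊔ N := by
      rw [← hker, ← Subgroup.comap_map_eq, hθK]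
    by_contra hnle
    have hQK : Q ≤ K ⊓ N := le_inf le_sup_right hQN
    have hNK : ¬ N ≤ K := fun h => hnle (by rw [hMK]; exact sup_le le_rfl h)
    haveI : K.Normal := Subgroup.sup_normal _ _
    -- adjoining a Sylow 2-subgroup gives a complement
    obtain ⟨T⟩ := (inferInstance : Nonempty (Sylow 2 ↥(Subgroup.centralizer ({τ} : Set G))))
    set X := K ⊔ (T : Subgroup _)
    have hXN : X ⊓ N = Q := by
      refine le_antisymm (fun n hn => ?_) (le_inf (le_sup_right.trans le_sup_left) hQN)
      obtain ⟨hnX, hnN⟩ := Subgroup.mem_inf.1 hn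
      rw [Subgroup.mem_sup_of_normal_left] at hnX
      obtain ⟨k, hk, s, hs, rfl⟩ := hnX
      by_contra hnQ
      refine hNK fun u hu => ?_
      -- the image of the product generates the factor of order three
      have h1 : ν (k * s) ≠ 1 := fun e0 => hnQ ((QuotientGroup.eq_one_iff _).1 e0)
      have hgen : Subgroup.zpowers (ν (k * s)) = N.map ν := by
        refine Subgroup.eq_of_le_of_card_ge (Subgroup.zpowers_le.2 ⟨_, hnN, rfl⟩) ?_
        have hd : orderOf (ν (k * s)) ∣ 3 := by
          rw [← hνN, ← Subgroup.orderOf_mk (H := N.map ν) (ν (k * s)) (Subgroup.mem_map_of_mem ν hnN)]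
          exact orderOf_dvd_natCard _
        rw [hνN, Nat.card_zpowers, ((Nat.dvd_prime Nat.prime_three).1 hd).resolve_left (mt orderOf_eq_one_iff.1 h1)]
      have hsK : k * s ∈ K := by
        obtain ⟨j, hj⟩ := T.isPGroup' ⟨s, hs⟩
        set κ := QuotientGroup.mk' K
        have hj' : κ (k * s) ^ 2 ^ j = 1 := by
          rw [map_mul, show κ k = 1 from (QuotientGroup.eq_one_iff k).2 hk, one_mul, ← map_pow,
            show s ^ 2 ^ j = 1 from congrArg Subtype.val hj, map_one]
        have h3 : κ (k * s) ^ 3 = 1 := by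
          rw [← map_pow]
          refine (QuotientGroup.eq_one_iff _).2 (hQK.trans inf_le_left ?_)
          rw [← QuotientGroup.eq_one_iff (N := Q)]
          show ν ((k * s) ^ 3) = 1
          rw [map_pow, ← hνN]
          exact congrArg Subtype.val (pow_card_eq_one' (x := (⟨ν (k * s), _, hnN, rfl⟩ : ↥(N.map ν))))
        refine (QuotientGroup.eq_one_iff _).1 (orderOf_eq_one_iff.1 (Nat.eq_one_of_dvd_coprimes (a := 3) (b := 2 ^ j)
          (Nat.Coprime.pow_right _ (by norm_num)) (orderOf_dvd_of_pow_eq_one h3) (orderOf_dvd_of_pow_eq_one hj')))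
      obtain ⟨j, hj⟩ := Subgroup.mem_zpowers_iff.1 (hgen.symm ▸ Subgroup.mem_map_of_mem ν hu : ν u ∈ _)
      have hd : ((k * s) ^ j)⁻¹ * u ∈ Q := by
        rw [← QuotientGroup.eq_one_iff (N := Q)]
        show ν (((k * s) ^ j)⁻¹ * u) = 1
        rw [map_mul, map_inv, map_zpow, hj, inv_mul_cancel]
      have := mul_mem (zpow_mem hsK j) ((hQK.trans inf_le_left) hd)
      rwa [mul_inv_cancel_left] at this
    refine hns X hXN ?_
    have hle : inner22 < X.map θ := by
      refine lt_of_le_of_ne (hθK ▸ Subgroup.map_mono le_sup_left) fun heq => ?_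
      have hT := T.mapSurjective hsurj
      have hsub : ((T.mapSurjective hsurj : Sylow 2 A22) : Subgroup A22) ≤ inner22 :=
        heq ▸ Subgroup.map_mono le_sup_right
      have hd := Subgroup.card_dvd_of_le hsub
      rw [(T.mapSurjective hsurj).card_eq_multiplicity, card_aut, card_inner,
        show (887040 : ℕ) = 2 ^ 8 * 3465 by norm_num, Nat.factorization_mul (by norm_num) (by norm_num),
        Finsupp.add_apply, Nat.Prime.factorization_pow Nat.prime_two, Finsupp.single_eq_same,
        Nat.factorization_eq_zero_of_not_dvd (by norm_num : ¬ 2 ∣ 3465)] at hd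
      norm_num at hd
    have htop : X.map θ = ⊤ := by
      have hd := Subgroup.index_dvd_of_le hle.le
      rw [Cfsg.Lib.JankoFour.AutM22.index_inner] at hd
      rcases (Nat.dvd_prime Nat.prime_two).1 hd with h | h
      · exact Subgroup.index_eq_one.1 h
      · exfalso
        have h2 := (X.map θ).card_mul_index
        rw [h, card_aut] at h2
        exact hle.ne (Subgroup.eq_of_le_of_card_ge hle.le (by rw [card_inner]; omega))
    rw [← hker, ← Subgroup.comap_map_eq, htop, Subgroup.comap_top]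
  let σ : Shape ↥(Subgroup.centralizer ({τ} : Set G)) :=
    { Q := Q, N := N, θ := θ, normalQ := inferInstance, le := hQN, isTwo := hQ.1.1, ker := hker, surj := hsurj
      card_N := hN3
      comm := fun m hm n hn => by
        have h := Subgroup.mem_centralizer_iff.1 (show ν m ∈ Subgroup.centralizer (N.map ν : Set _) from hMS hm)
          (ν n) (Subgroup.mem_map_of_mem ν hn)
        rw [← QuotientGroup.eq_one_iff (N := Q)]
        show ν (m * n * m⁻¹ * n⁻¹) = 1
        rw [map_mul, map_mul, map_mul, map_inv, map_inv, ← h]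
        group
      perf := hperf }
  refine type_of_shape σ hτ hQ hcard fun c hc => ?_
  show c ∈ Q
  rw [← hF]
  exact Cfsg.Lib.Core.centralizer_generalizedFitting_le (hF.symm ▸ hc)

end Cfsg.Lib.JankoFourOrder
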