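/-! Generated data: packed permutations of the normalizer of an element of order three. -/

set_option autoImplicit false
set_option maxRecDepth 20000

namespace Cfsg.Lib.JankoFourOrder

/-- The element of order three. -/
def piP : Nat := 381985248745493877651199284581924929

/-- The translation attached to the pair. -/
def kfP : Nat := 882341369585158198895905536963874976

/-- The stabilizer of the pair. -/
def stL : List Nat := [984818244535754528103549039458486304, 725895487971383339971559185675552800, 608167165260361641911015062699608096, 312438568045017411614742451686835264, 443272442426458450000140909392528448, 507087635993911192323021612854117440, 645566805726489352346916455971820675, 849456922602267323790328833323832451, 944005789149699150263547057696412803, 886235269517067147920298922366472355, 674281626516772980309771905031737507, 265505946625712601763562330920063139]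

/-- Representatives of its orbits. -/
def stReps : List Nat := [0, 1, 6, 8]

/-- An orbit and a member leading to each point. -/
def stPts : List (Nat × Nat) := [(0, 984818244535754528103549039458486304), (1, 984818244535754528103549039458486304), (1, 312438568045017411614742451686835264), (0, 645566805726489352346916455971820675), (1, 645566805726489352346916455971820675), (1, 886235269517067147920298922366472355), (2, 984818244535754528103549039458486304), (2, 645566805726489352346916455971820675), (3, 984818244535754528103549039458486304), (3, 849456922602267323790328833323832451), (2, 849456922602267323790328833323832451), (3, 608167165260361641911015062699608096), (2, 944005789149699150263547057696412803), (3, 725895487971383339971559185675552800), (2, 886235269517067147920298922366472355), (2, 312438568045017411614742451686835264), (2, 725895487971383339971559185675552800), (2, 674281626516772980309771905031737507), (3, 645566805726489352346916455971820675), (3, 944005789149699150263547057696412803), (2, 443272442426458450000140909392528448), (2, 608167165260361641911015062699608096), (2, 507087635993911192323021612854117440), (2, 265505946625712601763562330920063139)]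

/-- Generators of the normalizer. -/
def npGens : List Nat := [423215660994604185605924491661513859, 708118859998159128144536601669212877, 376976873837831608379003918846501556, 424010243685745876275352008339234355, 381985248745493877651199284581924929]

/-- The fixed coordinates. -/
def zThree : List Nat := [63, 475, 484, 722, 749, 777, 822]

/-- A fixed element next to the pair. -/
def zNear : Nat := 484

/-- The three points of the cocycle. -/
def triPts : List Nat := [0, 1, 2]

/-- The candidates for the permutation part. -/
def kList : List Nat := [984818244535754528103549039458486304, 507087635993911192323021612854117440, 853351468622823073367187007399367808, 882341369585158198895905536963874976]

end Cfsg.Lib.JankoFourOrder
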