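import Cfsg.Agent.Lib.JankoFourOrder.Enum
import Cfsg.Agent.Lib.JankoFourOrder.ZData

/-!
# Evaluation of the checks on the normalizer of an element of order three
-/

set_option autoImplicit false
set_option maxRecDepth 100000
set_option maxHeartbeats 0

namespace Cfsg.Lib.JankoFourOrder

open Cfsg Cfsg.Lib.Concrete Cfsg.Lib.JankoFourTen
open Cfsg.Lib.JankoFour.BitModel (lin)
open Cfsg.Lib.J4Iso (comp idP)

/-- The coordinates of the pair. -/
def dC : ℕ := 9

/-- The coordinates of the other candidate. -/
def dTwist : ℕ := 63

/-- The square of the element of order three. -/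
noncomputable def piTwo : ℕ := comp piP piP

/-- A packed form normalizes the group of order three. -/
noncomputable def npOK (p : ℕ) : Bool := inMat p && (pcomm p piP || peq (comp p piP) (comp piTwo p))

/-- A packed form fixes coordinates. -/
def fixP (p v : ℕ) : Bool := Nat.beq (lin (actL p) v) v

/-- Equality of pairs on the points. -/
def cpeq (a b : ℕ × ℕ) : Bool := Nat.beq a.1 b.1 && peq a.2 b.2

/-- Two pairs commute. -/
noncomputable def ccomm (a b : ℕ × ℕ) : Bool := cpeq (cmul a b) (cmul b a)

/-- The conjugate under the element of order three. -/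
noncomputable def piConj (a : ℕ × ℕ) : ℕ × ℕ := cmul (cmul (0, piP) a) (0, piTwo)

/-- The sum of the three images of the pair. -/
noncomputable def dNorm : ℕ := dC ^^^ lin (actL piP) dC ^^^ lin (actL piP) (lin (actL piP) dC)

/-- The conditions on the permutation part. -/
noncomputable def kOK (p : ℕ) : Bool := peq (comp p p) idP && zThree.all (fixP p)

/-- The conditions on the image of the pair. -/
noncomputable def mOK (a : ℕ × ℕ) : Bool :=
  cpeq (cmul a a) cone && stL.all (fun g => ccomm (0, g) a) &&
    cpeq (cmul (cmul a (piConj a)) (piConj (piConj a))) (dNorm, idP) && ccomm a (piConj a)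

/-- The coordinates of the cocycle. -/
def chiN (p : ℕ) : ℕ := triPts.foldl (fun r a => r ^^^ pairC a (pget p a)) 0

theorem pi_facts : (npOK piP && peq (comp piP piTwo) idP && !(peq piP idP) && npGens.all npOK &&
    npGens.contains piP && stL.all (fun g => npOK g && fixP g dC) && inMat kfP && kList.all inMat &&
    zThree.all (fun z => Nat.blt z 2048 && fixP piP z) && Nat.blt dNorm 2048 && fixP piP dNorm) = true := by
  decide +kernel

theorem near_facts : (zThree.contains zNear && !(Nat.beq zNear 0) && !(inPairs zNear) && inPairs dC &&
    inPairs (dC ^^^ zNear)) = true := by decide +kernel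

theorem cent_data : centData stL stReps stPts = true := by decide +kernel

theorem cent_ok : centOK stL stReps stPts kOK kList = true := by decide +kernel

theorem image_ok : (kList.all fun k => peq k idP || (List.range 2048).all fun v =>
    !(mOK (v, k)) || (peq k kfP && (Nat.beq v dC || Nat.beq v dTwist))) = true := by decide +kernel

theorem centre_ok : (kList.all fun k => (List.range 2048).all fun v =>
    !(npGens.all fun g => ccomm (0, g) (v, k)) || (Nat.beq v 0 && peq k idP)) = true := by decide +kernel

theorem twist_ok : (triPts.all (fun a => Nat.blt a 24) && Nat.beq (chiN piP) 0 &&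
    Nat.beq (dC ^^^ chiN kfP) dTwist) = true := by decide +kernel

end Cfsg.Lib.JankoFourOrder
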