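import Cfsg.Agent.Lib.JankoFour.Results
import Cfsg.Agent.Lib.JankoFourOrder.ZChecks

/-!
# The involution central in the centralizer of an element of order three
-/

set_option autoImplicit false
set_option maxRecDepth 100000
set_option linter.style.haveILetI false
set_option linter.unusedSectionVars false

namespace Cfsg.Lib.JankoFourOrder

open Cfsg Cfsg.Lib.Concrete Cfsg.Lib.JankoFour Cfsg.Lib.JankoFourTen
open Cfsg.Lib.JankoFour.BitModel (lin)
open Cfsg.Lib.J4Iso (comp idP)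
open Cfsg.Lib.FusionSys.MathieuCert (toPerm)

attribute [local irreducible] toPerm

variable {G : Type*} [Group G] [Finite G] {A : Type} [Group A] {I : Subgroup A} {F : Frame G A I}
  {D : HexData A I} {S : Std F D}

theorem cpeq_of_eq (P : TenSetup S) {a b : ℕ × ℕ} (ha : Ok a) (hb : Ok b) (h : cval P a = cval P b) :
    cpeq a b = true := by
  obtain ⟨h1, h2⟩ := cval_inj P ha hb h
  rw [cpeq, Bool.and_eq_true, Nat.beq_eq]
  exact ⟨h1, List.all_eq_true.2 fun i hi => Nat.beq_eq.mpr (h2 i (mem_bits24.1 hi))⟩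

theorem ccomm_of_commute (P : TenSetup S) {a b : ℕ × ℕ} (ha : Ok a) (hb : Ok b)
    (h : Commute (cval P a) (cval P b)) : ccomm a b = true :=
  cpeq_of_eq P (ha.mul hb) (hb.mul ha) (by rw [cval_mul P ha hb, cval_mul P hb ha]; exact h)

theorem sp_of_rep (P : TenSetup S) {g : ↥Cfsg.M24} {p : ℕ} (h : Rep (g : Equiv.Perm GolayPt) p) :
    sp P p = P.sg g := by rw [sp, pM_eq h]

theorem sp_of_peq (P : TenSetup S) {p q : ℕ} (h : peq p q = true) (hq : IsPk q) : sp P p = sp P q := by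
  rw [sp, sp, pM_of_peq h hq]

/-- An involution commuting with the normalizer of the element of order three. -/
structure ZData (P : TenSetup S) (z0 : G) : Prop where
  sq : z0 * z0 = 1
  ne : z0 ≠ 1
  conj : IsConj F.z z0
  norm : ∀ n : G, n * sp P piP * n⁻¹ = sp P piP ∨ n * sp P piP * n⁻¹ = (sp P piP)⁻¹ → Commute z0 n

theorem pk_pi : IsPk piP ∧ IsPk piTwo := by
  have h := pi_facts
  simp only [npOK, Bool.and_eq_true] at h
  have hp : IsPk piP := isPk_of_inMat h.1.1.1.1.1.1.1.1.1.1.1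
  exact ⟨hp, isPk_comp hp hp⟩

theorem sp_piTwo (P : TenSetup S) : sp P piTwo = sp P piP * sp P piP ∧ sp P piTwo = (sp P piP)⁻¹ := by
  obtain ⟨hp, hp2⟩ := pk_pi
  have h1 : sp P piTwo = sp P piP * sp P piP := sp_comp P hp hp
  refine ⟨h1, eq_inv_of_mul_eq_one_right ?_⟩
  have h := pi_facts
  simp only [Bool.and_eq_true] at h
  rw [← sp_comp P hp hp2, sp_of_peq P h.1.1.1.1.1.1.1.1.1.2 isPk_idP, sp_idP]

theorem exists_zdata (P : TenSetup S) : ∃ z0, ZData P z0 := by
  obtain ⟨hp, hp2⟩ := pk_pi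
  have hy3 : sp P piP ^ 3 = 1 := by
    rw [pow_succ', pow_two, ← (sp_piTwo P).1, (sp_piTwo P).2, mul_inv_cancel]
  have hy : orderOf (sp P piP) = 3 := by
    haveI : Fact (Nat.Prime 3) := ⟨Nat.prime_three⟩
    refine orderOf_eq_prime hy3 fun e => ?_
    have h := pi_facts
    simp only [Bool.and_eq_true, Bool.not_eq_true'] at h
    have h1 := h.1.1.1.1.1.1.1.1.2
    have h2 := cpeq_of_eq P (a := (0, piP)) ⟨by norm_num, hp⟩ ok_cone
      (by rw [cval_sp, cval_cone]; exact e)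
    rw [cpeq, Bool.and_eq_true] at h2
    exact Bool.noConfusion (h1.symm.trans h2.2)
  obtain ⟨g, hg⟩ := isConj_iff.1 (F.isConj_p S.hres hy)
  refine ⟨g * F.z * g⁻¹, Frame.conj_sq_one F.ctx.sq_z, fun e => F.ctx.ne_one (conj_eq_one_iff.1 e),
    isConj_iff.2 ⟨g, rfl⟩, fun n hn => ?_⟩
  have hm : g⁻¹ * n * g ∈ Subgroup.normalizer (Subgroup.zpowers F.p : Set G) := by
    refine mem_normalizer_of_map ?_
    rw [MonoidHom.map_zpowers]
    simp only [MulEquiv.coe_toMonoidHom, MulAut.conj_apply]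
    rcases hn with h | h
    · rw [show g⁻¹ * n * g * F.p * (g⁻¹ * n * g)⁻¹ = F.p by
        calc _ = g⁻¹ * (n * (g * F.p * g⁻¹) * n⁻¹) * g := by group
          _ = F.p := by rw [hg, h, ← hg]; group]
    · rw [show g⁻¹ * n * g * F.p * (g⁻¹ * n * g)⁻¹ = F.p⁻¹ by
        calc _ = g⁻¹ * (n * (g * F.p * g⁻¹) * n⁻¹) * g := by group
          _ = F.p⁻¹ := by rw [hg, h, ← hg]; group, Subgroup.zpowers_inv]
  have hz : Commute (g⁻¹ * n * g) F.z := Subgroup.mem_centralizer_singleton_iff.1 (F.normalizer_le S.hres hm)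
  have h := hz.map (MulAut.conj g).toMonoidHom
  simp only [MulEquiv.coe_toMonoidHom, MulAut.conj_apply] at h
  rw [show g * (g⁻¹ * n * g) * g⁻¹ = n by group] at h
  exact h.symm

namespace ZData

variable {P : TenSetup S} {z0 : G} (hz : ZData P z0)
include hz

theorem comm_np {p : ℕ} (h : npOK p = true) : Commute z0 (sp P p) := by
  obtain ⟨hp, hp2⟩ := pk_pi
  rw [npOK, Bool.and_eq_true, Bool.or_eq_true] at h
  have hk := isPk_of_inMat h.1
  refine hz.norm _ (h.2.imp (fun h => ?_) fun h => ?_)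
  · refine mul_inv_eq_iff_eq_mul.2 ?_
    rw [← sp_comp P hk hp, ← sp_comp P hp hk]
    exact sp_of_peq P h (isPk_comp hp hk)
  · rw [← (sp_piTwo P).2]
    refine mul_inv_eq_iff_eq_mul.2 ?_
    rw [← sp_comp P hk hp, ← sp_comp P hp2 hk]
    exact sp_of_peq P h (isPk_comp hp2 hk)

theorem comm_fix {v : ℕ} (hv : v < 2048) (h : fixP piP v = true) : Commute z0 (P.ev v) := by
  refine hz.norm _ (Or.inl ?_)
  have e := sp_ev P pk_pi.1 hv
  rw [Nat.eq_of_beq_eq_true h] at e
  rw [← e, mul_inv_cancel_right]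

theorem comm_three {v : ℕ} (h : v ∈ zThree) : v < 2048 ∧ Commute z0 (P.ev v) := by
  have h' := pi_facts
  simp only [Bool.and_eq_true, List.all_eq_true, Nat.blt_eq] at h'
  exact ⟨(h'.1.1.2 v h).1, hz.comm_fix (h'.1.1.2 v h).1 (h'.1.1.2 v h).2⟩

theorem mem_kList {k : ↥Cfsg.M24} (hst : ∀ g ∈ stL, Commute k (pM g))
    (hk2 : k * k = 1) (hfix : ∀ z ∈ zThree, ∀ p, Rep (k : Equiv.Perm GolayPt) p → fixP p z = true) :
    ∃ p ∈ kList, Rep (k : Equiv.Perm GolayPt) p := by
  refine centOK_spec cent_data cent_ok hst fun p hp => ?_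
  rw [kOK, Bool.and_eq_true]
  exact ⟨peq_of_rep (J4Iso.rep_comp hp hp) (by rw [← Subgroup.coe_mul, hk2]; exact J4Iso.rep_idP),
    List.all_eq_true.2 fun z hzm => hfix z hzm p hp⟩

/-- A member of the normalizer with the symmetries of the image of the pair is one of the candidates. -/
theorem exists_pair {x : G} (hx : x ∈ S.NV) (hx2 : x * x = 1) (hst : ∀ g ∈ stL, Commute x (sp P g))
    (h3 : ∀ z ∈ zThree, Commute x (P.ev z)) :
    ∃ a : ℕ × ℕ, Ok a ∧ a.2 ∈ kList ∧ x = cval P a ∧ ∀ g ∈ stL, ccomm (0, g) a = true := by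
  obtain ⟨v, hv, k, rfl⟩ := exists_cval P hx
  have hpk : ∀ g ∈ stL, IsPk g := fun g hg => by
    have h' := pi_facts
    simp only [Bool.and_eq_true, List.all_eq_true, npOK] at h'
    exact isPk_of_inMat (h'.1.1.1.1.1.2 g hg).1.1
  have key : ∀ (u : ℕ) (g : ↥Cfsg.M24), u < 2048 → Commute (P.ev v * P.sg k) (P.ev u * P.sg g) →
      ∀ p q, Rep (k : Equiv.Perm GolayPt) p → Rep (g : Equiv.Perm GolayPt) q →
        Commute k g ∧ v ^^^ lin (actL p) u = u ^^^ lin (actL q) v := by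
    intro u g hu hc p q hp hq
    have e : P.ev (v ^^^ lin (actL p) u) * P.sg (k * g) = P.ev (u ^^^ lin (actL q) v) * P.sg (g * k) := by
      rw [P.ev_xor, P.ev_xor, P.sg_mul, P.sg_mul, mul_assoc (P.ev v), ← mul_assoc (P.ev (lin _ _)),
        ← P.sg_ev hp hu, mul_assoc (P.ev u), ← mul_assoc (P.ev (lin _ _)), ← P.sg_ev hq hv]
      simpa [mul_assoc] using hc.eq
    obtain ⟨e1, e2⟩ := P.decomp_unique (Nat.xor_lt_two_pow (n := 11) hv (act_lt _ _))
      (Nat.xor_lt_two_pow (n := 11) hu (act_lt _ _)) e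
    exact ⟨e2, e1⟩
  have hrep := fun g hg => (hpk g hg : Rep (pM g : Equiv.Perm GolayPt) g)
  obtain ⟨p0, hp0⟩ : ∃ p, Rep (k : Equiv.Perm GolayPt) p := ⟨packList (bits24.map fun i =>
      (gidx ((k : Equiv.Perm GolayPt) (gpt (Fin.ofNat 24 i)))).val), fun y => by
    have hlen : bits24.length = 24 := rfl
    rw [pget_packList _ (fun a ha => by
        obtain ⟨b, -, rfl⟩ := List.mem_map.1 ha; exact lt_trans (Fin.isLt _) (by norm_num)) _
        (by rw [List.length_map, hlen]; exact (gidx y).isLt),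
      List.getD_eq_getElem _ _ (by rw [List.length_map, hlen]; exact (gidx y).isLt), List.getElem_map]
    have : bits24[(gidx y).val]'(by rw [hlen]; exact (gidx y).isLt) = (gidx y).val := by
      have hget : ∀ i < 24, bits24.getD i 0 = i := by decide
      rw [← List.getD_eq_getElem _ 0, hget _ (gidx y).isLt]
    rw [this, Fin.ofNat_val_eq_self, gpt_gidx]⟩
  have hk2 : k * k = 1 := by
    have e : P.ev (v ^^^ lin (actL p0) v) * P.sg (k * k) = P.ev 0 * P.sg 1 := by
      rw [P.ev_xor, P.sg_mul, mul_assoc (P.ev v), ← mul_assoc (P.ev (lin _ _)), ← P.sg_ev hp0 hv, P.ev_zero,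
        P.sg_one, mul_one]
      simpa [mul_assoc] using hx2
    exact (P.decomp_unique (Nat.xor_lt_two_pow (n := 11) hv (act_lt _ _)) (by norm_num) e).2
  obtain ⟨p, hpl, hp⟩ := hz.mem_kList (k := k) (fun g hg => by
      exact (key 0 (pM g) (by norm_num) (by rw [P.ev_zero, one_mul]; exact hst g hg) _ _ hp0 (hrep g hg)).1)
    hk2 (fun z hzm q hq => by
      have hzl := (hz.comm_three hzm).1
      have := (key z 1 hzl (by rw [P.sg_one, mul_one]; exact h3 z hzm) q _ hq J4Iso.rep_idP).2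
      rw [show lin (actL J4Iso.idP) v = v by
        have e := P.sg_ev (g := 1) (p := J4Iso.idP) J4Iso.rep_idP hv
        rw [P.sg_one, one_mul, mul_one] at e
        exact (P.ev_inj (act_lt _ _) hv e.symm), Nat.xor_comm z v] at this
      exact Nat.beq_eq.mpr (Nat.xor_right_inj.1 this))
  refine ⟨(v, p), ⟨hv, isPk_of_rep hp⟩, hpl, by rw [cval, sp_of_rep P hp], fun g hg => ?_⟩
  refine ccomm_of_commute P ⟨by norm_num, hpk g hg⟩ ⟨hv, isPk_of_rep hp⟩ ?_
  rw [cval_sp, cval, sp_of_rep P hp]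
  exact (hst g hg).symm

theorem st_facts {g : ℕ} (hg : g ∈ stL) : IsPk g ∧ Commute z0 (sp P g) ∧ Commute (sp P g) (P.ev dC) := by
  have h := pi_facts
  simp only [Bool.and_eq_true, List.all_eq_true] at h
  obtain ⟨h1, h2⟩ := h.1.1.1.1.1.2 g hg
  have hk : IsPk g := by
    rw [npOK, Bool.and_eq_true] at h1
    exact isPk_of_inMat h1.1
  refine ⟨hk, hz.comm_np h1, ?_⟩
  have e := sp_ev P hk (show dC < 2048 by norm_num [dC])
  rwa [Nat.eq_of_beq_eq_true h2] at e

/-- It lies outside the normalizer. -/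
theorem not_mem : z0 ∉ S.NV := by
  intro hmem
  have h := pi_facts
  simp only [Bool.and_eq_true, List.all_eq_true] at h
  obtain ⟨a, ha, hal, hae, -⟩ := hz.exists_pair hmem hz.sq (fun g hg => (hz.st_facts hg).2.1)
    fun z hzm => (hz.comm_three hzm).2
  have hall : (npGens.all fun g => ccomm (0, g) a) = true := List.all_eq_true.2 fun g hg => by
    have hg' := h.1.1.1.1.1.1.1.2 g hg
    have hk : IsPk g := by
      rw [npOK, Bool.and_eq_true] at hg'
      exact isPk_of_inMat hg'.1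
    exact ccomm_of_commute P ⟨by norm_num, hk⟩ ha (by rw [cval_sp, ← hae]; exact (hz.comm_np hg').symm)
  have := List.all_eq_true.1 (List.all_eq_true.1 centre_ok a.2 hal) a.1 (List.mem_range.2 ha.1)
  rw [hall, Bool.not_true, Bool.false_or, Bool.and_eq_true] at this
  refine hz.ne ?_
  rw [hae, cval, Nat.eq_of_beq_eq_true this.1, P.ev_zero, one_mul, sp_of_peq P this.2 isPk_idP, sp_idP]

/-- The image of the pair is one of two. -/
theorem image : z0 * P.ev dC * z0 = cval P (dC, kfP) ∨ z0 * P.ev dC * z0 = cval P (dTwist, kfP) := by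
  obtain ⟨hp, hp2⟩ := pk_pi
  have h := pi_facts
  simp only [Bool.and_eq_true, List.all_eq_true, Nat.blt_eq] at h
  have hn := near_facts
  simp only [Bool.and_eq_true, Bool.not_eq_true', List.contains_iff_mem] at hn
  obtain ⟨⟨⟨⟨hn1, hn2⟩, hn3⟩, hn4⟩, hn5⟩ := hn
  obtain ⟨hsl, hsc⟩ := hz.comm_three hn1
  have hd : dC < 2048 := by norm_num [dC]
  have hzi : z0⁻¹ = z0 := inv_eq_of_mul_eq_one_right hz.sq
  have hmem : z0 * P.ev dC * z0 ∈ S.NV := by
    have := moved_mem_NV P hsl (fun e => by rw [e] at hn2; exact Bool.noConfusion hn2) hn3 hd hn4 hn5 hsc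
    rwa [hzi] at this
  have hc : ∀ {x y : G}, Commute z0 x → Commute x y → Commute (z0 * y * z0) x := fun {x y} h1 h2 =>
    ((h1.mul_left h2.symm).mul_left h1)
  obtain ⟨a, ha, hal, hae, hast⟩ := hz.exists_pair hmem
    (by rw [← mul_assoc, ← mul_assoc, mul_assoc (z0 * P.ev dC) z0 z0, hz.sq, mul_one, mul_assoc z0 (P.ev dC),
      ← P.ev_xor, Nat.xor_self, P.ev_zero, mul_one, hz.sq])
    (fun g hg => hc (hz.st_facts hg).2.1 (hz.st_facts hg).2.2)
    (fun z hzm => hc (hz.comm_three hzm).2 (S.Vb_comm (P.ev_mem _) (P.ev_mem _)))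
  have hzy : Commute z0 (sp P piP) := hz.norm _ (Or.inl (mul_inv_cancel_right _ _))
  have hy : ∀ {b u}, Ok b → u < 2048 → cval P b = z0 * P.ev u * z0 →
      Ok (piConj b) ∧ cval P (piConj b) = z0 * P.ev (lin (actL piP) u) * z0 := by
    intro b u hb hu e
    have o1 : Ok ((0 : ℕ), piP) := ⟨by norm_num, hp⟩
    have o2 : Ok ((0 : ℕ), piTwo) := ⟨by norm_num, hp2⟩
    refine ⟨(o1.mul hb).mul o2, ?_⟩
    rw [piConj, cval_mul P (o1.mul hb) o2, cval_mul P o1 hb, cval_sp, cval_sp, (sp_piTwo P).2, e,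
      ← conj_ev P hp hu]
    rw [show sp P piP * (z0 * P.ev u * z0) * (sp P piP)⁻¹ = (sp P piP * z0) * P.ev u * (z0 * (sp P piP)⁻¹) by
      group, hzy.symm.eq, hzy.inv_right.eq]
    group
  obtain ⟨o1, e1⟩ := hy ha hd hae.symm
  obtain ⟨o2, e2⟩ := hy o1 (act_lt _ _) e1
  have hmk : mOK a = true := by
    simp only [mOK, Bool.and_eq_true, List.all_eq_true]
    refine ⟨⟨⟨cpeq_of_eq P (ha.mul ha) ok_cone ?_, hast⟩, cpeq_of_eq P ((ha.mul o1).mul o2)
      ⟨h.1.2, isPk_idP⟩ ?_⟩, ccomm_of_commute P ha o1 ?_⟩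
    · rw [cval_mul P ha ha, cval_cone, ← hae, ← mul_assoc, ← mul_assoc, mul_assoc (z0 * P.ev dC) z0 z0, hz.sq,
        mul_one, mul_assoc z0 (P.ev dC), ← P.ev_xor, Nat.xor_self, P.ev_zero, mul_one, hz.sq]
    · rw [cval_mul P (ha.mul o1) o2, cval_mul P ha o1, e1, e2, ← hae, cval_ev, dNorm]
      have hcn := (hz.comm_fix h.1.2 h.2).eq
      rw [dNorm, P.ev_xor, P.ev_xor] at hcn
      rw [P.ev_xor, P.ev_xor]
      calc z0 * P.ev dC * z0 * (z0 * P.ev (lin (actL piP) dC) * z0) *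
            (z0 * P.ev (lin (actL piP) (lin (actL piP) dC)) * z0)
          = z0 * (P.ev dC * (z0 * z0) * P.ev (lin (actL piP) dC) * (z0 * z0) *
              P.ev (lin (actL piP) (lin (actL piP) dC))) * z0 := by group
        _ = _ := by rw [hz.sq, mul_one, mul_one, hcn, mul_assoc, hz.sq, mul_one]
    · rw [← hae, e1]
      have hcc := (S.Vb_comm (P.ev_mem dC) (P.ev_mem (lin (actL piP) dC))).map (MulAut.conj z0).toMonoidHom
      simp only [MulEquiv.coe_toMonoidHom, MulAut.conj_apply, hzi] at hcc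
      exact hcc
  have himg := List.all_eq_true.1 image_ok a.2 hal
  rw [Bool.or_eq_true] at himg
  have hnid : ¬ peq a.2 idP = true := fun e => by
    have hx : z0 * P.ev dC * z0⁻¹ ∈ S.Vb := by
      rw [hzi, hae, cval, sp_of_peq P e isPk_idP, sp_idP, mul_one]; exact P.ev_mem _
    obtain ⟨q1, q2⟩ := ev_pairs P hd hn4
    exact hz.not_mem (mem_NV_of_moves P (P.ev_mem _) q1 q2 hx)
  have := List.all_eq_true.1 (himg.resolve_left hnid) a.1 (List.mem_range.2 ha.1)
  rw [hmk, Bool.not_true, Bool.false_or, Bool.and_eq_true, Bool.or_eq_true, Nat.beq_eq, Nat.beq_eq] at this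
  have hk : IsPk kfP := isPk_of_inMat h.1.1.1.1.2
  rw [hae]
  refine this.2.imp (fun e => ?_) fun e => ?_ <;> rw [cval, cval, e, sp_of_peq P this.1 hk]

end ZData

/-- The shift of the points of a triple. -/
noncomputable def chiEl (P : TenSetup S) (g : ↥Cfsg.M24) : ↥S.Vb :=
  (triPts.map fun a => P.T.f (gpt (Fin.ofNat 24 a)) *
    P.T.f ((g : Equiv.Perm GolayPt) (gpt (Fin.ofNat 24 a)))).prod

theorem normAut_pair (P : TenSetup S) (g : ↥Cfsg.M24) (x y : GolayPt) :
    S.normAut (P.σ g) (P.T.f x * P.T.f y) =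
      P.T.f ((g : Equiv.Perm GolayPt) x) * P.T.f ((g : Equiv.Perm GolayPt) y) := by
  by_cases h : x = y
  · subst h
    rw [vb_sq, vb_sq, map_one]
  · rw [P.T.rel _ _ _ h, P.sec]

theorem chiEl_mul (P : TenSetup S) (g h : ↥Cfsg.M24) :
    chiEl P (g * h) = chiEl P g * S.normAut (P.σ g) (chiEl P h) := by
  rw [chiEl, chiEl, chiEl, map_list_prod, List.map_map, ← List.prod_map_mul]
  refine congrArg List.prod (List.map_congr_left fun a _ => ?_)
  rw [Function.comp_apply, normAut_pair, mul_mul_mul_comm]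
  generalize gpt (Fin.ofNat 24 a) = x
  rw [Subgroup.coe_mul, Equiv.Perm.mul_apply, mul_assoc, ← mul_assoc (P.T.f ((g : Equiv.Perm GolayPt) x))]
  rw [vb_sq, one_mul]

theorem chiEl_code (P : TenSetup S) {g : ↥Cfsg.M24} {p : ℕ} (hp : Rep (g : Equiv.Perm GolayPt) p) :
    chiEl P g = P.T.el (chiN p) := by
  have hlt : ∀ a ∈ triPts, a < 24 := fun a ha => by
    have h := twist_ok
    simp only [Bool.and_eq_true, List.all_eq_true, Nat.blt_eq] at h
    exact h.1.1 a ha
  have key : ∀ (l : List ℕ) (r : ℕ), (∀ a ∈ l, a < 24) →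
      P.T.el (l.foldl (fun r a => r ^^^ pairC a (pget p a)) r) = P.T.el r * (l.map fun a =>
        P.T.f (gpt (Fin.ofNat 24 a)) * P.T.f ((g : Equiv.Perm GolayPt) (gpt (Fin.ofNat 24 a)))).prod := by
    intro l
    induction l with
    | nil => intro r _; simp
    | cons a l ih =>
      intro r hl
      rw [List.foldl_cons, ih _ (fun b hb => hl b (List.mem_cons_of_mem _ hb)), List.map_cons, List.prod_cons,
        ← mul_assoc, P.T.el_xor, P.T.el_pair, hp, gidx_gpt, Fin.val_ofNat,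
        Nat.mod_eq_of_lt (hl a List.mem_cons_self)]
  rw [chiN, key _ _ hlt, P.T.el_zero, one_mul, chiEl]

/-- The setup with the other class of complements. -/
noncomputable def twist (P : TenSetup S) : TenSetup S where
  T := P.T
  adapted := P.adapted
  σ := MonoidHom.mk' (fun g => ⟨(chiEl P g : G), S.Vb_le_NV (chiEl P g).2⟩ * P.σ g) fun g h => Subtype.ext (by
    simp only [Subgroup.coe_mul, map_mul, chiEl_mul]
    rw [S.normAut_apply]
    group)
  sec g := by
    show P.T.ψ (_ * P.σ g) = g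
    rw [map_mul, P.sec, show P.T.ψ ⟨(chiEl P g : G), S.Vb_le_NV (chiEl P g).2⟩ = 1 by
      rw [← MonoidHom.mem_ker, P.T.ker, Subgroup.mem_subgroupOf]; exact (chiEl P g).2, one_mul]
  cen := P.cen

theorem twist_sp (P : TenSetup S) {p : ℕ} (hp : IsPk p) : sp (twist P) p = P.ev (chiN p) * sp P p := by
  show (chiEl P (pM p) : G) * (P.σ (pM p) : G) = _
  rw [chiEl_code P hp]
  rfl

/-- A complement and an involution outside with a simple effect on the pair. -/
structure OrderSetup (S : Std F D) where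
  /-- The coordinates and the complement. -/
  P : TenSetup S
  /-- The involution. -/
  z0 : G
  data : ZData P z0
  zd : z0 * P.ev dC * z0 = cval P (dC, kfP)

theorem exists_orderSetup (P : TenSetup S) : Nonempty (OrderSetup S) := by
  obtain ⟨z0, hz⟩ := exists_zdata P
  rcases hz.image with h | h
  · exact ⟨⟨P, z0, hz, h⟩⟩
  obtain ⟨hp, -⟩ := pk_pi
  have hk : IsPk kfP := by
    have h' := pi_facts
    simp only [Bool.and_eq_true] at h'
    exact isPk_of_inMat h'.1.1.1.1.2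
  have ht := twist_ok
  simp only [Bool.and_eq_true, Nat.beq_eq] at ht
  have hpi : sp (twist P) piP = sp P piP := by rw [twist_sp P hp, ht.1.2, P.ev_zero, one_mul]
  refine ⟨⟨twist P, z0, ⟨hz.sq, hz.ne, hz.conj, fun n hn => hz.norm n (hpi ▸ hn)⟩, ?_⟩⟩
  show z0 * P.ev dC * z0 = P.ev dC * sp (twist P) kfP
  rw [h, twist_sp P hk, cval, ← mul_assoc, ← P.ev_xor, ht.2]

end Cfsg.Lib.JankoFourOrder
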